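import Cfsg.Agent.Lib.CoT.Lower

/-!
Exactly three classes of involutions.
-/

set_option autoImplicit false
set_option linter.style.haveILetI false
set_option linter.unusedSectionVars false

namespace Cfsg.Agent.CoT

open Subgroup LargeExtra

variable {G : Type*} [Group G] [Finite G] {z : G} {Q : Subgroup G} {π : G → V} {ρ : G → V → V}

namespace Su

variable (S : Su z Q π ρ)
include S

theorem center_sylow : ∀ x : G, x * x = 1 → ∃ g : G, g * x * g⁻¹ * z = z * (g * x * g⁻¹) := by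
  haveI : Fact (Nat.Prime 2) := ⟨Nat.prime_two⟩
  intro x hx
  obtain ⟨T, hT⟩ := S.loc.xs.1.1.exists_le_sylow
  haveI : Nontrivial (T : Subgroup G) := by
    refine ⟨⟨⟨z, hT S.loc.mem⟩, 1, fun e => S.loc.ne_one (congrArg Subtype.val e)⟩⟩
  obtain ⟨⟨c, hc⟩, hc1⟩ : ∃ c : center ↥(T : Subgroup G), c ≠ 1 :=
    haveI := T.isPGroup'.center_nontrivial
    exists_ne 1
  have hcent : ∀ t ∈ (T : Subgroup G), (c : G) * t = t * c := fun t ht =>
    (congrArg Subtype.val (mem_center_iff.1 hc ⟨t, ht⟩)).symm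
  have hcz : (c : G) = z := by
    rcases S.loc.mem_zpowers_iff.1
      (S.loc.cent (mem_centralizer_iff.2 fun q hq => (hcent q (hT hq)).symm)) with e | e
    · exact absurd (Subtype.ext (Subtype.ext e)) hc1
    · exact e
  have hp : IsPGroup 2 (zpowers x) := by
    intro y
    refine ⟨1, Subtype.ext ?_⟩
    obtain ⟨i, hi⟩ := mem_zpowers_iff.1 y.2
    rw [SubmonoidClass.coe_pow, ← hi, ← zpow_natCast, ← zpow_mul, mul_comm, zpow_mul]
    simp [pow_two, hx]
  obtain ⟨P, hP⟩ := hp.exists_le_sylow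
  obtain ⟨k, hk⟩ := MulAction.exists_smul_eq G P T
  refine ⟨k, ?_⟩
  have hmem : k * x * k⁻¹ ∈ (T : Subgroup G) := by
    rw [← hk]
    exact ⟨x, hP (mem_zpowers x), rfl⟩
  have := hcent _ hmem
  rw [hcz] at this
  exact this.symm

end Su

theorem Pr.orderOf_x {s g a b : G} {A v : V} (P : Pr z Q π ρ s g a b A v) :
    orderOf (a * b) = 2 := by
  haveI : Fact (Nat.Prime 2) := ⟨Nat.prime_two⟩
  exact orderOf_eq_prime (by rw [pow_two, P.x_sq]) P.x_ne_one

/-- Exactly three classes of involutions. -/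
theorem Fr.three_classes {s g : G} (X : Fr z Q π ρ s g) :
    ∃ a b c : G, orderOf a = 2 ∧ orderOf b = 2 ∧ orderOf c = 2 ∧ ¬ IsConj a b ∧ ¬ IsConj a c ∧
      ¬ IsConj b c ∧ ∀ x : G, orderOf x = 2 → IsConj x a ∨ IsConj x b ∨ IsConj x c := by
  obtain ⟨s', g', aP, bP, aT, bT, R⟩ := exists_reps X
  have P : Pr z Q π ρ s' g' aP bP a0 v0 := ⟨R.X, R.se, R.haP, R.hbP, R.paP, R.vbP, lin_p⟩
  have T : Pr z Q π ρ s' g' aT bT e1 e2 := ⟨R.X, R.se, R.haT, R.hbT, R.paT, R.vbT, lin_t⟩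
  refine ⟨z, aP * bP, aT * bT, X.S.loc.orderOf_eq, P.orderOf_x, T.orderOf_x, P.not_conj_z,
    T.not_conj_z, not_conj_reps R, fun x hx => ?_⟩
  have hx2 : x * x = 1 := by rw [← pow_two, ← hx, pow_orderOf_eq_one]
  obtain ⟨k, hk⟩ := X.S.center_sylow x hx2
  refine R.done_of_conj (h := k) (R.invol_class hk ?_ fun e => ?_)
  · rw [show k * x * k⁻¹ * (k * x * k⁻¹) = k * (x * x) * k⁻¹ by group, hx2]; group
  · rw [conj_eq_one_iff.1 e, orderOf_one] at hx
    omega

end Cfsg.Agent.CoT
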