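import Mathlib.GroupTheory.Sylow
import Mathlib.GroupTheory.Nilpotent
import Mathlib.Tactic.Group

/-!
Maximal 2-subgroups of a subgroup.
-/

set_option autoImplicit false
set_option linter.style.haveILetI false

namespace Cfsg.Agent.CoT

open Subgroup

variable {G : Type*} [Group G] [Finite G]

/-- A 2-subgroup of `K`, maximal as such. -/
structure Max2 (K S : Subgroup G) : Prop where
  le : S ≤ K
  two : IsPGroup 2 S
  max : ∀ P : Subgroup G, S ≤ P → P ≤ K → IsPGroup 2 P → P = S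

theorem exists_max2 {K M : Subgroup G} (hM : M ≤ K) (h : IsPGroup 2 M) :
    ∃ S, Max2 K S ∧ M ≤ S := by
  classical
  obtain ⟨S, hS⟩ := (Set.toFinite {P : Subgroup G | M ≤ P ∧ P ≤ K ∧ IsPGroup 2 P}).exists_maximal
    ⟨M, le_rfl, hM, h⟩
  exact ⟨S, ⟨hS.1.2.1, hS.1.2.2, fun P h1 h2 h3 =>
    le_antisymm (hS.2 ⟨hS.1.1.trans h1, h2, h3⟩ h1) h1⟩, hS.1.1⟩

/-- As a Sylow subgroup of `K`. -/
def Max2.sylow {K S : Subgroup G} (h : Max2 K S) : Sylow 2 K where
  toSubgroup := S.subgroupOf K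
  isPGroup' := h.two.comap_of_injective K.subtype K.subtype_injective
  is_maximal' {Q} hQ hle := by
    have h1 : S ≤ Q.map K.subtype := fun x hx => ⟨⟨x, h.le hx⟩, hle hx, rfl⟩
    have h2 := h.max _ h1 (fun _ ⟨y, _, e⟩ => e ▸ y.2) (hQ.map _)
    refine le_antisymm (fun x hx => ?_) hle
    show (x : G) ∈ S
    rw [← h2]
    exact ⟨x, hx, rfl⟩

theorem Max2.exists_conj {K S S' : Subgroup G} (h : Max2 K S) (h' : Max2 K S') :
    ∃ l ∈ K, S.map (MulAut.conj l).toMonoidHom = S' := by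
  haveI : Fact (Nat.Prime 2) := ⟨Nat.prime_two⟩
  obtain ⟨l, hl⟩ := MulAction.exists_smul_eq K h.sylow h'.sylow
  refine ⟨l, l.2, ?_⟩
  have hsub : S.map (MulAut.conj (l : G)).toMonoidHom ≤ S' := by
    rintro _ ⟨x, hx, rfl⟩
    have : MulAut.conj l ⟨x, h.le hx⟩ ∈ (h'.sylow : Subgroup K) := by
      rw [← hl]
      exact ⟨⟨x, h.le hx⟩, hx, rfl⟩
    exact this
  refine (h'.max _ le_rfl h'.le h'.two ▸ ?_)
  refine le_antisymm hsub fun x hx => ?_
  have : (⟨x, h'.le hx⟩ : K) ∈ (h'.sylow : Subgroup K) := hx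
  rw [← hl] at this
  obtain ⟨u, hu, hue⟩ := this
  exact ⟨u, hu, congrArg Subtype.val hue⟩

theorem Max2.normal_le {K S N : Subgroup G} (h : Max2 K S) (hN : N ≤ K) (h2 : IsPGroup 2 N)
    (hn : ∀ k ∈ S, ∀ x ∈ N, k * x * k⁻¹ ∈ N) : N ≤ S := by
  have hle : S ≤ normalizer (N : Set G) := fun s hs => mem_normalizer_iff.2 fun a =>
    ⟨hn s hs a, fun ha => by simpa [mul_assoc] using hn _ (inv_mem hs) _ ha⟩
  rw [← h.max (S ⊔ N) le_sup_left (sup_le h.le hN) (h.two.to_sup_of_normal_right' h2 hle)]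
  exact le_sup_right

theorem Max2.extend {K C S : Subgroup G} (h : Max2 K S) (hKC : K ≤ C)
    (hn : ∀ n ∈ C, n ∈ normalizer (S : Set G) → n ∈ K) : Max2 C S := by
  haveI : Fact (Nat.Prime 2) := ⟨Nat.prime_two⟩
  refine ⟨h.le.trans hKC, h.two, fun P hSP hPC hP => ?_⟩
  by_contra hne
  have hlt : S.subgroupOf P < ⊤ := lt_top_iff_ne_top.2 fun e => hne
    (le_antisymm (subgroupOf_eq_top.1 e) hSP)
  haveI := hP.isNilpotent
  obtain ⟨n, hn1, hn2⟩ := SetLike.exists_of_lt (normalizerCondition_of_isNilpotent _ hlt)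
  have hnS : (n : G) ∈ normalizer (S : Set G) := mem_normalizer_iff.2 fun a => by
    have hh := mem_normalizer_iff.1 hn1
    constructor
    · intro ha; exact (hh ⟨a, hSP ha⟩).1 ha
    · intro ha
      have haP : a ∈ P := by
        simpa [mul_assoc] using P.mul_mem (P.mul_mem (P.inv_mem n.2) (hSP ha)) n.2
      exact (hh ⟨a, haP⟩).2 ha
  have hmem : (n : G) ∈ P ⊓ K := ⟨n.2, hn _ (hPC n.2) hnS⟩
  have h2 := h.max (P ⊓ K) (le_inf hSP h.le) inf_le_right (hP.to_le inf_le_left)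
  exact hn2 (show (n : G) ∈ S from h2 ▸ hmem)

/-- A non-trivial normal subgroup of a 2-group contains a central involution. -/
theorem exists_central {S N : Subgroup G} (hS : IsPGroup 2 S) (hNS : N ≤ S)
    (hn : ∀ t ∈ S, ∀ x ∈ N, t * x * t⁻¹ ∈ N) (hne : N ≠ ⊥) :
    ∃ c ∈ N, c ≠ 1 ∧ c * c = 1 ∧ ∀ t ∈ S, c * t = t * c := by
  classical
  haveI : Fact (Nat.Prime 2) := ⟨Nat.prime_two⟩
  haveI : (N.subgroupOf S).Normal := ⟨fun x hx t => hn t t.2 x hx⟩
  haveI : Nontrivial ↥(N.subgroupOf S) := by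
    obtain ⟨⟨x, hx⟩, hx1⟩ := Subgroup.ne_bot_iff_exists_ne_one.1 hne
    refine ⟨⟨⟨x, hNS hx⟩, hx⟩, 1, fun e => hx1 ?_⟩
    exact Subtype.ext (congrArg (fun w : ↥(N.subgroupOf S) => ((w : S) : G)) e)
  let A : Subgroup S := N.subgroupOf S ⊓ center S
  have hA : A ≠ ⊥ := by
    intro hbot
    -- the conjugation action on `N` has only one fixed point
    haveI := hS
    let _ : MulAction S ↥(N.subgroupOf S) :=
      { smul := fun t x => ⟨t * x * t⁻¹, Subgroup.Normal.conj_mem inferInstance _ x.2 t⟩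
        one_smul := fun x => Subtype.ext (by show 1 * (x : S) * 1⁻¹ = x; group)
        mul_smul := fun t u x => Subtype.ext (by
          show t * u * (x : S) * (t * u)⁻¹ = t * (u * x * u⁻¹) * t⁻¹; group) }
    have h2 : 2 ∣ Nat.card ↥(N.subgroupOf S) := by
      obtain ⟨n, hn'⟩ := (hS.to_subgroup (N.subgroupOf S)).exists_card_eq
      rcases n with _ | n
      · exfalso
        rw [pow_zero, Nat.card_eq_one_iff_unique] at hn'
        exact not_subsingleton _ hn'.1
      · rw [hn', pow_succ]; exact dvd_mul_left _ _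
    have hfix : MulAction.fixedPoints S ↥(N.subgroupOf S) = {1} := by
      ext x
      constructor
      · intro hx
        have hc : (x : S) ∈ A := ⟨x.2, mem_center_iff.2 fun t =>
          mul_inv_eq_iff_eq_mul.1 (congrArg Subtype.val (hx t))⟩
        rw [hbot] at hc
        exact Subtype.ext (mem_bot.1 hc)
      · rintro rfl t
        exact Subtype.ext (by show t * (1 : S) * t⁻¹ = 1; group)
    have h3 := hS.card_modEq_card_fixedPoints (α := ↥(N.subgroupOf S))
    rw [hfix] at h3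
    rw [Nat.ModEq, Nat.mod_eq_zero_of_dvd h2] at h3
    simp at h3
  have h2 : 2 ∣ Nat.card A := by
    obtain ⟨n, hn'⟩ := (hS.to_subgroup A).exists_card_eq
    rcases n with _ | n
    · exact absurd (Subgroup.eq_bot_of_card_eq _ (by rw [hn', pow_zero])) hA
    · rw [hn', pow_succ]; exact dvd_mul_left _ _
  obtain ⟨c, hc⟩ := exists_prime_orderOf_dvd_card' 2 h2
  refine ⟨((c : S) : G), c.2.1, ?_, ?_, fun t ht => ?_⟩
  · intro e
    rw [show c = 1 from Subtype.ext (Subtype.ext e), orderOf_one] at hc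
    omega
  · have h := pow_orderOf_eq_one c
    rw [hc, pow_two] at h
    exact congrArg (fun w : A => ((w : S) : G)) h
  · exact (congrArg Subtype.val (mem_center_iff.1 c.2.2 ⟨t, ht⟩)).symm

end Cfsg.Agent.CoT
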