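import Cfsg.Agent.Lib.CoT.Upper
import Cfsg.Agent.Lib.CoT.TwoGroup

/-!
The three classes are distinct.
-/

set_option autoImplicit false
set_option linter.style.haveILetI false
set_option linter.unusedSectionVars false
set_option maxRecDepth 20000
set_option synthInstance.maxSize 4000
set_option synthInstance.maxHeartbeats 400000

namespace Cfsg.Agent.CoT

open Subgroup LargeExtra

local notation "F" => ZMod 2

/-- The linear data of a pair. -/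
structure Lin (A v : V) : Prop where
  A0 : bil A e0 = 0
  v0' : bil v e0 = 0
  qA : q A = bil A v
  qv : q v = bil A v
  vne : ¬ Eqv e0 v 0
  shift : ∀ c d : F, ∃ w, bil w e0 = 0 ∧ bil w A + bil w v = c ∧ bil w v = d
  tau : ∃ τ, IsOm τ ∧ τ e0 = e0 ∧ (∀ x, τ (τ x) = x) ∧ τ A = A + v ∧ τ v = v
  span : ∀ B, bil B e0 = 0 → (∀ u, bil u e0 = 0 → bil u A = 0 → bil u v = 0 → bil u B = 0) →
    ∃ i j : F, Eqv e0 B (sm i A + sm j v)
  pair : ∃ u₁ u₂, (bil u₁ e0 = 0 ∧ bil u₁ A = 0 ∧ bil u₁ v = 0) ∧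
    (bil u₂ e0 = 0 ∧ bil u₂ A = 0 ∧ bil u₂ v = 0) ∧ bil u₁ u₂ = 1
  comm : ∀ f f', IsOm f → IsOm f' → f e0 = e0 → f' e0 = e0 →
    (∀ u, bil u e0 = 0 → bil u A = 0 → bil u v = 0 → f u = u ∧ f' u = u) →
    Eqv e0 (f A) A → Eqv e0 (f' A) A → Eqv e0 (f v) v → Eqv e0 (f' v) v →
    ∀ x, f (f' x) = f' (f x)

theorem span_facts : ∀ B : V, bil B e0 = 0 →
    ((∀ u, bil u e0 = 0 → bil u a0 = 0 → bil u v0 = 0 → bil u B = 0) →
      ∃ i j : F, Eqv e0 B (sm i a0 + sm j v0)) ∧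
    ((∀ u, bil u e0 = 0 → bil u e1 = 0 → bil u e2 = 0 → bil u B = 0) →
      ∃ i j : F, Eqv e0 B (sm i e1 + sm j e2)) := by
  decide +kernel

theorem lin_facts :
    (q (e3 + f3) = 1 ∧ tr v0 (tr (e3 + f3) e0) = e0 ∧ tr v0 (tr (e3 + f3) a0) = a0 + v0 ∧
      tr v0 (tr (e3 + f3) v0) = v0 ∧ bil (e3 + f3) v0 = 0) ∧
    (sg e2 f1 e0 = e0 ∧ sg e2 f1 e1 = e1 + e2 ∧ sg e2 f1 e2 = e2) ∧
    ((bil e3 e0 = 0 ∧ bil e3 a0 = 0 ∧ bil e3 v0 = 0) ∧ (bil f3 e0 = 0 ∧ bil f3 a0 = 0 ∧ bil f3 v0 = 0)) ∧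
    ((bil e3 e0 = 0 ∧ bil e3 e1 = 0 ∧ bil e3 e2 = 0) ∧ (bil f3 e0 = 0 ∧ bil f3 e1 = 0 ∧ bil f3 e2 = 0)) ∧
    bil e3 f3 = 1 ∧ ¬ Eqv e0 v0 0 ∧ ¬ Eqv e0 e2 0 ∧ q f1 = 0 ∧ bil f1 e2 = 0 ∧ bil e1 e2 = 0 ∧
    (bil e0 e1 = 0 ∧ bil e0 e2 = 0) := by
  decide +kernel

theorem lin_p : Lin a0 v0 := by
  obtain ⟨bq, -, -, bn, -, -, -, -, -, qa, ba, qv, bv, bav⟩ := base_facts
  obtain ⟨⟨qn, t0, ta, tv, hnv⟩, -, ⟨h3, h3'⟩, -, b33, hne, -⟩ := lin_facts
  refine ⟨ba, bv, qa.trans bav.symm, qv.trans bav.symm, hne, fun c d => (shift_all c d).1,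
    ⟨_, isOm_tr_tr qv qn, t0, fun x => ?_, ta, tv⟩, fun B hB => (span_facts B hB).1,
    ⟨e3, f3, h3, h3', b33⟩, ?_⟩
  · show tr v0 (tr (e3 + f3) (tr v0 (tr (e3 + f3) x))) = x
    have hc : ∀ y, tr (e3 + f3) (tr v0 y) = tr v0 (tr (e3 + f3) y) := fun y => by
      simp only [tr, bil_add_left, bil_sm_left, bil_comm v0 (e3 + f3), hnv, mul_zero, add_zero]
      abel
    rw [hc, tr_tr, tr_tr]
  · intro f f' hf hf' he he' hu hA hA' hv hv'
    have key : ∀ f, IsOm f → f e0 = e0 → (∀ u, bil u e0 = 0 → bil u a0 = 0 → bil u v0 = 0 → f u = u) →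
        Eqv e0 (f a0) a0 → Eqv e0 (f v0) v0 → ∃ w, bil w e0 = 0 ∧ ∀ x, f x = sg e0 w x := by
      intro f hf he hu hA hv
      refine hf.eq_sg bn he fun x hx => ?_
      set i := bil x v0
      set j := bil x a0
      set u := x + sm i a0 + sm j v0 with hu'
      have h1 : f u = u := hu u (by rw [hu']; simp only [bil_add_left, bil_sm_left, hx, ba, bv, mul_zero, add_zero])
        (by rw [hu']; simp only [bil_add_left, bil_sm_left, bil_self, bil_comm v0 a0, bav, mul_zero, mul_one, add_zero]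
            exact F_add_self j)
        (by rw [hu']; simp only [bil_add_left, bil_sm_left, bil_self, bav, mul_zero, mul_one, add_zero]
            exact F_add_self i)
      have hxu : x = u + sm i a0 + sm j v0 := by
        rw [hu']
        calc x = x + (sm i a0 + sm i a0) + (sm j v0 + sm j v0) := by simp only [add_self, add_zero]
          _ = _ := by abel
      have hsm : ∀ (c : F) (w : V), Eqv e0 (f w) w → Eqv e0 (f (sm c w)) (sm c w) := fun c w hw => by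
        rcases F_cases c with rfl | rfl
        · rw [sm_zero, hf.zero]; exact Eqv.refl _ _
        · rwa [sm_one]
      rw [hxu, hf.add, hf.add, h1]
      exact ((Eqv.refl e0 u).add (hsm i a0 hA)).add (hsm j v0 hv)
    obtain ⟨w, hw, h⟩ := key f hf he (fun u a b c => (hu u a b c).1) hA hv
    obtain ⟨w', hw', h'⟩ := key f' hf' he' (fun u a b c => (hu u a b c).2) hA' hv'
    intro x
    rw [h, h', h', h, sg_sg bq hw hw', sg_sg bq hw' hw, add_comm]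

theorem lin_t : Lin e1 e2 := by
  obtain ⟨bq, -, -, bn, q1, b1, q2, b2, b21, -⟩ := base_facts
  obtain ⟨-, ⟨t0, ta, tv⟩, -, ⟨h3, h3'⟩, b33, -, hne, qf, bf, b12, b01, b02⟩ := lin_facts
  refine ⟨b1, b2, q1.trans b12.symm, q2.trans b12.symm, hne, fun c d => (shift_all c d).2,
    ⟨_, isOm_sg q2 bf, t0, fun x => by rw [sg_sg q2 bf bf, add_self, sg_zero], ta, tv⟩,
    fun B hB => (span_facts B hB).2, ⟨e3, f3, h3, h3', b33⟩, ?_⟩
  intro f f' hf hf' _ _ hu _ _ _ _ x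
  have hU : ∀ f, IsOm f → (∀ u, bil u e0 = 0 → bil u e1 = 0 → bil u e2 = 0 → f u = u) →
      ∀ y, bil (dd f y) e0 = 0 ∧ bil (dd f y) e1 = 0 ∧ bil (dd f y) e2 = 0 := by
    intro f hf hu y
    have hp : ∀ u, bil u e0 = 0 → bil u e1 = 0 → bil u e2 = 0 → bil u (dd f y) = 0 := fun u a b c => by
      rw [dd, bil_add_right]
      conv_lhs => arg 1; rw [← hu u a b c]
      rw [hf.bil_eq, F_add_self]
    obtain ⟨a, b, c, h⟩ := perp3_dual _ (hp _ (bil_self e0) b01 b02) (hp _ b1 (bil_self e1) b12)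
      (hp _ b2 b21 (bil_self e2)) (hp _ h3.1 h3.2.1 h3.2.2) (hp _ h3'.1 h3'.2.1 h3'.2.2)
    rw [h]
    simp only [bil_add_left, bil_sm_left, bil_self, b1, b2, b01, b02, b21, b12, mul_zero, add_zero]
    exact ⟨trivial, trivial, trivial⟩
  obtain ⟨p0, p1, p2⟩ := hU f hf (fun u a b c => (hu u a b c).1) x
  obtain ⟨p0', p1', p2'⟩ := hU f' hf' (fun u a b c => (hu u a b c).2) x
  have e : ∀ (f : V → V) (y : V), f y = y + dd f y := fun f y => by
    rw [dd, add_comm (f y) y, ← add_assoc, add_self, zero_add]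
  calc f (f' x) = f (x + dd f' x) := by rw [← e f' x]
    _ = x + dd f x + dd f' x := by rw [hf.add, (hu _ p0' p1' p2').1, ← e f x]
    _ = x + dd f' x + dd f x := by abel
    _ = f' (x + dd f x) := by rw [hf'.add, (hu _ p0 p1 p2).2, ← e f' x]
    _ = f' (f x) := by rw [← e f x]

theorem d_image : (∀ x, q (sg e0 e2 x + x) = 0) ∧ q (sg e0 v0 f0 + f0) = 1 := by decide +kernel

variable {G : Type*} [Group G] [Finite G] {z : G} {Q : Subgroup G} {π : G → V} {ρ : G → V → V}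

/-- A representative outside `Q`, with its data. -/
structure Pr (z : G) (Q : Subgroup G) (π : G → V) (ρ : G → V → V) (s g a b : G) (A v : V) : Prop where
  X : Fr z Q π ρ s g
  se : π s = e0
  ha : a ∈ hA Q s
  hb : b ∈ hB z Q g
  pa : π a = A
  vb : Vec π ρ s b v
  L : Lin A v

/-- The common part of the radical. -/
abbrev MM (z : G) (Q : Subgroup G) (s g a b : G) : Subgroup G :=
  rad Q z (Q₁ Q g) s ⊓ centralizer ({a * b} : Set G)

namespace Fr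

variable {s g : G} (X : Fr z Q π ρ s g)
include X

theorem conj_pair {a b a₂ b₂ : G} {v v₂ : V} (ha : a ∈ hA Q s) (hb : b ∈ hB z Q g)
    (hv : Vec π ρ s b v) (ha₂ : a₂ ∈ hA Q s) (hb₂ : b₂ ∈ hB z Q g) (hv₂ : Vec π ρ s b₂ v₂) :
    a₂ * b₂ * (a * b) * (a₂ * b₂)⁻¹ = a * b *
      (zb z (bil (π a) v₂ + bil (π a₂) (π a) + bil (π a₂) v) *
        zb s (bil (π a) v₂ + bil v₂ v + bil (π a₂) v)) := by
  set e₁ := zb z (bil (π a) v₂) * zb s (bil (π a) v₂)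
  set e₂ := zb z 0 * zb s (bil v₂ v)
  set e₃ := zb z (bil (π a₂) (π a)) * zb s 0
  set e₄ := zb z (bil (π a₂) v) * zb s (bil (π a₂) v)
  have m₁ : e₁ ∈ Q ⊓ Q₁ Q g := X.zb_mem _ _
  have m₂ : e₂ ∈ Q ⊓ Q₁ Q g := X.zb_mem _ _
  have m₃ : e₃ ∈ Q ⊓ Q₁ Q g := X.zb_mem _ _
  have m₄ : e₄ ∈ Q ⊓ Q₁ Q g := X.zb_mem _ _
  have k1 : b₂ * a * b₂⁻¹ = a * e₁ := by
    rw [X.conj_rule ha hb₂ hv₂, X.E_central_A ha m₁]
  have k2 : b₂ * b * b₂⁻¹ = b * e₂ := by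
    have h3 := X.B_rule hb hb₂ hv hv₂
    rw [h3, bil_comm v v₂]
    show b * b₂ * zb s (bil v₂ v) * b₂⁻¹ = b * e₂
    rw [mul_assoc b b₂, zb_comm (X.B_comm hb₂).2, ← mul_assoc, mul_inv_cancel_right]
    simp [e₂, zb_zero]
  have k3 : a₂ * a * a₂⁻¹ = a * e₃ := by
    rw [X.S.conj_Q ha₂.1 ha.1]; simp [e₃, zb_zero]
  have k4 : a₂ * b * a₂⁻¹ = b * e₄ := X.conj_B_by_A ha₂ hb hv
  have hsum : e₃ * e₁ * (e₄ * e₂) =
      zb z (bil (π a) v₂ + bil (π a₂) (π a) + bil (π a₂) v) *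
        zb s (bil (π a) v₂ + bil v₂ v + bil (π a₂) v) := by
    rw [X.zb_mul', X.zb_mul', X.zb_mul']; congr 2 <;> ring
  have c1 := X.E_central_A ha₂ m₁
  have c2 := X.E_central_A ha₂ m₂
  have c3 := X.E_central_B hb (mul_mem m₃ m₁)
  rw [← hsum]
  calc a₂ * b₂ * (a * b) * (a₂ * b₂)⁻¹ = a₂ * (b₂ * a * b₂⁻¹ * (b₂ * b * b₂⁻¹)) * a₂⁻¹ := by group
    _ = a₂ * (a * e₁ * (b * e₂)) * a₂⁻¹ := by rw [k1, k2]
    _ = a₂ * a * a₂⁻¹ * (a₂ * e₁ * a₂⁻¹) * (a₂ * b * a₂⁻¹ * (a₂ * e₂ * a₂⁻¹)) := by group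
    _ = a * e₃ * e₁ * (b * e₄ * e₂) := by rw [k3, k4, c1, c2, mul_inv_cancel_right, mul_inv_cancel_right]
    _ = a * (e₃ * e₁ * b) * (e₄ * e₂) := by group
    _ = a * (b * (e₃ * e₁)) * (e₄ * e₂) := by rw [c3]
    _ = a * b * (e₃ * e₁ * (e₄ * e₂)) := by group

theorem rad_conj_half {k r : G} (hkz : k * z = z * k) (hks : k * s = s * k)
    (hr : r ∈ rad Q z (Q₁ Q g) s) : k * r * k⁻¹ ∈ rad Q z (Q₁ Q g) s := by
  obtain ⟨p, hp, p', hp', rfl⟩ := X.orth.exists_prod hr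
  obtain ⟨u, hu⟩ := X.B_vec hp
  rw [show k * (p * p') * k⁻¹ = k * p * k⁻¹ * (k * p' * k⁻¹) by group]
  exact mul_mem (mem_sup_left (X.conj_B hkz hks hp hu).1) (mem_sup_right (X.conj_A hkz hks hp').1)

theorem rad_conj_Q {y r : G} (hy : y ∈ Q) (hr : r ∈ rad Q z (Q₁ Q g) s) :
    y * r * y⁻¹ ∈ rad Q z (Q₁ Q g) s :=
  (mem_normalizer_iff.1 (X.orth.left_le_normalizer_rad hy) r).1 hr

end Fr

namespace Pr

variable {s g a b : G} {A v : V} (P : Pr z Q π ρ s g a b A v)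
include P

theorem hxz : a * b * z = z * (a * b) :=
  P.X.S.comm_mul (P.X.A_comm P.ha).1 (P.X.B_comm P.hb).1

theorem hxs : a * b * s = s * (a * b) :=
  ((show Commute a s from (P.X.A_comm P.ha).2).mul_left (show Commute b s from (P.X.B_comm P.hb).2)).eq

theorem rho_x (u : V) : ρ (a * b) u = sg e0 v u := by
  rw [P.X.S.rho_mul (P.X.A_comm P.ha).1 (P.X.B_comm P.hb).1, P.X.S.rho_Q P.ha.1, P.vb.2, P.se]

theorem x_notMem : a * b ∉ Q := fun h => by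
  have hE : b ∈ Q ⊓ Q₁ Q g := ⟨by simpa using Q.mul_mem (Q.inv_mem P.ha.1) h, P.hb.1⟩
  refine P.L.vne ?_
  have := P.X.vec_unique P.vb (P.X.vec_E hE)
  rwa [P.se] at this

theorem x_sq : a * b * (a * b) = 1 := by
  rw [P.X.sq_ab P.ha P.hb P.vb, P.pa, P.L.qA, P.L.qv, F_add_self, zb_zero, zb_zero, one_mul]

theorem x_ne_one : a * b ≠ 1 := fun e => P.x_notMem (e ▸ one_mem _)

theorem x_ne_z : a * b ≠ z := fun e => P.x_notMem (e ▸ P.X.S.loc.mem)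

theorem xz_conj : ∃ k, k * z = z * k ∧ k * (a * b) * k⁻¹ = a * b * z := by
  obtain ⟨w, hw, h1, h2⟩ := P.L.shift 1 0
  obtain ⟨a₂, ha₂, rfl⟩ := P.X.exists_A (v := w) (by rw [P.se, hw])
  refine ⟨a₂, P.X.S.Qz ha₂.1, ?_⟩
  have h := P.X.conj_pair P.ha P.hb P.vb ha₂ (one_mem (hB z Q g)) (P.X.vec_E (one_mem _))
  rw [mul_one, P.pa, bil_zero_right, bil_zero_left, zero_add, zero_add, zero_add, h1, h2,
    zb_one, zb_zero, mul_one] at h
  exact h

theorem s_mem : s ∈ MM z Q s g a b :=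
  ⟨mem_sup_right ⟨P.X.sQ, mem_centralizer_one.2 rfl⟩, mem_centralizer_one.2 P.hxs.symm⟩

theorem mem_M {a₂ b₂ : G} {v₂ : V} (ha₂ : a₂ ∈ hA Q s) (hb₂ : b₂ ∈ hB z Q g)
    (hv₂ : Vec π ρ s b₂ v₂) (h1 : bil A v₂ + bil (π a₂) A + bil (π a₂) v = 0)
    (h2 : bil A v₂ + bil v₂ v + bil (π a₂) v = 0) : a₂ * b₂ ∈ MM z Q s g a b := by
  refine ⟨mul_mem (mem_sup_right ha₂) (mem_sup_left hb₂), mem_centralizer_one.2 ?_⟩
  have h := P.X.conj_pair P.ha P.hb P.vb ha₂ hb₂ hv₂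
  rw [P.pa, h1, h2, zb_zero, zb_zero, mul_one, mul_one] at h
  exact mul_inv_eq_iff_eq_mul.1 h

theorem exists_M {u : V} (hu : bil u e0 = 0) : ∃ a₂ b₂, a₂ ∈ hA Q s ∧ b₂ ∈ hB z Q g ∧
    Vec π ρ s b₂ u ∧ a₂ * b₂ ∈ MM z Q s g a b := by
  obtain ⟨b₂, hb₂, hv₂⟩ := P.X.exists_B (v := u) (by rw [P.se, hu])
  obtain ⟨w, hw, h1, h2⟩ := P.L.shift (bil A u) (bil A u + bil u v)
  obtain ⟨a₂, ha₂, rfl⟩ := P.X.exists_A (v := w) (by rw [P.se, hw])
  refine ⟨a₂, b₂, ha₂, hb₂, hv₂, P.mem_M ha₂ hb₂ hv₂ ?_ ?_⟩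
  · rw [add_assoc, h1, F_add_self]
  · rw [h2, F_add_self]

theorem exists_sigma : ∃ σ τ, IsOm τ ∧ τ A = A + v ∧ τ v = v ∧ σ * z = z * σ ∧
    σ * (a * b) = a * b * σ ∧ σ * s * σ⁻¹ = s * z ∧ ρ σ = τ ∧ τ e0 = e0 ∧
    (∀ m ∈ MM z Q s g a b, σ * m * σ⁻¹ ∈ MM z Q s g a b) ∧ IsPGroup 2 (zpowers σ) := by
  obtain ⟨τ, hτ, hτ0, hτ2, hτA, hτv⟩ := P.L.tau
  obtain ⟨k, hkz, hks, hk⟩ := P.X.lift_fix hτ (by rw [P.se, hτ0])
  obtain ⟨y, hy, hyb⟩ := P.X.exists_y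
  obtain ⟨ha', pa'⟩ := P.X.conj_A hkz hks P.ha
  obtain ⟨hb', vb'⟩ := P.X.conj_B hkz hks P.hb P.vb
  rw [hk, P.pa, hτA] at pa'
  rw [hk, hτv] at vb'
  obtain ⟨d, hd, hyd, hdv⟩ := P.X.third hy hyb hb' vb'
  have hzc : ∀ c : F, zb z c ∈ hA Q s ∧ π (zb z c) = 0 := fun c => by
    rcases F_cases c with rfl | rfl
    · rw [zb_zero]; exact ⟨one_mem _, P.X.S.pi_one⟩
    · rw [zb_one]; exact ⟨⟨P.X.S.loc.mem, mem_centralizer_one.2 P.X.sz.symm⟩, P.X.S.pi_z⟩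
  set c₀ := bil (π y) (π (k * a * k⁻¹))
  set a' := k * a * k⁻¹ * zb z c₀ * d with ha'def
  have ha'' : a' ∈ hA Q s := mul_mem (mul_mem ha' (hzc c₀).1) hd
  have hdb : k * b * k⁻¹ * d = d * (k * b * k⁻¹) := by
    have hc := P.X.conj_rule hd hb' vb'
    rw [bil_comm, hdv.bil_eq vb'.1, bil_self, zb_zero, zb_zero, one_mul, one_mul] at hc
    exact mul_inv_eq_iff_eq_mul.1 hc
  have hx' : y * k * (a * b) * (y * k)⁻¹ = a' * (k * b * k⁻¹) := by
    calc y * k * (a * b) * (y * k)⁻¹ = y * (k * a * k⁻¹) * y⁻¹ * (y * (k * b * k⁻¹) * y⁻¹) := by group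
      _ = k * a * k⁻¹ * zb z c₀ * (k * b * k⁻¹ * d) := by rw [P.X.S.conj_Q hy ha'.1, hyd]
      _ = a' * (k * b * k⁻¹) := by rw [hdb, ha'def]; group
  have hpa : Eqv (π s) (π a) (π a') := by
    have hπ : π a' = A + v + π d := by
      rw [ha'def, P.X.S.pi_mul _ (mul_mem ha' (hzc c₀).1).1 _ hd.1, P.X.S.pi_mul _ ha'.1 _ (hzc c₀).1.1,
        (hzc c₀).2, add_zero, pa']
    have h2 := ((Eqv.refl (π s) (A + v)).add hdv)
    rw [← hπ, add_cancel, ← P.pa] at h2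
    exact h2.symm
  have he₁ := P.X.A_diff P.ha ha'' hpa
  have he₂ := P.X.B_diff P.hb hb' P.vb vb' (Eqv.refl _ _)
  have hE : b⁻¹ * (k * b * k⁻¹) * (a⁻¹ * a') ∈ Q ⊓ Q₁ Q g := mul_mem he₂ he₁
  have hdec : a' * (k * b * k⁻¹) = a * b * (b⁻¹ * (k * b * k⁻¹) * (a⁻¹ * a')) := by
    have hc := P.X.E_central_B hb' he₁
    calc a' * (k * b * k⁻¹) = a * ((a⁻¹ * a') * (k * b * k⁻¹)) := by group
      _ = a * ((k * b * k⁻¹) * (a⁻¹ * a')) := by rw [hc]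
      _ = _ := by group
  obtain ⟨x₁, x₂, he⟩ : ∃ x₁ x₂ : F,
      b⁻¹ * (k * b * k⁻¹) * (a⁻¹ * a') = zb z x₁ * zb s x₂ := by
    rcases P.X.mem_inter.1 hE with e | e | e | e <;> rw [e]
    · exact ⟨0, 0, by simp [zb_zero]⟩
    · exact ⟨1, 0, by simp [zb_zero, zb_one]⟩
    · exact ⟨0, 1, by simp [zb_zero, zb_one]⟩
    · exact ⟨1, 1, by rw [zb_one, zb_one, P.X.sz]⟩
  rw [he] at hdec
  obtain ⟨w, hw, h1, h2⟩ := P.L.shift x₁ x₂
  obtain ⟨a₂, ha₂, rfl⟩ := P.X.exists_A (v := w) (by rw [P.se, hw])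
  have hcp := P.X.conj_pair P.ha P.hb P.vb ha₂ (one_mem (hB z Q g)) (P.X.vec_E (one_mem _))
  rw [mul_one, P.pa, bil_zero_right, bil_zero_left, zero_add, zero_add, zero_add, h1, h2] at hcp
  set γ := a₂⁻¹ * y * k with hγ
  have ha₂i := P.X.S.comm_inv (P.X.S.Qz ha₂.1)
  have hγz : γ * z = z * γ := P.X.S.comm_mul (P.X.S.comm_mul ha₂i (P.X.S.Qz hy)) hkz
  have hγx : γ * (a * b) = a * b * γ := by
    refine mul_inv_eq_iff_eq_mul.1 ?_
    calc γ * (a * b) * γ⁻¹ = a₂⁻¹ * (y * k * (a * b) * (y * k)⁻¹) * a₂ := by rw [hγ]; group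
      _ = a₂⁻¹ * (a * b * (zb z x₁ * zb s x₂)) * a₂ := by rw [hx', hdec]
      _ = a * b := by rw [← hcp]; group
  have hγs : γ * s * γ⁻¹ = s * z := by
    have c1 : k * s * k⁻¹ = s := mul_inv_eq_iff_eq_mul.2 hks
    have c2 : a₂⁻¹ * (s * z) * a₂ = s * z := by
      rw [mul_assoc, ← ((show Commute a₂ s from (P.X.A_comm ha₂).2).mul_right
        (show Commute a₂ z from (P.X.A_comm ha₂).1)).eq, ← mul_assoc, inv_mul_cancel, one_mul]
    calc γ * s * γ⁻¹ = a₂⁻¹ * (y * (k * s * k⁻¹) * y⁻¹) * a₂ := by rw [hγ]; group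
      _ = s * z := by rw [c1, P.X.y_spec hy hyb, c2]
  have hγρ : ρ γ = τ := funext fun u => by
    rw [hγ, P.X.S.rho_mul (P.X.S.comm_mul ha₂i (P.X.S.Qz hy)) hkz,
      P.X.S.rho_Q (mul_mem (inv_mem ha₂.1) hy), hk]
  have hγM : ∀ m ∈ MM z Q s g a b, γ * m * γ⁻¹ ∈ MM z Q s g a b := by
    intro m hm
    refine ⟨?_, mem_centralizer_one.2 (((show Commute γ (a * b) from hγx).mul_left
      (show Commute m (a * b) from mem_centralizer_one.1 hm.2)).mul_left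
      (show Commute γ (a * b) from hγx).inv_left).eq⟩
    rw [show γ * m * γ⁻¹ = a₂⁻¹ * y * (k * m * k⁻¹) * (a₂⁻¹ * y)⁻¹ by rw [hγ]; group]
    exact P.X.rad_conj_Q (mul_mem (inv_mem ha₂.1) hy) (P.X.rad_conj_half hkz hks hm.1)
  have hzn : ∀ n : ℕ, γ ^ n * z = z * γ ^ n := fun n => ((show Commute γ z from hγz).pow_left n).eq
  have hMn : ∀ n : ℕ, ∀ m ∈ MM z Q s g a b, γ ^ n * m * (γ ^ n)⁻¹ ∈ MM z Q s g a b := by
    intro n
    induction n with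
    | zero => intro m hm; simpa using hm
    | succ n ih =>
      intro m hm
      rw [show γ ^ (n + 1) * m * (γ ^ (n + 1))⁻¹ = γ ^ n * (γ * m * γ⁻¹) * (γ ^ n)⁻¹ by
        rw [pow_succ]; group]
      exact ih _ (hγM m hm)
  have e2 : γ * (γ * s * γ⁻¹) * γ⁻¹ = s := by
    calc γ * (γ * s * γ⁻¹) * γ⁻¹ = γ * (s * z) * γ⁻¹ := by rw [hγs]
      _ = γ * s * γ⁻¹ * (γ * z * γ⁻¹) := by group
      _ = s := by rw [hγs, mul_inv_eq_iff_eq_mul.2 hγz, mul_assoc s z z, P.X.S.loc.sq, mul_one]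
  have hev : ∀ j : ℕ, γ ^ (2 * j) * s * (γ ^ (2 * j))⁻¹ = s ∧ ∀ u, ρ (γ ^ (2 * j)) u = u := by
    intro j
    induction j with
    | zero => exact ⟨by simp, fun u => by simpa using P.X.S.rho_one u⟩
    | succ j ih =>
      have h2 : γ ^ (2 * (j + 1)) = γ ^ (2 * j) * (γ * γ) := by
        rw [show 2 * (j + 1) = 2 * j + 2 by ring, pow_add, pow_two]
      constructor
      · rw [h2]
        calc γ ^ (2 * j) * (γ * γ) * s * (γ ^ (2 * j) * (γ * γ))⁻¹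
            = γ ^ (2 * j) * (γ * (γ * s * γ⁻¹) * γ⁻¹) * (γ ^ (2 * j))⁻¹ := by group
          _ = γ ^ (2 * j) * s * (γ ^ (2 * j))⁻¹ := by rw [e2]
          _ = s := ih.1
      · intro u
        rw [h2, P.X.S.rho_mul (hzn _) (P.X.S.comm_mul hγz hγz), ih.2, P.X.S.rho_mul hγz hγz, hγρ, hτ2]
  obtain ⟨r, m, hm, hrm⟩ := Nat.exists_eq_two_pow_mul_odd (orderOf_pos γ).ne'
  obtain ⟨j, rfl⟩ := hm
  refine ⟨γ ^ (2 * j + 1), τ, hτ, hτA, hτv, hzn _, ((show Commute γ (a * b) from hγx).pow_left _).eq,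
    ?_, ?_, hτ0, hMn _, ?_⟩
  · calc γ ^ (2 * j + 1) * s * (γ ^ (2 * j + 1))⁻¹
        = γ ^ (2 * j) * (γ * s * γ⁻¹) * (γ ^ (2 * j))⁻¹ := by rw [pow_succ]; group
      _ = γ ^ (2 * j) * s * (γ ^ (2 * j))⁻¹ * (γ ^ (2 * j) * z * (γ ^ (2 * j))⁻¹) := by
          rw [hγs]; group
      _ = s * z := by rw [(hev j).1, mul_inv_eq_iff_eq_mul.2 (hzn _)]
  · funext u
    rw [pow_succ, P.X.S.rho_mul (hzn _) hγz, (hev j).2, hγρ]
  · refine IsPGroup.of_card (n := r) ?_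
    rw [Nat.card_zpowers, orderOf_pow' _ (by omega), hrm, Nat.gcd_mul_left_left]
    exact Nat.mul_div_cancel _ (by omega)

theorem MM_le : MM z Q s g a b ≤ centralizer ({z} : Set G) ⊓ centralizer ({a * b} : Set G) :=
  fun _ hm => ⟨(P.X.orth.rad_le_centralizer hm.1).1, hm.2⟩

theorem MM_two : IsPGroup 2 (MM z Q s g a b) := P.X.orth.rad_isPGroup.to_le inf_le_left

/-- Only four elements of the centraliser commute with the data. -/
theorem central_cases {c σ : G} {τ : V → V} (hτ : IsOm τ) (hτA : τ A = A + v) (hτv : τ v = v)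
    (hσz : σ * z = z * σ) (hσx : σ * (a * b) = a * b * σ) (hσs : σ * s * σ⁻¹ = s * z)
    (hσρ : ρ σ = τ) (hτ0 : τ e0 = e0) (hcz : c * z = z * c)
    (hM : ∀ m ∈ MM z Q s g a b, c * m = m * c) (hcσ : c * σ = σ * c) :
    c = 1 ∨ c = z ∨ c = a * b ∨ c = z * (a * b) := by
  have X := P.X
  have q0 : q e0 = 0 := base_facts.1
  have n0 : e0 ≠ (0 : V) := base_facts.2.2.2.1
  have hcs : c * s = s * c := hM s P.s_mem
  have hfix : ρ c e0 = e0 := by rw [← P.se]; exact X.rho_fix hcz hcs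
  obtain ⟨B, hB0, hBρ⟩ := (X.S.om c hcz).eq_sg n0 hfix fun u hu => by
    obtain ⟨a₂, b₂, ha₂, hb₂, hv₂, hm⟩ := P.exists_M hu
    have hmz := X.S.comm_mul (X.S.Qz ha₂.1) (X.B_comm hb₂).1
    have hρm : ∀ x, ρ (a₂ * b₂) x = sg e0 u x := fun x => by
      rw [X.S.rho_mul (X.S.Qz ha₂.1) (X.B_comm hb₂).1, X.S.rho_Q ha₂.1, hv₂.2, P.se]
    have hu' : bil (ρ c u) e0 = 0 := by
      conv_lhs => rw [← hfix]
      rw [X.S.rho_bil hcz, hu]
    refine sg_inj n0 hu' hu fun y => ?_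
    have h := congrArg (fun h => ρ h (ρ c⁻¹ y)) (hM _ hm)
    rw [X.S.rho_mul hcz hmz, X.S.rho_mul hmz hcz, hρm, hρm, (X.S.om c hcz).map_sg, hfix,
      ← X.S.rho_mul hcz (X.S.comm_inv hcz), mul_inv_cancel, X.S.rho_one] at h
    exact h
  -- the vector lies in the span of the pair
  obtain ⟨β, hβ, hvβ⟩ := X.exists_B (v := B) (by rw [P.se, hB0])
  have hβi := X.S.comm_inv (X.B_comm hβ).1
  set α := c * β⁻¹ with hα
  have hαQ : α ∈ Q := (X.S.ker _ (X.S.comm_mul hcz hβi)).1 fun x => by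
    rw [X.S.rho_mul hcz hβi, (X.vec_inv hβ hvβ).2, P.se, hBρ, sg_sg q0 hB0 hB0, add_self, sg_zero]
  have hαA : α ∈ hA Q s := ⟨hαQ, mem_centralizer_one.2 ((show Commute c s from hcs).mul_left
    (show Commute β s from (X.B_comm hβ).2).inv_left).eq⟩
  have hcab : c = α * β := by rw [hα]; group
  have hspan : ∀ u, bil u e0 = 0 → bil u A = 0 → bil u v = 0 → bil u B = 0 := by
    intro u hu hA hv
    obtain ⟨a₂, ha₂, rfl⟩ := X.exists_A (v := u) (by rw [P.se, hu])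
    have hm := P.mem_M ha₂ (one_mem _) (X.vec_E (one_mem _))
      (by rw [bil_zero_right, hA, hv]; rfl) (by rw [bil_zero_right, bil_zero_left, hv]; rfl)
    have h := X.conj_pair hαA hβ hvβ ha₂ (one_mem _) (X.vec_E (one_mem _))
    have hconj : a₂ * 1 * c * (a₂ * 1)⁻¹ = c := by rw [← hM _ hm]; group
    rw [← hcab, hconj] at h
    have h2 := (X.zb_eq_one (mul_eq_left.1 h.symm)).2
    rw [bil_zero_right, bil_zero_left, zero_add, zero_add] at h2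
    exact h2
  obtain ⟨i, j, hBe⟩ := P.L.span B hB0 hspan
  have hi : i = 0 := by
    have hτB : bil (τ B) e0 = 0 := by
      conv_lhs => rw [← hτ0]
      rw [hτ.bil_eq, hB0]
    have h1 : Eqv e0 (τ B) B := by
      refine sg_inj n0 hτB hB0 fun y => ?_
      have h := congrArg (fun h => ρ h (ρ σ⁻¹ y)) hcσ
      rw [X.S.rho_mul hcz hσz, X.S.rho_mul hσz hcz, hBρ, hBρ, ← X.S.rho_mul hσz (X.S.comm_inv hσz),
        mul_inv_cancel, X.S.rho_one, hσρ, hτ.map_sg, hτ0, ← hσρ,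
        ← X.S.rho_mul hσz (X.S.comm_inv hσz), mul_inv_cancel, X.S.rho_one] at h
      rw [← hσρ]; exact h.symm
    have h2 := hτ.map_eqv hBe
    rw [hτ0] at h2
    have h3 := h2.symm.trans (h1.trans hBe)
    rw [hτ.add, hτ.sm, hτ.sm, hτA, hτv, sm_add_right, Eqv.iff_add] at h3
    rw [show sm i A + sm i v + sm j v + (sm i A + sm j v) =
      (sm i A + sm i A) + (sm j v + sm j v) + sm i v by abel, add_self, add_self, zero_add, zero_add] at h3
    refine (F_cases i).resolve_right fun hi => P.L.vne ?_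
    rw [hi, sm_one] at h3
    exact Eqv.iff_add.2 (by rwa [add_zero])
  rw [hi, sm_zero, zero_add] at hBe
  -- reduce to `Q`
  have key : ∀ c' : G, c' * z = z * c' → (∀ m ∈ MM z Q s g a b, c' * m = m * c') → c' * σ = σ * c' →
      (∀ u, ρ c' u = u) → c' = 1 ∨ c' = z := by
    intro c' hz' hM' hσ' hρ'
    have hQ' : c' ∈ Q := (X.S.ker c' hz').1 hρ'
    have hA' : c' ∈ hA Q s := ⟨hQ', mem_centralizer_one.2 (hM' s P.s_mem)⟩
    have hperp : ∀ u, bil u e0 = 0 → bil u (π c') = 0 := by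
      intro u hu
      obtain ⟨a₂, b₂, ha₂, hb₂, hv₂, hm⟩ := P.exists_M hu
      have h := X.conj_pair hA' (one_mem (hB z Q g)) (X.vec_E (one_mem _)) ha₂ hb₂ hv₂
      have hconj : a₂ * b₂ * (c' * 1) * (a₂ * b₂)⁻¹ = c' := by rw [mul_one, ← hM' _ hm]; group
      rw [hconj, mul_one] at h
      have h2 := (X.zb_eq_one (mul_eq_left.1 h.symm)).2
      rw [bil_zero_right, bil_zero_right, add_zero, add_zero] at h2
      rw [bil_comm, h2]
    have hE : Eqv (π s) (π c') (π (1 : G)) := by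
      rw [X.S.pi_one, P.se]
      rcases perp_line n0 hperp with e | e <;> rw [e]
      · exact Eqv.refl _ _
      · exact Or.inr (zero_add _).symm
    have hd := X.A_diff hA' (one_mem _) hE
    rw [mul_one] at hd
    have hd' := inv_mem hd
    rw [inv_inv] at hd'
    rcases X.mem_inter.1 hd' with e | e | e | e
    · exact Or.inl e
    · exact Or.inr e
    · exfalso
      rw [e] at hσ'
      rw [← hσ', mul_inv_cancel_right] at hσs
      exact X.S.loc.ne_one (mul_eq_left.1 hσs.symm)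
    · exfalso
      rw [e] at hσ'
      have : σ * (s * z) * σ⁻¹ = s := by
        rw [show σ * (s * z) * σ⁻¹ = σ * s * σ⁻¹ * (σ * z * σ⁻¹) by group, hσs,
          mul_inv_eq_iff_eq_mul.2 hσz, mul_assoc, X.S.loc.sq, mul_one]
      rw [← hσ', mul_inv_cancel_right] at this
      exact X.S.loc.ne_one (mul_eq_left.1 this)
  rcases F_cases j with rfl | rfl
  · rw [sm_zero] at hBe
    rcases key c hcz hM hcσ (fun u => by rw [hBρ, sg_congr q0 (bil_zero_left _) hBe, sg_zero]) with e | e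
    · exact Or.inl e
    · exact Or.inr (Or.inl e)
  · rw [sm_one] at hBe
    have h := key (c * (a * b)) (X.S.comm_mul hcz P.hxz)
      (fun m hm => ((show Commute c m from hM m hm).mul_left
        (show Commute m (a * b) from mem_centralizer_one.1 hm.2).symm).eq)
      ((show Commute c σ from hcσ).mul_left (show Commute σ (a * b) from hσx).symm).eq
      (fun u => by rw [X.S.rho_mul hcz P.hxz, P.rho_x, hBρ, sg_congr q0 P.L.v0' hBe,
        sg_sg q0 P.L.v0' P.L.v0', add_self, sg_zero])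
    rcases h with e | e
    · exact Or.inr (Or.inr (Or.inl (by rw [eq_inv_of_mul_eq_one_left e, inv_eq_of_mul_eq_one_right P.x_sq])))
    · refine Or.inr (Or.inr (Or.inr ?_))
      rw [← e, mul_assoc c, P.x_sq, mul_one]

theorem Q_cent {y : G} (hy : y ∈ Q) (hyx : y * (a * b) = a * b * y) : y ∈ hA Q s := by
  refine P.X.mem_A.2 ⟨hy, ?_⟩
  rw [P.se]
  refine (F_cases _).resolve_right fun hc => P.L.vne ?_
  have h : ρ (a * b) (π y) = π y := by
    rw [← P.X.S.conj _ P.hxz y hy, ← hyx, mul_inv_cancel_right]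
  rw [P.rho_x, sg, hc, sm_one, add_assoc, add_eq_left] at h
  rw [Eqv.iff_add, add_zero]
  have hv : v = sm (bil (π y) v) e0 + sm (q v) e0 := by
    refine eq_of_add ?_
    rw [← h]; abel
  rw [← sm_add] at hv
  rcases F_cases (bil (π y) v + q v) with E | E <;> rw [E] at hv
  · exact Or.inl (hv.trans (sm_zero _))
  · exact Or.inr (hv.trans (sm_one _))

/-- A normalising element does not carry `z` to `xz`. -/
theorem no_move {S : Subgroup G} (hS : Max2 (centralizer ({z} : Set G) ⊓ centralizer ({a * b} : Set G)) S)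
    (hMS : MM z Q s g a b ≤ S)
    (hcent : ∀ c ∈ S, (∀ t ∈ S, c * t = t * c) → c = 1 ∨ c = z ∨ c = a * b ∨ c = z * (a * b))
    {n : G} (hnx : n * (a * b) = a * b * n) (hnS : n ∈ normalizer (S : Set G))
    (hnz : n * z * n⁻¹ = z * (a * b)) : False := by
  have X := P.X
  set x := a * b with hx
  have hxQ := P.x_notMem
  have hwQ : z * x ∉ Q := fun h => hxQ (by simpa using Q.mul_mem (Q.inv_mem X.S.loc.mem) h)
  set K := Q ⊓ centralizer ({x} : Set G) with hK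
  set K2 := K.map (MulAut.conj n).toMonoidHom with hK2
  have hKM : K ≤ MM z Q s g a b := fun y hy =>
    ⟨mem_sup_right (P.Q_cent hy.1 (mem_centralizer_one.1 hy.2)), hy.2⟩
  have hKS : K ≤ S := hKM.trans hMS
  have hnc : ∀ t, t ∈ S ↔ n * t * n⁻¹ ∈ S := fun t => mem_normalizer_iff.1 hnS t
  have hK2S : K2 ≤ S := by
    rintro _ ⟨y, hy, rfl⟩
    exact (hnc y).1 (hKS hy)
  have hSK : ∀ t ∈ S, ∀ y ∈ K, t * y * t⁻¹ ∈ K := fun t ht y hy =>
    ⟨X.S.conj_mem (mem_centralizer_one.1 (hS.le ht).1) hy.1, mem_centralizer_one.2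
      (((show Commute t x from mem_centralizer_one.1 (hS.le ht).2).mul_left
        (show Commute y x from mem_centralizer_one.1 hy.2)).mul_left
        (show Commute t x from mem_centralizer_one.1 (hS.le ht).2).inv_left).eq⟩
  have hSK2 : ∀ t ∈ S, ∀ y ∈ K2, t * y * t⁻¹ ∈ K2 := by
    rintro t ht _ ⟨y, hy, rfl⟩
    refine ⟨n⁻¹ * t * n * y * (n⁻¹ * t * n)⁻¹, hSK _ ?_ y hy, ?_⟩
    · rw [hnc]; simpa [mul_assoc] using ht
    · show n * _ * n⁻¹ = t * (n * y * n⁻¹) * t⁻¹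
      group
  have hdisj : K ⊓ K2 = ⊥ := by
    by_contra hne
    obtain ⟨c, hc, hc1, -, hct⟩ := exists_central hS.two (inf_le_left.trans hKS)
      (fun t ht y hy => ⟨hSK t ht y hy.1, hSK2 t ht y hy.2⟩) hne
    rcases hcent c (hKS hc.1) hct with e | e | e | e
    · exact hc1 e
    · obtain ⟨y, hy, hyc⟩ := hc.2
      have hzm : z ∈ Q.map (MulAut.conj n).toMonoidHom := ⟨y, hy.1, hyc.trans e⟩
      have h1 := X.S.loc.conj n
      have hzne : z ≠ n * z * n⁻¹ := fun E => P.x_ne_one (mul_eq_left.1 (E.trans hnz).symm)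
      have h2 := h1.mem_conj (X.S.card_conj n) (g := n⁻¹) (by
        rw [show n⁻¹ * (n * z * n⁻¹) * n⁻¹⁻¹ = z by group]; exact hzm)
        (by rw [show n⁻¹ * (n * z * n⁻¹) * n⁻¹⁻¹ = z by group]; exact hzne)
      rw [Subgroup.map_map] at h2
      obtain ⟨u, hu, hue⟩ := h2
      refine hwQ ?_
      rw [← hnz, ← hue]
      simpa [mul_assoc] using hu
    · exact hxQ (show a * b ∈ Q from (e.trans hx) ▸ hc.1.1)
    · exact hwQ (e ▸ hc.1.1)
  have hcomm : ∀ y ∈ K, ∀ c ∈ K2, c * y = y * c := fun y hy c hc => by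
    have h1 : c * y * c⁻¹ * y⁻¹ ∈ K ⊓ K2 := by
      refine ⟨K.mul_mem (hSK c (hK2S hc) y hy) (K.inv_mem hy), ?_⟩
      rw [show c * y * c⁻¹ * y⁻¹ = c * (y * c⁻¹ * y⁻¹) by group]
      exact K2.mul_mem hc (hSK2 y (hKS hy) _ (K2.inv_mem hc))
    rw [hdisj, mem_bot] at h1
    exact mul_inv_eq_iff_eq_mul.1 (mul_inv_eq_one.1 h1)
  have hsK : s ∈ K := ⟨X.sQ, mem_centralizer_one.2 P.hxs.symm⟩
  have hC : ∀ c ∈ K2, c * z = z * c ∧ IsOm (ρ c) ∧ ρ c e0 = e0 ∧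
      (∀ u, bil u e0 = 0 → bil u A = 0 → bil u v = 0 → ρ c u = u) ∧
      Eqv e0 (ρ c A) A ∧ Eqv e0 (ρ c v) v := by
    intro c hc
    have hcz : c * z = z * c := mem_centralizer_one.1 (hS.le (hK2S hc)).1
    have hcx : c * x = x * c := mem_centralizer_one.1 (hS.le (hK2S hc)).2
    have hcs : c * s = s * c := hcomm s hsK c hc
    have hce : ρ c e0 = e0 := by rw [← P.se]; exact X.rho_fix hcz hcs
    obtain ⟨hca, hcap⟩ := X.conj_A hcz hcs P.ha
    obtain ⟨hcb, hcbv⟩ := X.conj_B hcz hcs P.hb P.vb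
    have hxe : c * a * c⁻¹ * (c * b * c⁻¹) = a * b := by
      calc c * a * c⁻¹ * (c * b * c⁻¹) = c * (a * b) * c⁻¹ := by group
        _ = a * b := by rw [← hx, hcx, mul_inv_cancel_right]
    have hE : a⁻¹ * (c * a * c⁻¹) ∈ Q ⊓ Q₁ Q g := by
      refine ⟨Q.mul_mem (Q.inv_mem P.ha.1) hca.1, ?_⟩
      rw [show a⁻¹ * (c * a * c⁻¹) = b * (c * b * c⁻¹)⁻¹ by
        calc a⁻¹ * (c * a * c⁻¹) = a⁻¹ * (c * a * c⁻¹ * (c * b * c⁻¹)) * (c * b * c⁻¹)⁻¹ := by group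
          _ = _ := by rw [hxe]; group]
      exact (Q₁ Q g).mul_mem P.hb.1 ((Q₁ Q g).inv_mem hcb.1)
    refine ⟨hcz, X.S.om c hcz, hce, fun u hu hA hv => ?_, ?_, ?_⟩
    · obtain ⟨a₂, ha₂, rfl⟩ := X.exists_A (v := u) (by rw [P.se, hu])
      have hm := P.mem_M ha₂ (one_mem _) (X.vec_E (one_mem _))
        (by rw [bil_zero_right, hA, hv]; rfl) (by rw [bil_zero_right, bil_zero_left, hv]; rfl)
      rw [mul_one] at hm
      have h := hcomm a₂ ⟨ha₂.1, hm.2⟩ c hc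
      rw [← X.S.conj c hcz a₂ ha₂.1, h, mul_inv_cancel_right]
    · have h := X.E_pi hE
      rw [X.S.pi_mul _ (Q.inv_mem P.ha.1) _ hca.1, X.S.pi_inv P.ha.1, hcap, P.pa, P.se,
        Eqv.iff_add, add_zero, add_comm] at h
      exact Eqv.iff_add.2 h
    · have hsg : ∀ y, sg e0 (ρ c v) y = sg e0 v y := fun y => by
        have h := congrArg (fun h => ρ h (ρ c⁻¹ y)) hcx
        rw [X.S.rho_mul hcz P.hxz, X.S.rho_mul P.hxz hcz, P.rho_x, P.rho_x, (X.S.om c hcz).map_sg,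
          hce, ← X.S.rho_mul hcz (X.S.comm_inv hcz), mul_inv_cancel, X.S.rho_one] at h
        exact h
      refine sg_inj base_facts.2.2.2.1 ?_ P.L.v0' hsg
      rw [← hce, X.S.rho_bil hcz]; exact P.L.v0'
  obtain ⟨u₁, u₂, ⟨p1, p2, p3⟩, ⟨r1, r2, r3⟩, h12⟩ := P.L.pair
  have getK : ∀ u, bil u e0 = 0 → bil u A = 0 → bil u v = 0 → ∃ k ∈ K, π k = u := by
    intro u hu hA hv
    obtain ⟨a₂, ha₂, rfl⟩ := X.exists_A (v := u) (by rw [P.se, hu])
    have hm := P.mem_M ha₂ (one_mem _) (X.vec_E (one_mem _))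
      (by rw [bil_zero_right, hA, hv]; rfl) (by rw [bil_zero_right, bil_zero_left, hv]; rfl)
    rw [mul_one] at hm
    exact ⟨a₂, ⟨ha₂.1, hm.2⟩, rfl⟩
  obtain ⟨k₁, hk₁, rfl⟩ := getK u₁ p1 p2 p3
  obtain ⟨k₂, hk₂, rfl⟩ := getK u₂ r1 r2 r3
  obtain ⟨c1z, o1, f1', u1', A1, v1⟩ := hC _ (Subgroup.mem_map_of_mem (MulAut.conj n).toMonoidHom hk₁)
  obtain ⟨c2z, o2, f2', u2', A2, v2⟩ := hC _ (Subgroup.mem_map_of_mem (MulAut.conj n).toMonoidHom hk₂)
  have hρc := P.L.comm _ _ o1 o2 f1' f2' (fun u h1 h2 h3 => ⟨u1' u h1 h2 h3, u2' u h1 h2 h3⟩) A1 A2 v1 v2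
  set c₁ := (MulAut.conj n).toMonoidHom k₁
  set c₂ := (MulAut.conj n).toMonoidHom k₂
  have hzc : z * (a * b) = c₁ * c₂ * c₁⁻¹ * c₂⁻¹ := by
    have h : k₁ * k₂ * k₁⁻¹ * k₂⁻¹ = z := by
      rw [X.S.conj_Q hk₁.1 hk₂.1, h12, zb_one, X.S.Qz hk₂.1, mul_inv_cancel_right]
    rw [← hx, ← hnz, ← h]
    show _ = n * k₁ * n⁻¹ * (n * k₂ * n⁻¹) * (n * k₁ * n⁻¹)⁻¹ * (n * k₂ * n⁻¹)⁻¹
    group
  refine hwQ ?_
  rw [hx, hzc]
  have h12z := X.S.comm_mul c1z c2z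
  have h21z := X.S.comm_mul c2z c1z
  have he : c₁ * c₂ * c₁⁻¹ * c₂⁻¹ = c₁ * c₂ * (c₂ * c₁)⁻¹ := by group
  rw [he]
  refine (X.S.ker _ (X.S.comm_mul h12z (X.S.comm_inv h21z))).1 fun y => ?_
  rw [X.S.rho_mul h12z (X.S.comm_inv h21z), X.S.rho_mul c1z c2z, hρc, ← X.S.rho_mul c2z c1z,
    ← X.S.rho_mul h21z (X.S.comm_inv h21z), mul_inv_cancel, X.S.rho_one]

/-- A maximal 2-subgroup of the centraliser of the representative. -/
theorem local_sylow : ∃ S, Max2 (centralizer ({a * b} : Set G)) S ∧ S ≤ centralizer ({z} : Set G) ∧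
    z ∈ S ∧ ∀ c ∈ S, (∀ t ∈ S, c * t = t * c) → c = 1 ∨ c = z ∨ c = a * b ∨ c = z * (a * b) := by
  have X := P.X
  obtain ⟨σ, τ, hτ, hτA, hτv, hσz, hσx, hσs, hσρ, hτ0, hσM, hσ2⟩ := P.exists_sigma
  have hn : zpowers σ ≤ normalizer (MM z Q s g a b : Set G) := by
    rw [zpowers_le]
    have hpw : ∀ i : ℕ, ∀ m ∈ MM z Q s g a b, σ ^ i * m * (σ ^ i)⁻¹ ∈ MM z Q s g a b := by
      intro i
      induction i with
      | zero => intro m hm; simpa using hm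
      | succ i ih =>
        intro m hm
        rw [show σ ^ (i + 1) * m * (σ ^ (i + 1))⁻¹ = σ ^ i * (σ * m * σ⁻¹) * (σ ^ i)⁻¹ by
          rw [pow_succ]; group]
        exact ih _ (hσM m hm)
    have hset : ∀ m, σ * m * σ⁻¹ ∈ MM z Q s g a b → m ∈ MM z Q s g a b := by
      intro m hm
      have h := hpw (orderOf σ - 1) _ hm
      have hi : σ ^ (orderOf σ - 1) = σ⁻¹ := (inv_eq_of_mul_eq_one_right (by
        rw [← pow_succ', Nat.sub_add_cancel (orderOf_pos σ), pow_orderOf_eq_one])).symm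
      rw [hi] at h
      simpa [mul_assoc] using h
    exact mem_normalizer_iff.2 fun m => ⟨hσM m, hset m⟩
  have hp : IsPGroup 2 ↥(zpowers σ ⊔ MM z Q s g a b) := hσ2.to_sup_of_normal_right' P.MM_two hn
  have hle : zpowers σ ⊔ MM z Q s g a b ≤ centralizer ({z} : Set G) ⊓ centralizer ({a * b} : Set G) :=
    sup_le (zpowers_le.2 ⟨mem_centralizer_one.2 hσz, mem_centralizer_one.2 hσx⟩) P.MM_le
  obtain ⟨S, hS, hMS⟩ := exists_max2 hle hp
  have hMS' : MM z Q s g a b ≤ S := le_sup_right.trans hMS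
  have hσS : σ ∈ S := hMS (mem_sup_left (mem_zpowers σ))
  have hcent : ∀ c ∈ S, (∀ t ∈ S, c * t = t * c) → c = 1 ∨ c = z ∨ c = a * b ∨ c = z * (a * b) :=
    fun c hc ht => P.central_cases hτ hτA hτv hσz hσx hσs hσρ hτ0 (mem_centralizer_one.1 (hS.le hc).1)
      (fun m hm => ht m (hMS' hm)) (ht σ hσS)
  have hzS : z ∈ S := hMS' ⟨mem_sup_right ⟨X.S.loc.mem, mem_centralizer_one.2 X.sz.symm⟩,
    mem_centralizer_one.2 P.hxz.symm⟩
  refine ⟨S, hS.extend inf_le_right fun n hnC hnS => ?_, hS.le.trans inf_le_left, hzS, hcent⟩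
  have hnx : n * (a * b) = a * b * n := mem_centralizer_one.1 hnC
  refine ⟨mem_centralizer_one.2 ?_, hnC⟩
  have hmem : n * z * n⁻¹ ∈ S := (mem_normalizer_iff.1 hnS z).1 hzS
  have hct : ∀ t ∈ S, n * z * n⁻¹ * t = t * (n * z * n⁻¹) := fun t ht => by
    have ht' : n⁻¹ * t * n ∈ S := by
      rw [mem_normalizer_iff.1 hnS]; simpa [mul_assoc] using ht
    have h := mem_centralizer_one.1 (hS.le ht').1
    calc n * z * n⁻¹ * t = n * (z * (n⁻¹ * t * n)) * n⁻¹ := by group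
      _ = n * (n⁻¹ * t * n * z) * n⁻¹ := by rw [h]
      _ = t * (n * z * n⁻¹) := by group
  rcases hcent _ hmem hct with e | e | e | e
  · exact absurd (conj_eq_one_iff.1 e) X.S.loc.ne_one
  · exact mul_inv_eq_iff_eq_mul.1 e
  · exact absurd (mul_left_cancel (mul_right_cancel (e.trans (mul_inv_eq_iff_eq_mul.2 hnx).symm))).symm
      P.x_ne_z
  · exact (P.no_move hS hMS' hcent hnx hnS e).elim

theorem not_conj_z : ¬ IsConj z (a * b) := by
  intro hc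
  obtain ⟨k, hk⟩ := isConj_iff.1 hc
  obtain ⟨S, hS, hSz, -, -⟩ := P.local_sylow
  have hlx := P.X.S.loc.conj k
  rw [hk] at hlx
  have hle : Q.map (MulAut.conj k).toMonoidHom ≤ centralizer ({a * b} : Set G) := fun y hy =>
    mem_centralizer_one.2 (hlx.comm hy)
  have hN : Q.map (MulAut.conj k).toMonoidHom ≤ S := hS.normal_le hle hlx.xs.1.1
    fun t ht y hy => LargeExtra.conj_mem (hlx.norm (hS.le ht)) hy
  have hz : z ∈ centralizer (Q.map (MulAut.conj k).toMonoidHom : Set G) := by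
    refine mem_centralizer_iff.2 fun y hy => ?_
    exact mem_centralizer_one.1 (hSz (hN hy))
  rcases hlx.mem_zpowers_iff.1 (hlx.cent hz) with e | e
  · exact P.X.S.loc.ne_one e
  · exact P.x_ne_z e.symm

end Pr

/-- The two representatives outside `Q` are not conjugate. -/
theorem not_conj_reps {s g aP bP aT bT : G} (R : Reps z Q π ρ s g aP bP aT bT) :
    ¬ IsConj (aP * bP) (aT * bT) := by
  intro hc
  obtain ⟨k, hk⟩ := isConj_iff.1 hc
  have P : Pr z Q π ρ s g aP bP a0 v0 := ⟨R.X, R.se, R.haP, R.hbP, R.paP, R.vbP, lin_p⟩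
  have T : Pr z Q π ρ s g aT bT e1 e2 := ⟨R.X, R.se, R.haT, R.hbT, R.paT, R.vbT, lin_t⟩
  obtain ⟨S, hS, hSz, hzS, -⟩ := P.local_sylow
  obtain ⟨S', hS', -, -, hcent⟩ := T.local_sylow
  have hS2 : Max2 (centralizer ({aT * bT} : Set G)) (S.map (MulAut.conj k).toMonoidHom) := by
    have hC : ∀ y, y ∈ centralizer ({aT * bT} : Set G) ↔ k⁻¹ * y * k ∈ centralizer ({aP * bP} : Set G) := by
      intro y
      rw [mem_centralizer_one, mem_centralizer_one, ← hk]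
      constructor <;> intro h
      · calc k⁻¹ * y * k * (aP * bP) = k⁻¹ * (y * (k * (aP * bP) * k⁻¹)) * k := by group
          _ = k⁻¹ * (k * (aP * bP) * k⁻¹ * y) * k := by rw [h]
          _ = aP * bP * (k⁻¹ * y * k) := by group
      · calc y * (k * (aP * bP) * k⁻¹) = k * (k⁻¹ * y * k * (aP * bP)) * k⁻¹ := by group
          _ = k * (aP * bP * (k⁻¹ * y * k)) * k⁻¹ := by rw [h]
          _ = _ := by group
    refine ⟨?_, hS.two.map _, fun W h1 h2 h3 => ?_⟩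
    · rintro _ ⟨y, hy, rfl⟩
      rw [hC]
      simpa [mul_assoc] using hS.le hy
    · have h4 := hS.max (W.map (MulAut.conj k⁻¹).toMonoidHom)
        (fun y hy => ⟨k * y * k⁻¹, h1 ⟨y, hy, rfl⟩, by simp [mul_assoc]⟩)
        (by rintro _ ⟨y, hy, rfl⟩
            have := (hC y).1 (h2 hy)
            simpa [mul_assoc] using this) (h3.map _)
      refine le_antisymm (fun y hy => ⟨k⁻¹ * y * k, ?_, by simp [mul_assoc]⟩) h1
      show _ ∈ S
      rw [← h4]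
      exact ⟨y, hy, by simp [mul_assoc]⟩
  obtain ⟨l, hl, hlS⟩ := hS2.exists_conj hS'
  set n := l * k with hn
  have hnx : n * (aP * bP) * n⁻¹ = aT * bT := by
    calc n * (aP * bP) * n⁻¹ = l * (k * (aP * bP) * k⁻¹) * l⁻¹ := by rw [hn]; group
      _ = aT * bT := by rw [hk, mem_centralizer_one.1 hl, mul_inv_cancel_right]
  have himg : ∀ y, y ∈ S' ↔ n⁻¹ * y * n ∈ S := by
    intro y
    rw [← hlS, LargeExtra.mem_conjMap, LargeExtra.mem_conjMap]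
    rw [show k⁻¹ * (l⁻¹ * y * l) * k = n⁻¹ * y * n by rw [hn]; group]
  have hmem : n * z * n⁻¹ ∈ S' := by rw [himg]; simpa [mul_assoc] using hzS
  have hct : ∀ t ∈ S', n * z * n⁻¹ * t = t * (n * z * n⁻¹) := fun t ht => by
    have h := mem_centralizer_one.1 (hSz ((himg t).1 ht))
    calc n * z * n⁻¹ * t = n * (z * (n⁻¹ * t * n)) * n⁻¹ := by group
      _ = n * (n⁻¹ * t * n * z) * n⁻¹ := by rw [h]
      _ = t * (n * z * n⁻¹) := by group
  rcases hcent _ hmem hct with e | e | e | e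
  · exact R.X.S.loc.ne_one (conj_eq_one_iff.1 e)
  · have hnz : n * z = z * n := mul_inv_eq_iff_eq_mul.1 e
    have h := congrArg (fun h => ρ h (ρ n f0)) hnx
    rw [R.X.S.rho_mul (R.X.S.comm_mul hnz P.hxz) (R.X.S.comm_inv hnz), R.X.S.rho_mul hnz P.hxz,
      P.rho_x, ← R.X.S.rho_mul (R.X.S.comm_inv hnz) hnz, inv_mul_cancel, R.X.S.rho_one, T.rho_x] at h
    have h1 := d_image.2
    rw [← R.X.S.rho_q hnz, R.X.S.rho_add hnz, h, d_image.1] at h1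
    exact zero_ne_one h1
  · exact P.x_ne_z (mul_left_cancel (mul_right_cancel (hnx.trans e.symm)))
  · obtain ⟨u, -, hu⟩ := T.xz_conj
    refine T.not_conj_z ((isConj_iff.2 ⟨n, e⟩).trans ?_)
    rw [← T.hxz, ← hu]
    exact (isConj_iff.2 ⟨u, rfl⟩).symm

end Cfsg.Agent.CoT
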