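import Cfsg.Agent.Lib.CoT.Cocycle

/-!
Every involution is conjugate to one of three.
-/

set_option autoImplicit false
set_option linter.style.haveILetI false
set_option linter.unusedSectionVars false
set_option maxRecDepth 20000
set_option synthInstance.maxSize 4000
set_option synthInstance.maxHeartbeats 400000

namespace Cfsg.Agent.CoT

open Subgroup LargeExtra

local notation "F" => ZMod 2

/-- An isometry trivial on both layers of the flag of `e` is a Siegel transformation. -/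
theorem IsOm.eq_sg {f : V → V} (hf : IsOm f) {e : V} (he0 : e ≠ 0) (hfe : f e = e)
    (h : ∀ x, bil x e = 0 → Eqv e (f x) x) : ∃ v, bil v e = 0 ∧ ∀ x, f x = sg e v x := by
  obtain ⟨y, hy⟩ := exists_bil_one he0
  have hye : bil y e = 1 := by rw [bil_comm, hy]
  set v := f y + y with hv
  have hfy : f y = y + v := by rw [hv, add_comm (f y) y, ← add_assoc, add_self, zero_add]
  have hve : bil v e = 0 := by
    have h1 := hf.bil_eq y e
    rw [hfe, hye] at h1
    rw [hv, bil_add_left, h1, hye, F_add_self]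
  have hyv : bil y v = q v := by
    have h1 := hf.q_eq y
    rw [hfy, q_add, add_assoc] at h1
    exact (F_eq_of_add _ _ (add_eq_left.1 h1)).symm
  have key : ∀ x, bil x e = 0 → f x = sg e v x := by
    intro x hx
    rw [sg_perp hx]
    have h1 := hf.bil_eq x y
    rcases h x hx with c | c <;> rw [c, hfy] at h1 <;> rw [c]
    · rw [bil_add_right] at h1
      rw [add_eq_left.1 h1, sm_zero, add_zero]
    · simp only [bil_add_left, bil_add_right, hy, bil_comm e v, hve, add_zero] at h1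
      rw [add_assoc] at h1
      rw [← F_eq_of_add _ _ (add_eq_left.1 h1), sm_one]
  refine ⟨v, hve, fun x => ?_⟩
  rcases F_cases (bil x e) with c | c
  · exact key x c
  · have hx : x = x + y + y := (add_cancel x y).symm
    rw [hx, hf.add, sg_add, key (x + y) (by rw [bil_add_left, c, hye]; rfl), hfy]
    congr 1
    rw [sg, hye, CoT.sm_one, hyv]
    calc y + v = y + v + (CoT.sm (q v) e + CoT.sm (q v) e) := by rw [add_self, add_zero]
      _ = _ := by abel

/-- Vectors orthogonal to the first three singular basis vectors with no component in the last plane. -/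
def InL (x : V) : Prop := x.2.2.2 = 0

instance (x : V) : Decidable (InL x) := by unfold InL; infer_instance

theorem quad_cases : ∀ w v : V, bil w e0 = 0 → bil w e1 = 0 → bil w e2 = 0 →
    bil v e0 = 0 → bil v e1 = 0 → bil v e2 = 0 → ∀ c : Bool,
    q w + bil w v + bil v (if c then f3 else e3) = 0 → bil w v + q v = 0 →
    InL v ∨ InL (w + (if c then f3 else e3)) ∨ InL (w + v + (if c then f3 else e3)) := by
  decide +kernel

theorem m_facts : ∀ c : Bool, bil (if c then f3 else e3) e0 = 0 ∧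
    bil (if c then f3 else e3) e1 = 0 ∧ bil (if c then f3 else e3) e2 = 0 := by
  decide +kernel

theorem inL_perp : ∀ x v : V, bil x e0 = 0 → bil x e1 = 0 → bil x e2 = 0 → InL x →
    bil v e0 = 0 → bil v e1 = 0 → bil v e2 = 0 → bil x v = 0 := by
  decide +kernel

theorem inL_e0 : InL e0 ∧ ∀ x : V, InL x → InL (x + e0) := by decide +kernel

/-- A parametrisation. -/
def cvec (i : (F × F) × (F × F)) : V := ((0, 0), ((i.1.1, 0), ((i.1.2, 0), i.2)))

theorem cvec_perp : ∀ i, bil (cvec i) e0 = 0 ∧ bil (cvec i) e1 = 0 ∧ bil (cvec i) e2 = 0 := by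
  decide +kernel

theorem cvec_inj : ∀ i j, Eqv e0 (cvec i) (cvec j) → i = j := by decide +kernel

theorem shift_all : ∀ c d : F,
    (∃ w, bil w e0 = 0 ∧ bil w a0 + bil w v0 = c ∧ bil w v0 = d) ∧
      ∃ w, bil w e0 = 0 ∧ bil w e1 + bil w e2 = c ∧ bil w e2 = d := by
  decide +kernel

variable {G : Type*} [Group G] [Finite G] {z : G} {Q : Subgroup G} {π : G → V} {ρ : G → V → V}

/-- The two representatives outside `Q`. -/
structure Reps (z : G) (Q : Subgroup G) (π : G → V) (ρ : G → V → V) (s g aP bP aT bT : G) : Prop where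
  X : Fr z Q π ρ s g
  se : π s = e0
  haP : aP ∈ hA Q s
  hbP : bP ∈ hB z Q g
  haT : aT ∈ hA Q s
  hbT : bT ∈ hB z Q g
  paP : π aP = a0
  vbP : Vec π ρ s bP v0
  paT : π aT = e1
  vbT : Vec π ρ s bT e2

namespace Fr

variable {s g : G} (X : Fr z Q π ρ s g)
include X

theorem Q_invol {x : G} (hx : x ∈ Q) (h2 : x * x = 1) (h1 : x ≠ 1) : IsConj z x := by
  by_cases hz : x = z
  · exact hz ▸ IsConj.refl z
  obtain ⟨g', X'⟩ := X.exists_at hx h2 h1 hz
  exact isConj_iff.2 ⟨g', X'.sconj⟩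

theorem conj_map {k x : G} (hx : x ∈ Q.map (MulAut.conj k).toMonoidHom) (h2 : x * x = 1) (h1 : x ≠ 1) :
    IsConj z x := by
  have hu := mem_conjMap.1 hx
  have e : k * (k⁻¹ * x * k) * k⁻¹ = x := by group
  refine (X.Q_invol hu ?_ fun h => h1 ?_).trans (isConj_iff.2 ⟨k, e⟩)
  · calc k⁻¹ * x * k * (k⁻¹ * x * k) = k⁻¹ * (x * x) * k := by group
      _ = 1 := by rw [h2]; group
  · rw [← e, h]; group

theorem pair_conj {a b a₁ b₁ : G} {v a' v' : V} (ha : a ∈ hA Q s) (hb : b ∈ hB z Q g)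
    (hv : Vec π ρ s b v) (ha₁ : a₁ ∈ hA Q s) (hb₁ : b₁ ∈ hB z Q g) (hp : π a₁ = a')
    (hv₁ : Vec π ρ s b₁ v') {f : V → V} (hf : IsOm f) (hfe : f (π s) = π s) (hfa : f (π a) = a')
    (hfv : f v = v')
    (hshift : ∀ c d : F, ∃ w, bil w (π s) = 0 ∧ bil w a' + bil w v' = c ∧ bil w v' = d) :
    ∃ h, h * z = z * h ∧ h * (a * b) * h⁻¹ = a₁ * b₁ := by
  obtain ⟨c, hcz, hcs, hρ⟩ := X.lift_fix hf hfe
  obtain ⟨hca, hcw⟩ := X.conj_A hcz hcs ha
  obtain ⟨hcb, hcv⟩ := X.conj_B hcz hcs hb hv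
  rw [hρ, hfa, ← hp] at hcw
  rw [hρ, hfv] at hcv
  have he₁ := X.A_diff ha₁ hca (hcw.symm ▸ Eqv.refl _ _)
  have he₂ := X.B_diff hb₁ hcb hv₁ hcv (Eqv.refl _ _)
  have hE : b₁⁻¹ * (c * b * c⁻¹) * (a₁⁻¹ * (c * a * c⁻¹)) ∈ Q ⊓ Q₁ Q g := mul_mem he₂ he₁
  have hdec : c * (a * b) * c⁻¹ =
      a₁ * b₁ * (b₁⁻¹ * (c * b * c⁻¹) * (a₁⁻¹ * (c * a * c⁻¹))) := by
    have hk := X.E_central_B hcb he₁
    calc c * (a * b) * c⁻¹ = a₁ * ((a₁⁻¹ * (c * a * c⁻¹)) * (c * b * c⁻¹)) := by group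
      _ = a₁ * ((c * b * c⁻¹) * (a₁⁻¹ * (c * a * c⁻¹))) := by rw [hk]
      _ = _ := by group
  obtain ⟨x₁, x₂, he⟩ : ∃ x₁ x₂ : F,
      b₁⁻¹ * (c * b * c⁻¹) * (a₁⁻¹ * (c * a * c⁻¹)) = zb z x₁ * zb s x₂ := by
    rcases X.mem_inter.1 hE with e | e | e | e <;> rw [e]
    · exact ⟨0, 0, by simp [zb_zero]⟩
    · exact ⟨1, 0, by simp [zb_zero, zb_one]⟩
    · exact ⟨0, 1, by simp [zb_zero, zb_one]⟩
    · exact ⟨1, 1, by rw [zb_one, zb_one, X.sz]⟩
  rw [he] at hdec
  obtain ⟨w, hw0, hw1, hw2⟩ := hshift x₁ x₂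
  obtain ⟨a₂, ha₂, rfl⟩ := X.exists_A hw0
  have hcc : a₂ * (a₁ * b₁) * a₂⁻¹ = a₁ * b₁ * (zb z x₁ * zb s x₂) := by
    have k2 := zb_comm (X.B_comm hb₁).1 (bil (π a₂) a')
    calc a₂ * (a₁ * b₁) * a₂⁻¹ = a₂ * a₁ * a₂⁻¹ * (a₂ * b₁ * a₂⁻¹) := by group
      _ = a₁ * (zb z (bil (π a₂) a') * b₁) * (zb z (bil (π a₂) v') * zb s (bil (π a₂) v')) := by
          rw [X.S.conj_Q ha₂.1 ha₁.1, X.conj_B_by_A ha₂ hb₁ hv₁, hp]; group
      _ = a₁ * b₁ * (zb z (bil (π a₂) a') * zb z (bil (π a₂) v')) * zb s (bil (π a₂) v') := by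
          rw [← k2]; group
      _ = _ := by rw [← zb_add X.S.loc.sq, hw1, hw2]; group
  refine ⟨a₂⁻¹ * c, X.S.comm_mul (X.S.comm_inv (X.S.Qz ha₂.1)) hcz, ?_⟩
  calc a₂⁻¹ * c * (a * b) * (a₂⁻¹ * c)⁻¹ = a₂⁻¹ * (c * (a * b) * c⁻¹) * a₂ := by group
    _ = a₁ * b₁ := by rw [hdec, ← hcc]; group

theorem third_conj {a b : G} {v : V} (ha : a ∈ hA Q s) (hb : b ∈ hB z Q g) (hv : Vec π ρ s b v)
    (h : Eqv (π s) (π a) v) : ∃ k, a * b ∈ Q.map (MulAut.conj k).toMonoidHom := by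
  obtain ⟨y, hy, hyb⟩ := X.exists_y
  obtain ⟨d, hd, hyd, hdv⟩ := X.third hy hyb hb hv
  have he : d⁻¹ * a ∈ Q ⊓ Q₁ Q g := X.A_diff hd ha (hdv.trans h.symm)
  have hm : ∀ x ∈ hB z Q g, y * x * y⁻¹ ∈ Q.map (MulAut.conj (y * g)).toMonoidHom := fun x hx => by
    rw [mem_conjMap, show (y * g)⁻¹ * (y * x * y⁻¹) * (y * g) = g⁻¹ * x * g by group]
    exact mem_conjMap.1 hx.1
  have hzc : d * b = b * d := by
    have h3 := X.conj_rule hd hb hv
    rw [bil_comm, hdv.bil_eq hv.1, bil_self, zb_zero, zb_zero, one_mul, one_mul] at h3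
    exact (mul_inv_eq_iff_eq_mul.1 h3).symm
  have hdec : a * b = y * b * y⁻¹ * (d⁻¹ * a) := by
    calc a * b = d * ((d⁻¹ * a) * b) := by group
      _ = d * (b * (d⁻¹ * a)) := by rw [X.E_central_B hb he]
      _ = b * d * (d⁻¹ * a) := by rw [← mul_assoc, hzc]
      _ = y * b * y⁻¹ * (d⁻¹ * a) := by rw [hyd]
  refine ⟨y * g, ?_⟩
  rw [hdec]
  have hzm : z ∈ Q.map (MulAut.conj (y * g)).toMonoidHom := by
    have := hm z ⟨X.zQ₁, mem_centralizer_one.2 rfl⟩
    rwa [X.S.zpi (X.S.Qz hy)] at this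
  have hszm : s * z ∈ Q.map (MulAut.conj (y * g)).toMonoidHom := by
    have := hm s ⟨X.loc'.mem, mem_centralizer_one.2 X.sz⟩
    rwa [X.y_spec hy hyb] at this
  refine mul_mem (hm b hb) ?_
  rcases X.mem_inter.1 he with e | e | e | e <;> rw [e]
  · exact one_mem _
  · exact hzm
  · rw [show s = s * z * z by rw [mul_assoc, X.S.loc.sq, mul_one]]
    exact mul_mem hszm hzm
  · exact hszm

end Fr

namespace Reps

variable {s g aP bP aT bT : G} (R : Reps z Q π ρ s g aP bP aT bT)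
include R

/-- The three targets. -/
abbrev Done (_R : Reps z Q π ρ s g aP bP aT bT) (t : G) : Prop :=
  IsConj t z ∨ IsConj t (aP * bP) ∨ IsConj t (aT * bT)

theorem done_of_conj {t h : G} (H : R.Done (h * t * h⁻¹)) : R.Done t := by
  have hc : IsConj t (h * t * h⁻¹) := isConj_iff.2 ⟨h, rfl⟩
  exact H.imp hc.trans (Or.imp hc.trans hc.trans)

theorem rad_class {a b : G} {v : V} (ha : a ∈ hA Q s) (hb : b ∈ hB z Q g) (hv : Vec π ρ s b v)
    (h2 : a * b * (a * b) = 1) (h1 : a * b ≠ 1) : R.Done (a * b) := by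
  have X := R.X
  obtain ⟨e1', e2'⟩ := X.zb_eq_one ((X.sq_ab ha hb hv).symm.trans h2)
  have hqa : q (π a) = bil (π a) v := F_eq_of_add _ _ e1'
  have hqv : q v = bil (π a) v := (F_eq_of_add _ _ e2').symm
  have ha0 : bil (π a) e0 = 0 := by rw [← R.se]; exact (X.mem_A.1 ha).2
  have hv0 : bil v e0 = 0 := by rw [← R.se]; exact hv.1
  by_cases k1 : Eqv (π s) (π a) 0
  · refine Or.inl (X.conj_map (k := g) ?_ h2 h1).symm
    have hd := X.A_diff (one_mem _) ha (by rw [X.S.pi_one]; exact k1.symm)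
    rw [inv_one, one_mul] at hd
    exact mul_mem hd.2 hb.1
  by_cases k2 : Eqv (π s) v 0
  · exact Or.inl (X.Q_invol (mul_mem ha.1 (X.mem_E_of_vec hb hv k2).1) h2 h1).symm
  by_cases k3 : Eqv (π s) (π a) v
  · obtain ⟨k, hk⟩ := X.third_conj ha hb hv k3
    exact Or.inl (X.conj_map hk h2 h1).symm
  rw [R.se, Eqv.iff_add, add_zero] at k1 k2
  rw [R.se, Eqv.iff_add] at k3
  push Not at k1 k2 k3
  rcases F_cases (bil (π a) v) with e | e
  · obtain ⟨f, hf, hfe, hfa, hfv⟩ := move_tpair (hqa.trans e) ha0 (hqv.trans e) hv0 e k1.1 k1.2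
      k2.1 k2.2 (fun h => k3.1 (by rw [h]; exact add_self _))
      (fun h => k3.2 (by rw [h, add_left_comm, add_self, add_zero]))
    obtain ⟨h, -, hh⟩ := X.pair_conj ha hb hv R.haT R.hbT R.paT R.vbT hf (by rw [R.se, hfe]) hfa hfv
      (fun c d => by rw [R.se]; exact (shift_all c d).2)
    exact Or.inr (Or.inr (isConj_iff.2 ⟨h, hh⟩))
  · obtain ⟨f, hf, hfe, hfa, hfv⟩ := move_apair (hqa.trans e) ha0 (hqv.trans e) hv0 e
    obtain ⟨h, -, hh⟩ := X.pair_conj ha hb hv R.haP R.hbP R.paP R.vbP hf (by rw [R.se, hfe]) hfa hfv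
      (fun c d => by rw [R.se]; exact (shift_all c d).1)
    exact Or.inr (Or.inl (isConj_iff.2 ⟨h, hh⟩))

theorem inRad_class {t : G} {e : V} (htz : t * z = z * t) (ht2 : t * t = 1) (ht1 : t ≠ 1)
    (hr : InRad (ρ t) e) : R.Done t := by
  have X := R.X
  obtain ⟨he0, he1, he2, he3⟩ := hr
  obtain ⟨h, hh, hhe⟩ := X.S.exists_conj he0 he1 base_facts.1 base_facts.2.2.2.1
  refine R.done_of_conj (h := h) ?_
  set t' := h * t * h⁻¹ with ht'
  have hi := X.S.comm_inv hh
  have htz' : t' * z = z * t' := X.S.comm_mul (X.S.comm_mul hh htz) hi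
  have ht2' : t' * t' = 1 := by
    calc t' * t' = h * (t * t) * h⁻¹ := by rw [ht']; group
      _ = 1 := by rw [ht2]; group
  have ht1' : t' ≠ 1 := fun E => ht1 (conj_eq_one_iff.1 E)
  by_cases htQ : t' ∈ Q
  · exact Or.inl (X.Q_invol htQ ht2' ht1').symm
  have hρ : ∀ x, ρ t' x = ρ h (ρ t (ρ h⁻¹ x)) := fun x => by
    rw [ht', X.S.rho_mul (X.S.comm_mul hh htz) hi, X.S.rho_mul hh htz]
  have hback : ρ h⁻¹ e0 = e := by rw [← hhe, ← X.S.rho_mul hi hh, inv_mul_cancel, X.S.rho_one]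
  have hfix : ρ t' (π s) = π s := by rw [R.se, hρ, hback, he2, hhe]
  obtain ⟨v, hv, hsg⟩ := (X.S.om t' htz').eq_sg X.ne0 hfix fun x hx => by
    rw [R.se] at hx ⊢
    have hb : bil (ρ h⁻¹ x) e = 0 := by rw [← hback, X.S.rho_bil hi, hx]
    have hx' : ρ h (ρ h⁻¹ x) = x := by rw [← X.S.rho_mul hh hi, mul_inv_cancel, X.S.rho_one]
    rw [hρ, ← hhe]
    have := (X.S.om h hh).map_eqv (he3 _ hb)
    rwa [hx'] at this
  obtain ⟨b, hb, hvb⟩ := X.exists_B hv
  have hbi := X.S.comm_inv (X.B_comm hb).1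
  set a := t' * b⁻¹ with ha
  have haQ : a ∈ Q := (X.S.ker _ (X.S.comm_mul htz' hbi)).1 fun x => by
    rw [X.S.rho_mul htz' hbi, (X.vec_inv hb hvb).2, hsg, sg_sg X.qe hv hv, add_self, sg_zero]
  have hab : t' = a * b := by rw [ha]; group
  have haA : a ∈ hA Q s := by
    refine X.mem_A.2 ⟨haQ, (F_cases _).resolve_right fun hc => htQ ?_⟩
    have h1 : b * a * b⁻¹ = a⁻¹ * zb s (q v) := by
      have hinv : (b * b)⁻¹ = b * b := by
        rw [X.B_sq hb hvb]; exact inv_eq_of_mul_eq_one_right (by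
          rw [← zb_add X.ss, F_add_self, zb_zero])
      rw [← X.B_sq hb hvb, ← hinv]
      calc b * a * b⁻¹ = a⁻¹ * (a * b * (a * b)) * (b * b)⁻¹ := by group
        _ = a⁻¹ * (b * b)⁻¹ := by rw [← hab, ht2', mul_one]
    have hmem : zb s (q v) ∈ Q := by
      rcases F_cases (q v) with E | E <;> rw [E]
      · rw [zb_zero]; exact one_mem _
      · rw [zb_one]; exact X.sQ
    have h2 := congrArg π h1
    rw [X.S.conj b (X.B_comm hb).1 a haQ, X.S.pi_mul _ (inv_mem haQ) _ hmem, X.S.pi_inv haQ,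
      hvb.2, show zb s (q v) = zb z 0 * zb s (q v) by rw [zb_zero, one_mul], X.pi_zb] at h2
    rw [sg, hc, sm_one, add_assoc] at h2
    have h3 := add_left_cancel h2
    have hv0 : Eqv (π s) v 0 := by
      rw [Eqv.iff_add, add_zero]
      have h4 : sm (bil (π a) v) (π s) + v = 0 := by
        calc sm (bil (π a) v) (π s) + v =
            sm (bil (π a) v) (π s) + (v + sm (q v) (π s)) + sm (q v) (π s) := by
              rw [add_assoc, add_cancel]
          _ = 0 := by rw [h3, add_self]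
      rcases F_cases (bil (π a) v) with E | E <;> rw [E] at h4
      · rw [sm_zero, zero_add] at h4; exact Or.inl h4
      · rw [sm_one] at h4; exact Or.inr (eq_of_add h4).symm
    exact hab ▸ mul_mem haQ (X.mem_E_of_vec hb hvb hv0).1
  rw [hab] at ht2' ht1' ⊢
  exact R.rad_class haA hb hvb ht2' ht1'

theorem four_swap {t a b b' s' g' : G} {v m : V} (T : Two z Q π ρ s g s' g') (ha : a ∈ hA Q s)
    (hb : b ∈ hB z Q g) (hv : Vec π ρ s b v) (hb' : b' ∈ hB z Q g') (hv' : Vec π ρ s' b' e2)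
    (hw1 : bil (π a) e1 = 0) (hw2 : bil (π a) e2 = 0)
    (hm : bil m e0 = 0 ∧ bil m e1 = 0 ∧ bil m e2 = 0)
    (hmu : ∀ u, bil u e0 = 0 → bil u e1 = 0 → bil u e2 = 0 → MU z Q π ρ s g s' g' u e2 (bil u m))
    (hL : InL (π a + m)) (ht : t = a * b * b') (ht2 : t * t = 1) (ht1 : t ≠ 1) : R.Done t := by
  have X := R.X
  have he20 : bil e2 e0 = 0 := by decide +kernel
  have hbs' := T.B'_comm hb' hv' he20
  have htz : t * z = z * t := by
    rw [ht]; exact X.S.comm_mul (X.S.comm_mul (X.A_comm ha).1 (X.B_comm hb).1) (T.X'.B_comm hb').1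
  have hts : t * s = s * t := by
    rw [ht]
    exact (((show Commute a s from (X.A_comm ha).2).mul_left
      (show Commute b s from (X.B_comm hb).2)).mul_left hbs').eq
  obtain ⟨h, hz, hs⟩ := X.exists_swap
  refine R.done_of_conj (h := h) ?_
  set t' := h * t * h⁻¹ with ht'
  have hcomm : ∀ u, t * u = u * t → t' * (h * u * h⁻¹) = h * u * h⁻¹ * t' := fun u hu => by
    calc t' * (h * u * h⁻¹) = h * (t * u) * h⁻¹ := by rw [ht']; group
      _ = h * u * h⁻¹ * t' := by rw [hu, ht']; group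
  have htz' : t' * z = z * t' := by
    have := hcomm s hts
    rwa [hs] at this
  have hts' : t' * s = s * t' := by
    have := hcomm z htz
    rwa [hz] at this
  have ht2' : t' * t' = 1 := by
    calc t' * t' = h * (t * t) * h⁻¹ := by rw [ht']; group
      _ = 1 := by rw [ht2]; group
  have ht1' : t' ≠ 1 := fun E => ht1 (conj_eq_one_iff.1 E)
  choose β hβ hvβ using fun i => X.exists_B (v := cvec i) (by rw [R.se]; exact (cvec_perp i).1)
  have hfix : ∀ i, ρ t' (π (h * β i * h⁻¹)) = π (h * β i * h⁻¹) := by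
    intro i
    obtain ⟨c0, c1, c2⟩ := cvec_perp i
    have k1 := hmu _ c0 c1 c2 _ (hβ i) (hvβ i) _ hb' hv'
    have k2 : b * β i * b⁻¹ = β i * zb s (bil (cvec i) v) := by
      have h3 := X.B_rule (hβ i) hb (hvβ i) hv
      have hc := zb_comm (X.B_comm hb).2 (bil (cvec i) v)
      have hc' : b⁻¹ * zb s (bil (cvec i) v) = zb s (bil (cvec i) v) * b⁻¹ :=
        ((show Commute b _ from hc).inv_left).eq
      calc b * β i * b⁻¹ = β i * b * (zb s (bil (cvec i) v) * b⁻¹) := by rw [h3]; group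
        _ = β i * zb s (bil (cvec i) v) := by rw [← hc']; group
    have k3 := X.conj_B_by_A ha (hβ i) (hvβ i)
    have hexp : bil (π a) (cvec i) + bil (cvec i) m = 0 := by
      rw [bil_comm (cvec i) m, ← bil_add_left]
      exact inL_perp _ _ (by rw [bil_add_left, hm.1, ← R.se, (X.mem_A.1 ha).2, add_zero])
        (by rw [bil_add_left, hw1, hm.2.1, add_zero]) (by rw [bil_add_left, hw2, hm.2.2, add_zero])
        hL c0 c1 c2
    obtain ⟨k, hk⟩ : ∃ k : F, t * β i * t⁻¹ = β i * zb s k := by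
      refine ⟨bil (π a) (cvec i) + bil (cvec i) v, ?_⟩
      have cb := zb_comm (X.B_comm hb).1 (bil (cvec i) m)
      have ca := zb_comm (X.A_comm ha).1 (bil (cvec i) m)
      have ca' := zb_comm (X.A_comm ha).2 (bil (cvec i) v)
      calc t * β i * t⁻¹ = a * (b * (b' * β i * b'⁻¹) * b⁻¹) * a⁻¹ := by rw [ht]; group
        _ = a * (b * β i * b⁻¹ * (b * zb z (bil (cvec i) m) * b⁻¹)) * a⁻¹ := by rw [k1]; group
        _ = a * (β i * zb s (bil (cvec i) v) * zb z (bil (cvec i) m)) * a⁻¹ := by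
            rw [k2, cb, mul_inv_cancel_right]
        _ = a * β i * a⁻¹ * (a * zb s (bil (cvec i) v) * a⁻¹) * (a * zb z (bil (cvec i) m) * a⁻¹) := by
            group
        _ = β i * (zb z (bil (π a) (cvec i)) * zb s (bil (π a) (cvec i)) *
              (zb z 0 * zb s (bil (cvec i) v)) * (zb z (bil (cvec i) m) * zb s 0)) := by
            rw [ca, ca', mul_inv_cancel_right, mul_inv_cancel_right, k3, zb_zero z, zb_zero s,
              one_mul, mul_one]
            group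
        _ = _ := by
            rw [X.zb_mul', X.zb_mul', add_zero, add_zero, hexp, zb_zero, one_mul]
    have hm' : h * β i * h⁻¹ ∈ hA Q s := X.swap_B hz hs (hβ i)
    have h4 : t' * (h * β i * h⁻¹) * t'⁻¹ = h * β i * h⁻¹ * zb z k := by
      calc t' * (h * β i * h⁻¹) * t'⁻¹ = h * (t * β i * t⁻¹) * h⁻¹ := by rw [ht']; group
        _ = h * β i * h⁻¹ * (h * zb s k * h⁻¹) := by rw [hk]; group
        _ = h * β i * h⁻¹ * zb z k := by
            congr 1
            rcases F_cases k with E | E <;> rw [E]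
            · simp [zb_zero]
            · rw [zb_one, zb_one, hs]
    have hzk : zb z k ∈ Q := by
      rcases F_cases k with E | E <;> rw [E]
      · rw [zb_zero]; exact one_mem _
      · rw [zb_one]; exact X.S.loc.mem
    have h5 := congrArg π h4
    rw [X.S.conj t' htz' _ hm'.1, X.S.pi_mul _ hm'.1 _ hzk] at h5
    have h6 : π (zb z k) = 0 := by
      rcases F_cases k with E | E <;> rw [E]
      · rw [zb_zero]; exact X.S.pi_one
      · rw [zb_one]; exact X.S.pi_z
    rwa [h6, add_zero] at h5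
  let μ : ((F × F) × (F × F)) × F → V := fun i => π (h * β i.1 * h⁻¹) + sm i.2 (π s)
  have hinj : Function.Injective μ := by
    rintro ⟨i, x⟩ ⟨j, y⟩ E
    have hz' : h⁻¹ * z * h⁻¹⁻¹ = s := by rw [← hs]; group
    have hs' : h⁻¹ * s * h⁻¹⁻¹ = z := by rw [← hz]; group
    have h1 : Eqv (π s) (π (h * β i * h⁻¹)) (π (h * β j * h⁻¹)) := by
      rw [Eqv.iff_add]
      have : π (h * β i * h⁻¹) + π (h * β j * h⁻¹) = sm x (π s) + sm y (π s) := by
        refine eq_of_add ?_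
        calc _ = π (h * β i * h⁻¹) + sm x (π s) + (π (h * β j * h⁻¹) + sm y (π s)) := by abel
          _ = 0 := by
            rw [show π (h * β i * h⁻¹) + sm x (π s) = π (h * β j * h⁻¹) + sm y (π s) from E]
            exact add_self _
      rw [this, ← sm_add]
      rcases F_cases (x + y) with c | c <;> rw [c]
      · exact Or.inl (sm_zero _)
      · exact Or.inr (sm_one _)
    have h2 := X.swap_E hz' hs' (X.A_diff (X.swap_B hz hs (hβ i)) (X.swap_B hz hs (hβ j)) h1)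
    rw [show h⁻¹ * ((h * β i * h⁻¹)⁻¹ * (h * β j * h⁻¹)) * h⁻¹⁻¹ = (β i)⁻¹ * β j by group] at h2
    have h3 := X.vec_unique (X.vec_mul (inv_mem (hβ i)) (hβ j) (X.vec_inv (hβ i) (hvβ i)) (hvβ j))
      (X.vec_E h2)
    obtain rfl : i = j := cvec_inj _ _ (by
      rw [← R.se, Eqv.iff_add]
      rw [Eqv.iff_add, add_zero] at h3
      exact h3)
    exact Prod.ext rfl (X.sm_inj (add_left_cancel E))
  rcases inRad_of_fix (X.S.om t' htz') (fun x => X.S.rho_invol htz' (by rw [ht2']; exact one_mem _) x)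
    (by simp) μ hinj (fun i => by
      show ρ t' (_ + _) = _
      rw [X.S.rho_add htz', hfix, (X.S.om t' htz').sm, X.rho_fix htz' hts']) with hid | ⟨e, he⟩
  · exact Or.inl (X.Q_invol ((X.S.ker t' htz').1 hid) ht2' ht1').symm
  · exact R.inRad_class htz' ht2' ht1' he

theorem nf_class {t : G} (htz : t * z = z * t) (ht2 : t * t = 1) (ht1 : t ≠ 1)
    (hnf : NF (ρ t)) : R.Done t := by
  have X := R.X
  obtain ⟨he0, hperp, d, hd, d0, d1, d2⟩ := hnf
  obtain ⟨bq, bf, bf0, -, -, e10, -, e20, e21, -⟩ := base_facts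
  obtain ⟨s', g', X', hs'⟩ := X.exists_vec (v := e1) (by decide +kernel) (by decide +kernel)
  have T : Two z Q π ρ s g s' g' := ⟨X, X', R.se, hs'⟩
  obtain ⟨b', hb', hv'⟩ := X'.exists_B (v := e2) (by rw [hs', e21])
  have hb'z := (X'.B_comm hb').1
  have hb's := T.B'_comm hb' hv' e20
  have hb'2 : b' * b' = 1 := by
    rw [X'.B_sq hb' hv', show q e2 = 0 by decide +kernel, zb_zero]
  have hS : ∀ x, ρ b' x = sg e1 e2 x := fun x => by rw [hv'.2, hs']
  have hts : t * s = s * t := by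
    obtain ⟨y, hy, rfl⟩ := X.S.pi_surj d
    set c := t * y * t⁻¹ * y⁻¹ with hc
    have hcQ : c ∈ Q := mul_mem (X.S.conj_mem htz hy) (inv_mem hy)
    have hpc : π c = e0 := by
      rw [hc, X.S.pi_mul _ (X.S.conj_mem htz hy) _ (inv_mem hy), X.S.conj t htz y hy, X.S.pi_inv hy, hd]
    have hcc : c⁻¹ = c := inv_eq_of_mul_eq_one_right (by rw [X.S.sq c hcQ, hpc, bq, zb_zero])
    have hti : t⁻¹ = t := inv_eq_of_mul_eq_one_right ht2
    have htc : t * c * t⁻¹ = c := by
      calc t * c * t⁻¹ = (t * t) * y * (t⁻¹ * y⁻¹ * t⁻¹) := by rw [hc]; group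
        _ = y * (t * y⁻¹ * t⁻¹) := by rw [ht2, hti, one_mul]
        _ = c⁻¹ := by rw [hc]; group
        _ = c := hcc
    rcases X.S.eq_of_pi X.sQ hcQ (R.se.trans hpc.symm) with E | E <;> rw [E]
    · exact mul_inv_eq_iff_eq_mul.1 htc
    · exact ((show Commute t c from mul_inv_eq_iff_eq_mul.1 htc).mul_right htz).eq
  have hcz := X.S.comm_mul htz hb'z
  have hcs : t * b' * s = s * (t * b') :=
    ((show Commute t s from hts).mul_left (show Commute b' s from hb's)).eq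
  have hS0 : ∀ x, bil x e0 = 0 → bil (sg e1 e2 x) e0 = 0 := fun x hx => by
    simp only [sg, bil_add_left, bil_sm_left, hx, e10, e20, mul_zero, add_zero]
  have hq2 : q e2 = 0 := by decide +kernel
  have hS2 : ∀ x, sg e1 e2 (sg e1 e2 x) = x := fun x => by
    rw [sg_sg (by decide +kernel) e21 e21, add_self, sg_zero]
  obtain ⟨v, hv, hsg⟩ := (X.S.om _ hcz).eq_sg X.ne0 (X.rho_fix hcz hcs) fun x hx => by
    rw [R.se] at hx ⊢
    rw [X.S.rho_mul htz hb'z, hS]
    have h := hperp _ (hS0 x hx)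
    have hform : sg e1 e2 x + sm (bil (sg e1 e2 x) e2) e1 + sm (bil (sg e1 e2 x) e1) e2 =
        sg e1 e2 (sg e1 e2 x) := by
      show _ = sg e1 e2 x + _ + _
      rw [hq2, sm_zero, add_zero]
    rw [hform, hS2] at h
    exact h
  obtain ⟨b, hb, hvb⟩ := X.exists_B hv
  set a := t * b' * b⁻¹ with ha
  have hbi := X.S.comm_inv (X.B_comm hb).1
  have haQ : a ∈ Q := (X.S.ker _ (X.S.comm_mul hcz hbi)).1 fun x => by
    rw [X.S.rho_mul hcz hbi, (X.vec_inv hb hvb).2, hsg, sg_sg X.qe hv hv, add_self, sg_zero]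
  have haA : a ∈ hA Q s := ⟨haQ, mem_centralizer_one.2 ((show Commute (t * b') s from hcs).mul_left
    (show Commute b s from (X.B_comm hb).2).inv_left).eq⟩
  have hb'i : b'⁻¹ = b' := inv_eq_of_mul_eq_one_right hb'2
  have htabb : t = a * b * b' := by
    calc t = t * (b' * b') := by rw [hb'2, mul_one]
      _ = a * b * b' := by rw [ha]; group
  rw [R.se] at hv
  have hρt : ∀ x, ρ t x = sg e0 v (sg e1 e2 x) := fun x => by
    rw [htabb, X.S.rho_mul (X.S.comm_mul (X.S.Qz haQ) (X.B_comm hb).1) hb'z,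
      X.S.rho_mul (X.S.Qz haQ) (X.B_comm hb).1, X.S.rho_Q haQ, hvb.2, R.se, hS]
  have hSm := isOm_sg (e := e1) (v := e2) (by decide +kernel) e21
  have hSe0 : sg e1 e2 e0 = e0 := by decide +kernel
  -- `v` is orthogonal to `e1` and `e2`
  have hvC : bil v e1 = 0 ∧ bil v e2 = 0 := by
    have h : ∀ x, sg e0 (v + sg e1 e2 v) x = sg e0 0 x := fun x => by
      rw [sg_zero, ← sg_sg bq hv (hS0 v hv)]
      have h1 := X.S.rho_invol htz (by rw [ht2]; exact one_mem _) x
      rw [hρt, hρt, hSm.map_sg, hSe0, hS2] at h1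
      exact h1
    have h' := sg_inj (by decide +kernel) (by rw [bil_add_left, hv, hS0 v hv, add_zero])
      (bil_zero_left _) h
    rw [Eqv.iff_add, add_zero, sg, hq2, sm_zero, add_zero, ← add_assoc, ← add_assoc, add_self,
      zero_add] at h'
    exact ⟨(nf_fix _ _ h').2, (nf_fix _ _ h').1⟩
  -- `v` is not in the span
  have hvL : ¬ InL v := fun hL => by
    have h1 : bil d v = 0 := by
      rw [bil_comm]; exact inL_perp v d hv hvC.1 hvC.2 hL d0 d1 d2
    rw [hρt, sg_perp (v := e2) d1, d2, sm_zero, add_zero, sg_perp d0, h1, sm_zero, add_zero,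
      add_self] at hd
    exact absurd hd.symm (by decide +kernel)
  obtain ⟨m, hm01, hmu⟩ := T.cocycle
  have hμ := hmu v hv hvC.1 hvC.2 b hb hvb b' hb' hv'
  obtain ⟨ha', haπ⟩ := X.conj_A hb'z hb's haA
  have htt : t * t = a * (b' * a * b'⁻¹) *
      (zb z (bil (sg e1 e2 (π a)) v + bil v m) * zb s (bil (sg e1 e2 (π a)) v + q v)) := by
    have h1 := X.conj_rule ha' hb hvb
    rw [haπ, hS] at h1
    set β := bil (sg e1 e2 (π a)) v
    set a' := b' * a * b'⁻¹ with ha'd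
    have hcE := X.E_central_A ha' (X.zb_mem β β)
    calc t * t = a * b * a' * (b' * b * b'⁻¹) * (b' * b') := by rw [htabb, ha'd]; group
      _ = a * (b * a' * b⁻¹) * (b * b) * zb z (bil v m) := by rw [hμ, hb'2]; group
      _ = a * (a' * (zb z β * zb s β)) * (zb z 0 * zb s (q v)) * (zb z (bil v m) * zb s 0) := by
          rw [h1, ← hcE, X.B_sq hb hvb, zb_zero z, zb_zero s, one_mul, mul_one]
      _ = a * a' * ((zb z β * zb s β) * (zb z 0 * zb s (q v)) * (zb z (bil v m) * zb s 0)) := by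
          group
      _ = _ := by rw [X.zb_mul', X.zb_mul', add_zero, add_zero]
  have hwC : bil (π a) e1 = 0 ∧ bil (π a) e2 = 0 := by
    have h := congrArg π (htt.symm.trans ht2)
    rw [X.S.pi_one, X.S.pi_mul _ (mul_mem haA.1 ha'.1) _ (X.zb_mem _ _).1,
      X.S.pi_mul _ haA.1 _ ha'.1, haπ, hS, X.pi_zb, R.se, sg_eq_two hq2] at h
    have h2 := eq_of_add h
    rw [← add_assoc, ← add_assoc, add_self, zero_add] at h2
    have h3 : sm (bil (π a) e2) e1 + sm (bil (π a) e1) e2 = 0 ∨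
        sm (bil (π a) e2) e1 + sm (bil (π a) e1) e2 = e0 := by
      rw [h2]
      rcases F_cases (bil (sg e1 e2 (π a)) v + q v) with c | c <;> rw [sg_eq_two hq2] at c <;> rw [c]
      · exact Or.inl (sm_zero _)
      · exact Or.inr (sm_one _)
    exact ⟨(nf_fix _ _ h3).2, (nf_fix _ _ h3).1⟩
  have haA' : a ∈ hA Q s' := T.A_right.2 ⟨haQ, hwC.1⟩
  have hfixa : b' * a * b'⁻¹ = a := by
    rw [X'.conj_rule haA' hb' hv', hwC.2, zb_zero, zb_zero, one_mul, one_mul]
  have hSw : sg e1 e2 (π a) = π a := by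
    rw [sg_perp hwC.1, hwC.2, sm_zero, add_zero]
  rw [hfixa, hSw, X.S.sq a haQ, show zb z (q (π a)) = zb z (q (π a)) * zb s 0 by rw [zb_zero s, mul_one],
    X.zb_mul', zero_add, ht2] at htt
  obtain ⟨q1, q2⟩ := X.zb_eq_one htt.symm
  have hw0 : bil (π a) e0 = 0 := (T.A_left.1 haA).2
  obtain ⟨c, rfl⟩ : ∃ c : Bool, m = if c then f3 else e3 := by
    rcases hm01 with rfl | rfl
    exacts [⟨false, rfl⟩, ⟨true, rfl⟩]
  rcases quad_cases _ v hw0 hwC.1 hwC.2 hv hvC.1 hvC.2 c (by rw [add_assoc]; exact q1) q2 with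
    hL | hL | hL
  · exact absurd hL hvL
  · exact R.four_swap T haA hb hvb hb' hv' hwC.1 hwC.2 (m_facts c) hmu hL htabb ht2 ht1
  · obtain ⟨y, hy, hπy⟩ := X.S.pi_surj f0
    have hyb : bil (π y) (π s) = 1 := by rw [hπy, R.se, bf0]
    have hf1 : bil f0 e1 = 0 ∧ bil f0 e2 = 0 := by decide +kernel
    have hyb' : y * b' = b' * y := by
      have := X'.conj_rule (T.A_right.2 ⟨hy, by rw [hπy, hf1.1]⟩) hb' hv'
      rw [hπy, hf1.2, zb_zero, zb_zero, one_mul, one_mul] at this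
      exact (mul_inv_eq_iff_eq_mul.1 this).symm
    obtain ⟨D, hD, hyD, hDv⟩ := X.third hy hyb hb hvb
    refine R.done_of_conj (h := y) ?_
    have hbd : b * D = D * b := by
      have hc := X.conj_rule hD hb hvb
      rw [bil_comm, hDv.bil_eq hvb.1, bil_self, zb_zero, zb_zero, one_mul, one_mul] at hc
      exact mul_inv_eq_iff_eq_mul.1 hc
    set A := a * zb z (bil (π y) (π a)) * D with hA'
    have hzA : zb z (bil (π y) (π a)) ∈ hA Q s := by
      rcases F_cases (bil (π y) (π a)) with E | E <;> rw [E]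
      · rw [zb_zero]; exact one_mem _
      · rw [zb_one]; exact ⟨X.S.loc.mem, mem_centralizer_one.2 X.sz.symm⟩
    have hAA : A ∈ hA Q s := mul_mem (mul_mem haA hzA) hD
    have hA1 : π (zb z (bil (π y) (π a))) = 0 := by
      rcases F_cases (bil (π y) (π a)) with E | E <;> rw [E]
      · rw [zb_zero, X.S.pi_one]
      · rw [zb_one, X.S.pi_z]
    have hπA : π A = π a + π D := by
      rw [hA', X.S.pi_mul _ (mul_mem haA hzA).1 _ hD.1, X.S.pi_mul _ haA.1 _ hzA.1, hA1, add_zero]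
    have hDC : bil (π D) e1 = 0 ∧ bil (π D) e2 = 0 := by
      rw [R.se] at hDv
      constructor
      · rw [bil_comm, hDv.bil_eq e10, bil_comm, hvC.1]
      · rw [bil_comm, hDv.bil_eq e20, bil_comm, hvC.2]
    have hyt : y * t * y⁻¹ = A * b * b' := by
      calc y * t * y⁻¹ = y * a * y⁻¹ * (y * b * y⁻¹) * (y * b') * y⁻¹ := by rw [htabb]; group
        _ = a * zb z (bil (π y) (π a)) * (b * D) * b' := by
            rw [X.S.conj_Q hy haQ, hyD, hyb']; group
        _ = A * b * b' := by rw [hbd, hA']; group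
    refine R.four_swap T hAA hb hvb hb' hv' (by rw [hπA, bil_add_left, hwC.1, hDC.1, add_zero])
      (by rw [hπA, bil_add_left, hwC.2, hDC.2, add_zero]) (m_facts c) hmu ?_ hyt ?_
      (fun E => ht1 (conj_eq_one_iff.1 E))
    · rw [R.se] at hDv
      rw [hπA]
      rcases hDv with E | E <;> rw [E]
      · exact hL
      · rw [show π a + (v + e0) + (if c then f3 else e3) = π a + v + (if c then f3 else e3) + e0 by abel]
        exact inL_e0.2 _ hL
    · calc y * t * y⁻¹ * (y * t * y⁻¹) = y * (t * t) * y⁻¹ := by group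
        _ = 1 := by rw [ht2]; group
where
  sg_eq_two {x : V} (hq2 : q e2 = 0) : sg e1 e2 x = x + sm (bil x e2) e1 + sm (bil x e1) e2 := by
    rw [sg, hq2, sm_zero, add_zero]

theorem invol_class {t : G} (htz : t * z = z * t) (ht2 : t * t = 1) (ht1 : t ≠ 1) : R.Done t := by
  have X := R.X
  rcases invol_cases (X.S.om t htz) (fun x => X.S.rho_invol htz (by rw [ht2]; exact one_mem _) x) with
    hid | ⟨e, he⟩ | ⟨k, k', hk, -, hl, hr, hnf⟩
  · exact Or.inl (X.Q_invol ((X.S.ker t htz).1 hid) ht2 ht1).symm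
  · exact R.inRad_class htz ht2 ht1 he
  · obtain ⟨h, hh, hρ⟩ := X.S.lift k hk
    refine R.done_of_conj (h := h) (R.nf_class (X.S.comm_mul (X.S.comm_mul hh htz) (X.S.comm_inv hh))
      (by rw [show h * t * h⁻¹ * (h * t * h⁻¹) = h * (t * t) * h⁻¹ by group, ht2]; group)
      (fun E => ht1 (conj_eq_one_iff.1 E)) ?_)
    have : ρ (h * t * h⁻¹) = fun x => k (ρ t (k' x)) := funext fun x => by
      rw [X.S.rho_mul (X.S.comm_mul hh htz) (X.S.comm_inv hh), X.S.rho_mul hh htz, hρ]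
      congr 2
      refine hk.inj ?_
      rw [hr, ← hρ, ← X.S.rho_mul hh (X.S.comm_inv hh), mul_inv_cancel, X.S.rho_one]
    rw [this]; exact hnf

end Reps

theorem exists_reps {s₀ g₀ : G} (X₀ : Fr z Q π ρ s₀ g₀) :
    ∃ s g aP bP aT bT, Reps z Q π ρ s g aP bP aT bT := by
  obtain ⟨bq, -, -, bn, -, e10, -, e20, -, -, ba, -, bv, -⟩ := base_facts
  obtain ⟨s, g, X, hs⟩ := X₀.exists_vec bq bn
  obtain ⟨aP, haP, paP⟩ := X.exists_A (v := a0) (by rw [hs, ba])
  obtain ⟨bP, hbP, vbP⟩ := X.exists_B (v := v0) (by rw [hs, bv])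
  obtain ⟨aT, haT, paT⟩ := X.exists_A (v := e1) (by rw [hs, e10])
  obtain ⟨bT, hbT, vbT⟩ := X.exists_B (v := e2) (by rw [hs, e20])
  exact ⟨s, g, aP, bP, aT, bT, X, hs, haP, hbP, haT, hbT, paP, vbP, paT, vbT⟩

end Cfsg.Agent.CoT
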