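import Cfsg.Agent.Lib.CoT.Setup

/-!
The two halves of the radical attached to a conjugate of the central involution.
-/

set_option autoImplicit false
set_option linter.style.haveILetI false
set_option linter.unusedSectionVars false
set_option maxRecDepth 20000
set_option synthInstance.maxSize 4000
set_option synthInstance.maxHeartbeats 400000

namespace Cfsg.Agent.CoT

open Subgroup LargeExtra

local notation "F" => ZMod 2

/-- Any singular vector can be moved to the first basis vector. -/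
theorem to_e0 {e : V} (h : q e = 0) (h0 : e ≠ 0) :
    ∃ k k', IsOm k ∧ IsOm k' ∧ (∀ x, k' (k x) = x) ∧ (∀ x, k (k' x) = x) ∧ k e = e0 ∧ k' e0 = e := by
  obtain ⟨k, hk, hke⟩ := move_e0 h h0
  obtain ⟨k', hk', hl, hr⟩ := hk.inv
  exact ⟨k, k', hk, hk', hl, hr, hke, by rw [← hke, hl]⟩

theorem ns_one : ∀ x : V, q x = 0 → bil x e0 = 0 → x ≠ 0 → x ≠ e0 →
    ∃ a, q a = 1 ∧ bil a e0 = 0 ∧ bil x a = 1 := by
  decide +kernel

theorem eqv_e0 : ∀ u : V, bil u e0 = 0 → u.2 = 0 → Eqv e0 u 0 := by decide +kernel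

theorem exists_shift {e x : V} (he : q e = 0) (he0 : e ≠ 0) (hx : q x = 0) (hxe : bil x e = 0)
    (hn : ¬ Eqv e x 0) : ∃ f, IsOm f ∧ f e = e ∧ bil x (f x) = 1 := by
  obtain ⟨k, k', hk, hk', hl, hr, hke, hke'⟩ := to_e0 he he0
  obtain ⟨a, ha, hae, hxa⟩ := ns_one (k x) (by rw [hk.q_eq, hx]) (by rw [← hke, hk.bil_eq, hxe])
    (fun h => hn (Or.inl (hk.inj (h.trans hk.zero.symm))))
    (fun h => hn (Or.inr (by rw [zero_add]; exact hk.inj (h.trans hke.symm))))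
  have h1 : bil x (k' a) = 1 := by rw [← hk.bil_eq, hr, hxa]
  have h2 : bil (k' a) e = 0 := by rw [← hk.bil_eq, hr, hke, hae]
  have h3 : q (k' a) = 1 := by rw [hk'.q_eq, ha]
  obtain ⟨b, -, hb, hbe, hbx⟩ := exists_ns_perp e x he hx hxe
  refine ⟨_, isOm_tr_tr h3 hb, ?_, ?_⟩
  · show tr (k' a) (tr b e) = e
    rw [tr_fix (x := e) (by rw [bil_comm, hbe]), tr_fix (x := e) (by rw [bil_comm, h2])]
  · show bil x (tr (k' a) (tr b x)) = 1
    rw [tr_fix (x := x) (by rw [bil_comm, hbx]), tr_move h1, bil_add_right, bil_self, h1, zero_add]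

variable {G : Type*} [Group G] [Finite G] {z : G} {Q : Subgroup G} {π : G → V} {ρ : G → V → V}
  {s g : G}

/-- A conjugate of `z` in `Q`. -/
structure Fr (z : G) (Q : Subgroup G) (π : G → V) (ρ : G → V → V) (s g : G) : Prop where
  S : Su z Q π ρ
  sconj : g * z * g⁻¹ = s
  sQ : s ∈ Q
  sne : s ≠ z

/-- The extraspecial subgroup at `s`. -/
abbrev Q₁ (Q : Subgroup G) (g : G) : Subgroup G := Q.map (MulAut.conj g).toMonoidHom

/-- The left half. -/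
abbrev hA (Q : Subgroup G) (s : G) : Subgroup G := Q ⊓ centralizer ({s} : Set G)

/-- The right half. -/
abbrev hB (z : G) (Q : Subgroup G) (g : G) : Subgroup G := Q₁ Q g ⊓ centralizer ({z} : Set G)

/-- The element `b` acts as the Siegel transformation at `π s` and `v`. -/
def Vec (π : G → V) (ρ : G → V → V) (s b : G) (v : V) : Prop :=
  bil v (π s) = 0 ∧ ∀ x, ρ b x = sg (π s) v x

theorem exists_frame (S : Su z Q π ρ) (h : ∃ g : G, g * z * g⁻¹ ∈ Q ∧ g * z * g⁻¹ ≠ z) :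
    ∃ s g, Fr z Q π ρ s g := by
  obtain ⟨g, h1, h2⟩ := h
  exact ⟨_, g, S, rfl, h1, h2⟩

namespace Fr

variable (X : Fr z Q π ρ s g)
include X

theorem loc' : XSLocal (Q₁ Q g) s := X.sconj ▸ X.S.loc.conj g

theorem sne_one : s ≠ 1 := X.loc'.ne_one

theorem ss : s * s = 1 := X.loc'.sq

theorem sz : s * z = z * s := X.S.loc.comm X.sQ

theorem ne0 : π s ≠ 0 := fun e => ((X.S.pi_eq s X.sQ).1 e).elim X.sne_one X.sne

theorem qe : q (π s) = 0 := X.S.sing_of X.sQ X.ss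

theorem pair : Pair Q z g :=
  ⟨X.S.loc, by rw [X.S.card]; norm_num, X.sconj ▸ X.sQ, fun e => X.sne (X.sconj.symm.trans e)⟩

theorem zQ₁ : z ∈ Q₁ Q g := X.pair.z_mem'

theorem orth : Orth Q z (Q₁ Q g) s := ⟨X.S.loc, X.loc', X.sQ, X.zQ₁, X.sne⟩

theorem bil_se {x : G} (hx : x ∈ Q) : x * s = s * x ↔ bil (π x) (π s) = 0 :=
  X.S.comm_iff hx X.sQ

theorem mem_A {x : G} : x ∈ hA Q s ↔ x ∈ Q ∧ bil (π x) (π s) = 0 :=
  ⟨fun h => ⟨h.1, (X.bil_se h.1).1 (mem_centralizer_one.1 h.2)⟩,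
    fun h => ⟨h.1, mem_centralizer_one.2 ((X.bil_se h.1).2 h.2)⟩⟩

theorem A_comm {a : G} (ha : a ∈ hA Q s) : a * z = z * a ∧ a * s = s * a :=
  ⟨X.S.Qz ha.1, mem_centralizer_one.1 ha.2⟩

theorem B_comm {b : G} (hb : b ∈ hB z Q g) : b * z = z * b ∧ b * s = s * b :=
  ⟨mem_centralizer_one.1 hb.2, X.loc'.comm hb.1⟩

theorem rho_fix {c : G} (hcz : c * z = z * c) (hcs : c * s = s * c) : ρ c (π s) = π s := by
  have h : c * s * c⁻¹ = s := mul_inv_eq_iff_eq_mul.2 hcs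
  conv_rhs => rw [← h, X.S.conj c hcz s X.sQ]

theorem y_spec {y : G} (hy : y ∈ Q) (h : bil (π y) (π s) = 1) : y * s * y⁻¹ = s * z := by
  rw [X.S.conj_Q hy X.sQ, h, zb_one]

theorem exists_y : ∃ y ∈ Q, bil (π y) (π s) = 1 := by
  obtain ⟨v, hv⟩ := exists_bil_one X.ne0
  obtain ⟨y, hy, rfl⟩ := X.S.pi_surj v
  exact ⟨y, hy, by rw [bil_comm, hv]⟩

/-- An element fixing `π s` centralises `s` after a shift by `Q`. -/
theorem fix_cases {h : G} (hh : h * z = z * h) (he : ρ h (π s) = π s) :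
    h * s = s * h ∨ ∀ y ∈ Q, bil (π y) (π s) = 1 → y * h * s = s * (y * h) := by
  have hm := X.S.conj_mem hh X.sQ
  rcases X.S.eq_of_pi hm X.sQ (by rw [X.S.conj h hh s X.sQ, he]) with e | e
  · exact Or.inl (mul_inv_eq_iff_eq_mul.1 e)
  · refine Or.inr fun y hy hb => mul_inv_eq_iff_eq_mul.1 ?_
    calc y * h * s * (y * h)⁻¹ = y * (h * s * h⁻¹) * y⁻¹ := by group
      _ = (y * s * y⁻¹) * (y * z * y⁻¹) := by rw [e]; group
      _ = s := by rw [X.y_spec hy hb, X.S.zpi (X.S.Qz hy), mul_assoc, X.S.loc.sq, mul_one]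

/-- Lifts of maps fixing the base point centralise `s`. -/
theorem lift_fix {f : V → V} (hf : IsOm f) (he : f (π s) = π s) :
    ∃ c, c * z = z * c ∧ c * s = s * c ∧ ρ c = f := by
  obtain ⟨h, hh, hρ⟩ := X.S.lift f hf
  rcases X.fix_cases hh (by rw [hρ, he]) with e | e
  · exact ⟨h, hh, e, hρ⟩
  · obtain ⟨y, hy, hb⟩ := X.exists_y
    refine ⟨y * h, X.S.comm_mul (X.S.Qz hy) hh, e y hy hb, funext fun v => ?_⟩
    rw [X.S.rho_mul (X.S.Qz hy) hh, X.S.rho_Q hy, hρ]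

theorem norm_Q₁ {c : G} (hcs : c * s = s * c) {x : G} (hx : x ∈ Q₁ Q g) : c * x * c⁻¹ ∈ Q₁ Q g :=
  LargeExtra.conj_mem (X.loc'.norm (mem_centralizer_one.2 hcs)) hx

theorem inter_pi {d : G} (h1 : d ∈ Q) (h2 : d ∈ Q₁ Q g) : Eqv (π s) (π d) 0 := by
  by_contra hn
  have hds : bil (π d) (π s) = 0 := (X.bil_se h1).1 (X.loc'.comm h2)
  have hq : q (π d) = 0 := X.S.sing_of h1 (by rw [← pow_two]; exact X.orth.elementary.2 d ⟨h1, h2⟩)
  obtain ⟨f, hf, hfe, hfd⟩ := exists_shift X.qe X.ne0 hq hds hn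
  obtain ⟨c, hcz, hcs, hρ⟩ := X.lift_fix hf hfe
  have hd1 := X.S.conj_mem hcz h1
  have hd2 := X.norm_Q₁ hcs h2
  have hcomm : d * (c * d * c⁻¹) = c * d * c⁻¹ * d :=
    congrArg Subtype.val
      (X.orth.elementary.1.is_comm.comm (⟨d, h1, h2⟩ : ↥(Q ⊓ Q₁ Q g)) ⟨_, hd1, hd2⟩)
  rw [X.S.comm_iff h1 hd1, X.S.conj c hcz d h1, hρ, hfd] at hcomm
  exact one_ne_zero hcomm

theorem mem_inter {d : G} : d ∈ Q ⊓ Q₁ Q g ↔ d = 1 ∨ d = z ∨ d = s ∨ d = s * z := by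
  constructor
  · rintro ⟨h1, h2⟩
    rcases X.inter_pi h1 h2 with e | e
    · rcases (X.S.pi_eq d h1).1 e with e' | e'
      · exact Or.inl e'
      · exact Or.inr (Or.inl e')
    · rw [zero_add] at e
      exact Or.inr (Or.inr (X.S.eq_of_pi h1 X.sQ e))
  · rintro (rfl | rfl | rfl | rfl)
    · exact one_mem _
    · exact ⟨X.S.loc.mem, X.zQ₁⟩
    · exact ⟨X.sQ, X.loc'.mem⟩
    · exact mul_mem ⟨X.sQ, X.loc'.mem⟩ ⟨X.S.loc.mem, X.zQ₁⟩

theorem E_comm {c d : G} (hcz : c * z = z * c) (hcs : c * s = s * c) (hd : d ∈ Q ⊓ Q₁ Q g) :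
    c * d = d * c := by
  rcases X.mem_inter.1 hd with rfl | rfl | rfl | rfl
  · simp
  · exact hcz
  · exact hcs
  · exact ((show Commute c s from hcs).mul_right hcz).eq

theorem E_pi {d : G} (hd : d ∈ Q ⊓ Q₁ Q g) : Eqv (π s) (π d) 0 := X.inter_pi hd.1 hd.2

theorem E_inv {d : G} (hd : d ∈ Q ⊓ Q₁ Q g) : d * d = 1 :=
  (pow_two d).symm.trans (X.orth.elementary.2 d hd)

theorem E_central_A {a d : G} (ha : a ∈ hA Q s) (hd : d ∈ Q ⊓ Q₁ Q g) : a * d = d * a :=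
  X.E_comm (X.S.Qz ha.1) (mem_centralizer_one.1 ha.2) hd

theorem E_central_B {b d : G} (hb : b ∈ hB z Q g) (hd : d ∈ Q ⊓ Q₁ Q g) : b * d = d * b :=
  X.E_comm (X.B_comm hb).1 (X.B_comm hb).2 hd

theorem exists_A {v : V} (hv : bil v (π s) = 0) : ∃ a ∈ hA Q s, π a = v := by
  obtain ⟨x, hx, e⟩ := X.S.pi_surj v
  exact ⟨x, X.mem_A.2 ⟨hx, by rw [e, hv]⟩, e⟩

theorem A_diff {a a' : G} (ha : a ∈ hA Q s) (ha' : a' ∈ hA Q s) (h : Eqv (π s) (π a) (π a')) :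
    a⁻¹ * a' ∈ Q ⊓ Q₁ Q g := by
  have hm : a⁻¹ * a' ∈ hA Q s := mul_mem (inv_mem ha) ha'
  have hp : π (a⁻¹ * a') = π a + π a' := by
    rw [X.S.pi_mul _ (inv_mem ha).1 _ ha'.1, X.S.pi_inv ha.1]
  rw [X.mem_inter]
  rcases Eqv.iff_add.1 h with e | e <;> rw [e] at hp
  · rcases (X.S.pi_eq _ hm.1).1 hp with e' | e'
    · exact Or.inl e'
    · exact Or.inr (Or.inl e')
  · exact Or.inr (Or.inr (X.S.eq_of_pi hm.1 X.sQ hp))

theorem B_vec {b : G} (hb : b ∈ hB z Q g) : ∃ v, Vec π ρ s b v := by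
  obtain ⟨hbz, hbs⟩ := X.B_comm hb
  have hsq : b * b ∈ Q := by
    rcases X.loc'.sq_cases hb.1 with e | e <;> rw [e]
    exacts [one_mem _, X.sQ]
  have hI : Isom (ρ b) := ⟨X.S.rho_add hbz, X.S.rho_q hbz, X.S.rho_invol hbz hsq⟩
  obtain ⟨v, hv, hρ, -⟩ := hI.eq_sg (e := π s) ⟨X.qe, X.ne0, X.rho_fix hbz hbs, fun x hx => by
    obtain ⟨a, ha, rfl⟩ := X.exists_A hx
    have hm := X.orth.comm_mem ha hb
    rw [commutatorElement_def] at hm
    have hπ : π (a * b * a⁻¹ * b⁻¹) = π a + ρ b (π a) := by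
      rw [show a * b * a⁻¹ * b⁻¹ = a * (b * a⁻¹ * b⁻¹) by group,
        X.S.pi_mul a ha.1 _ (X.S.conj_mem hbz (Q.inv_mem ha.1)),
        X.S.conj b hbz _ (Q.inv_mem ha.1), X.S.pi_inv ha.1]
    have h := X.E_pi hm
    rw [hπ, Eqv.iff_add, add_zero, add_comm] at h
    exact Eqv.iff_add.2 h⟩
  exact ⟨v, hv, hρ⟩

theorem vec_unique {b : G} {v w : V} (h : Vec π ρ s b v) (h' : Vec π ρ s b w) : Eqv (π s) v w :=
  sg_inj X.ne0 h.1 h'.1 fun x => by rw [← h.2, ← h'.2]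

theorem vec_congr {b : G} {v w : V} (h : Vec π ρ s b v) (hw : Eqv (π s) w v) : Vec π ρ s b w :=
  ⟨hw.perp h.1, fun x => by rw [h.2, sg_congr X.qe h.1 hw]⟩

theorem vec_mul {a b : G} {v w : V} (ha : a ∈ hB z Q g) (hb : b ∈ hB z Q g) (hv : Vec π ρ s a v)
    (hw : Vec π ρ s b w) : Vec π ρ s (a * b) (v + w) :=
  ⟨by rw [bil_add_left, hv.1, hw.1, add_zero], fun x => by
    rw [X.S.rho_mul (X.B_comm ha).1 (X.B_comm hb).1, hw.2, hv.2, sg_sg X.qe hv.1 hw.1]⟩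

theorem vec_E {d : G} (hd : d ∈ Q ⊓ Q₁ Q g) : Vec π ρ s d 0 :=
  ⟨bil_zero_left _, fun x => by rw [X.S.rho_Q hd.1, sg_zero]⟩

theorem vec_inv {b : G} {v : V} (hb : b ∈ hB z Q g) (hv : Vec π ρ s b v) : Vec π ρ s b⁻¹ v := by
  refine ⟨hv.1, fun x => X.S.rho_inj (X.B_comm hb).1 ?_⟩
  rw [← X.S.rho_mul (X.B_comm hb).1 (X.S.comm_inv (X.B_comm hb).1), mul_inv_cancel, X.S.rho_one,
    hv.2, sg_sg X.qe hv.1 hv.1, add_self, sg_zero]

theorem mem_E_of_vec {b : G} {v : V} (hb : b ∈ hB z Q g) (hv : Vec π ρ s b v)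
    (h : Eqv (π s) v 0) : b ∈ Q ⊓ Q₁ Q g :=
  ⟨(X.S.ker b (X.B_comm hb).1).1 fun x => by
    rw [hv.2, sg_congr X.qe (bil_zero_left _) h, sg_zero], hb.1⟩

theorem B_diff {b b' : G} {v v' : V} (hb : b ∈ hB z Q g) (hb' : b' ∈ hB z Q g)
    (hv : Vec π ρ s b v) (hv' : Vec π ρ s b' v') (h : Eqv (π s) v v') :
    b⁻¹ * b' ∈ Q ⊓ Q₁ Q g := by
  refine X.mem_E_of_vec (mul_mem (inv_mem hb) hb') (X.vec_mul (inv_mem hb) hb' (X.vec_inv hb hv) hv') ?_
  have := h.add (Eqv.refl (π s) v')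
  rwa [add_self] at this

theorem card_B : Nat.card ↥(hB z Q g) = 256 := by
  have ht : g⁻¹ * z * g ∈ Q := mem_conjMap.1 X.zQ₁
  have hne : π (g⁻¹ * z * g) ≠ 0 := fun e => by
    rcases (X.S.pi_eq _ ht).1 e with e' | e'
    · exact X.S.loc.ne_one (by rw [show z = g * (g⁻¹ * z * g) * g⁻¹ by group, e']; group)
    · exact X.sne (by rw [← X.sconj, ← congrArg (fun w => g * w * g⁻¹) e']; group)
  have hmap : (Q ⊓ centralizer ({g⁻¹ * z * g} : Set G)).map (MulAut.conj g).toMonoidHom =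
      hB z Q g := by
    ext x
    constructor
    · rintro ⟨y, ⟨hy, hy'⟩, rfl⟩
      refine ⟨conj_mem_conjMap hy, mem_centralizer_one.2 ?_⟩
      have := mem_centralizer_one.1 hy'
      show g * y * g⁻¹ * z = z * (g * y * g⁻¹)
      calc g * y * g⁻¹ * z = g * (y * (g⁻¹ * z * g)) * g⁻¹ := by group
        _ = g * (g⁻¹ * z * g * y) * g⁻¹ := by rw [this]
        _ = z * (g * y * g⁻¹) := by group
    · rintro ⟨hx, hx'⟩
      refine ⟨g⁻¹ * x * g, ⟨mem_conjMap.1 hx, mem_centralizer_one.2 ?_⟩, ?_⟩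
      · have := mem_centralizer_one.1 hx'
        calc g⁻¹ * x * g * (g⁻¹ * z * g) = g⁻¹ * (x * z) * g := by group
          _ = g⁻¹ * (z * x) * g := by rw [this]
          _ = g⁻¹ * z * g * (g⁻¹ * x * g) := by group
      · show g * (g⁻¹ * x * g) * g⁻¹ = x
        group
  rw [← hmap, card_map_of_injective (MulAut.conj g).injective, X.S.card_cent ht hne]

theorem exists_B {v : V} (hv : bil v (π s) = 0) : ∃ b ∈ hB z Q g, Vec π ρ s b v := by
  obtain ⟨k, k', hk, -, -, -, hke, -⟩ := to_e0 X.qe X.ne0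
  choose w hw using fun b : ↥(hB z Q g) => X.B_vec b.2
  have hwd : ∀ u u', Eqv (π s) u u' → (k u).2 = (k u').2 := by
    rintro u u' (rfl | rfl)
    · rfl
    · rw [hk.add, hke, Prod.snd_add]; exact add_zero _
  let f : ↥(hB z Q g) →* Multiplicative W :=
    MonoidHom.mk' (fun b => Multiplicative.ofAdd (k (w b)).2) fun a b => by
      show Multiplicative.ofAdd (k (w (a * b))).2 = _
      rw [hwd _ _ (X.vec_unique (hw (a * b)) (X.vec_mul a.2 b.2 (hw a) (hw b))), hk.add,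
        Prod.snd_add]
      rfl
  have hz : ∀ u, bil u (π s) = 0 → (k u).2 = 0 → Eqv (π s) u 0 := fun u hu h => by
    rcases eqv_e0 (k u) (by rw [← hke, hk.bil_eq, hu]) h with e | e
    · exact Or.inl (hk.inj (e.trans hk.zero.symm))
    · exact Or.inr (hk.inj (by rw [e, hk.add, hk.zero, hke]))
  have hk' : f.ker.map (hB z Q g).subtype ≤ Q ⊓ Q₁ Q g := by
    rintro _ ⟨y, hy, rfl⟩
    exact X.mem_E_of_vec y.2 (hw y) (hz _ (hw y).1 (congrArg Multiplicative.toAdd hy))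
  have hle : Nat.card f.ker ≤ 4 := by
    classical
    rw [← card_map_of_injective (hB z Q g).subtype_injective, ← SetLike.coe_sort_coe,
      Nat.card_coe_set_eq]
    refine (Set.ncard_le_ncard (t := ({1, z, s, s * z} : Set G))
      (fun x hx => by simpa using X.mem_inter.1 (hk' hx)) (Set.toFinite _)).trans ?_
    refine (Set.ncard_insert_le _ _).trans ?_
    refine (Nat.add_le_add_right (Set.ncard_insert_le _ _) 1).trans ?_
    refine (Nat.add_le_add_right (Nat.add_le_add_right (Set.ncard_insert_le _ _) 1) 1).trans ?_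
    simp
  have h := f.ker.card_mul_index
  rw [X.card_B, index_ker] at h
  have htop : f.range = ⊤ := eq_top_of_le_card _ (by
    rw [show Nat.card (Multiplicative W) = 64 by simp [Nat.card_eq_fintype_card]]
    have := Nat.mul_le_mul_right (Nat.card f.range) hle
    omega)
  obtain ⟨b, hb⟩ := MonoidHom.range_eq_top.1 htop (Multiplicative.ofAdd (k v).2)
  refine ⟨b, b.2, X.vec_congr (hw b) ?_⟩
  have h1 : Eqv (π s) (v + w b) 0 := hz _ (by rw [bil_add_left, hv, (hw b).1, add_zero]) (by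
    rw [hk.add, Prod.snd_add, show (k (w b)).2 = (k v).2 from congrArg Multiplicative.toAdd hb]
    exact w_add_self _)
  rw [Eqv.iff_add] at h1 ⊢
  rwa [add_zero] at h1

/-- Conjugation by the common centraliser. -/
theorem conj_A {c a : G} (hcz : c * z = z * c) (hcs : c * s = s * c) (ha : a ∈ hA Q s) :
    c * a * c⁻¹ ∈ hA Q s ∧ π (c * a * c⁻¹) = ρ c (π a) :=
  ⟨⟨X.S.conj_mem hcz ha.1, mem_centralizer_one.2
    (((show Commute c s from hcs).mul_left (mem_centralizer_one.1 ha.2 : Commute a s)).mul_left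
      (show Commute c s from hcs).inv_left).eq⟩, X.S.conj c hcz a ha.1⟩

theorem conj_B {c b : G} {v : V} (hcz : c * z = z * c) (hcs : c * s = s * c) (hb : b ∈ hB z Q g)
    (hv : Vec π ρ s b v) : c * b * c⁻¹ ∈ hB z Q g ∧ Vec π ρ s (c * b * c⁻¹) (ρ c v) := by
  have hcb : c * b * c⁻¹ ∈ hB z Q g := ⟨X.norm_Q₁ hcs hb.1, mem_centralizer_one.2
    (((show Commute c z from hcz).mul_left (X.B_comm hb).1).mul_left
      (show Commute c z from hcz).inv_left).eq⟩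
  refine ⟨hcb, by conv_lhs => rw [← X.rho_fix hcz hcs]
                  rw [X.S.rho_bil hcz, hv.1], fun x => ?_⟩
  have hi := X.S.comm_inv hcz
  rw [X.S.rho_mul (X.S.comm_mul hcz (X.B_comm hb).1) hi, X.S.rho_mul hcz (X.B_comm hb).1, hv.2,
    (X.S.om c hcz).map_sg, ← X.S.rho_mul hcz hi, mul_inv_cancel, X.S.rho_one, X.rho_fix hcz hcs]

end Fr

theorem Su.exists_conj (S : Su z Q π ρ) {u v : V} (hu : q u = 0) (hu0 : u ≠ 0) (hv : q v = 0)
    (hv0 : v ≠ 0) : ∃ h, h * z = z * h ∧ ρ h u = v := by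
  obtain ⟨k, -, hk, -, -, -, hku, -⟩ := to_e0 hu hu0
  obtain ⟨l, l', -, hl', -, -, -, hlv⟩ := to_e0 hv hv0
  obtain ⟨h, hh, hρ⟩ := S.lift _ (hl'.comp hk)
  refine ⟨h, hh, ?_⟩
  rw [hρ]
  show l' (k u) = v
  rw [hku, hlv]

/-- Every involution of `Q` outside the centre carries a frame. -/
theorem Fr.exists_at (X : Fr z Q π ρ s g) {x : G} (hx : x ∈ Q) (h2 : x * x = 1) (h1 : x ≠ 1)
    (hxz : x ≠ z) : ∃ g', Fr z Q π ρ x g' := by
  have hπ : π x ≠ 0 := fun e => ((X.S.pi_eq x hx).1 e).elim h1 hxz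
  obtain ⟨h, hh, he⟩ := X.S.exists_conj X.qe X.ne0 (X.S.sing_of hx h2) hπ
  have hp : π (h * s * h⁻¹) = π x := by rw [X.S.conj h hh s X.sQ, he]
  rcases X.S.eq_of_pi hx (X.S.conj_mem hh X.sQ) hp.symm with e | e
  · exact ⟨h * g, X.S, by rw [e, ← X.sconj]; group, hx, hxz⟩
  · obtain ⟨y, hy, hb⟩ := X.exists_y
    refine ⟨h * y * g, X.S, ?_, hx, hxz⟩
    rw [show h * y * g * z * (h * y * g)⁻¹ = h * (y * (g * z * g⁻¹) * y⁻¹) * h⁻¹ by group,
      X.sconj, X.y_spec hy hb, e, show h * (s * z) * h⁻¹ = h * s * h⁻¹ * (h * z * h⁻¹) by group,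
      X.S.zpi hh]

/-- There is a frame at every singular vector. -/
theorem Fr.exists_vec (X : Fr z Q π ρ s g) {v : V} (hv : q v = 0) (hv0 : v ≠ 0) :
    ∃ x g', Fr z Q π ρ x g' ∧ π x = v := by
  obtain ⟨x, hx, rfl⟩ := X.S.pi_surj v
  obtain ⟨g', X'⟩ := X.exists_at hx (by rw [X.S.sq x hx, hv, zb_zero])
    (fun e => hv0 (by rw [e, X.S.pi_one])) (fun e => hv0 (by rw [e, X.S.pi_z]))
  exact ⟨x, g', X', rfl⟩

end Cfsg.Agent.CoT
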