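import Cfsg.Agent.Lib.CoT.Frame

/-!
The commutator pairing between the two halves of the radical.
-/

set_option autoImplicit false
set_option linter.style.haveILetI false
set_option linter.unusedSectionVars false
set_option maxRecDepth 20000
set_option synthInstance.maxSize 4000
set_option synthInstance.maxHeartbeats 400000

namespace Cfsg.Agent.CoT

open Subgroup LargeExtra

local notation "F" => ZMod 2

theorem pair_data0 : ∀ a v : V, q a = 1 → bil a e0 = 0 → bil v e0 = 0 → bil a v = 0 →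
    ∃ b, q b = 1 ∧ bil b e0 = 0 ∧ bil b v = 0 ∧
      ∃ w, bil w e0 = 0 ∧ bil w a = 1 ∧ bil w b = 0 := by
  decide +kernel

theorem pair_data {e a v : V} (he : q e = 0) (he0 : e ≠ 0) (ha : q a = 1) (hae : bil a e = 0)
    (hve : bil v e = 0) (hav : bil a v = 0) :
    ∃ b, q b = 1 ∧ bil b e = 0 ∧ bil b v = 0 ∧ ∃ w, bil w e = 0 ∧ bil w a = 1 ∧ bil w b = 0 := by
  obtain ⟨k, k', hk, hk', hl, hr, hke, hke'⟩ := to_e0 he he0
  obtain ⟨b, hb, hb1, hb2, w, hw1, hw2, hw3⟩ := pair_data0 (k a) (k v) (by rw [hk.q_eq, ha])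
    (by rw [← hke, hk.bil_eq, hae]) (by rw [← hke, hk.bil_eq, hve]) (by rw [hk.bil_eq, hav])
  refine ⟨k' b, by rw [hk'.q_eq, hb], ?_, ?_, k' w, ?_, ?_, ?_⟩
  · rw [← hk.bil_eq, hr, hke, hb1]
  · rw [← hk.bil_eq, hr, hb2]
  · rw [← hk.bil_eq, hr, hke, hw1]
  · rw [← hk.bil_eq, hr, hw2]
  · rw [hk'.bil_eq, hw3]

variable {G : Type*} [Group G] [Finite G] {z : G} {Q : Subgroup G} {π : G → V} {ρ : G → V → V}
  {s g : G}

/-- The commutator of the two halves. -/
abbrev cm (a b : G) : G := b * a * b⁻¹ * a⁻¹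

open Classical in
/-- The `z`-exponent of the commutator. -/
noncomputable def phi (s : G) (a b : G) : F := if cm a b = 1 ∨ cm a b = s then 0 else 1

namespace Fr

variable (X : Fr z Q π ρ s g)
include X

theorem zb_mem (c d : F) : zb z c * zb s d ∈ Q ⊓ Q₁ Q g := by
  rcases F_cases c with rfl | rfl <;> rcases F_cases d with rfl | rfl <;>
    simp only [zb_zero, zb_one, one_mul, mul_one]
  · exact one_mem _
  · exact ⟨X.sQ, X.loc'.mem⟩
  · exact ⟨X.S.loc.mem, X.zQ₁⟩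
  · exact mul_mem ⟨X.S.loc.mem, X.zQ₁⟩ ⟨X.sQ, X.loc'.mem⟩

theorem pi_zb (c d : F) : π (zb z c * zb s d) = sm d (π s) := by
  rcases F_cases c with rfl | rfl <;> rcases F_cases d with rfl | rfl <;>
    simp only [zb_zero, zb_one, one_mul, mul_one, sm_zero, sm_one]
  · exact X.S.pi_one
  · exact X.S.pi_z
  · rw [X.S.pi_mul _ X.S.loc.mem _ X.sQ, X.S.pi_z, zero_add]

theorem sm_inj {c d : F} (h : sm c (π s) = sm d (π s)) : c = d := by
  rcases F_cases c with rfl | rfl <;> rcases F_cases d with rfl | rfl <;>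
    simp only [sm_zero, sm_one] at h
  · rfl
  · exact absurd h.symm X.ne0
  · exact absurd h X.ne0
  · rfl

theorem zb_inj {c d c' d' : F} (h : zb z c * zb s d = zb z c' * zb s d') : c = c' ∧ d = d' := by
  have h1 := congrArg π h
  rw [X.pi_zb, X.pi_zb] at h1
  have hd := X.sm_inj h1
  refine ⟨?_, hd⟩
  rw [hd] at h
  have h3 := mul_right_cancel h
  rcases F_cases c with rfl | rfl <;> rcases F_cases c' with rfl | rfl <;>
    simp only [zb_zero, zb_one] at h3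
  · rfl
  · exact absurd h3.symm X.S.loc.ne_one
  · exact absurd h3 X.S.loc.ne_one
  · rfl

theorem zb_eq_one {c d : F} (h : zb z c * zb s d = 1) : c = 0 ∧ d = 0 :=
  X.zb_inj (c' := 0) (d' := 0) (by rw [h, zb_zero, zb_zero, one_mul])

theorem zb_mul' (a b c d : F) :
    zb z a * zb s b * (zb z c * zb s d) = zb z (a + c) * zb s (b + d) := by
  have h : zb s b * zb z c = zb z c * zb s b := by
    refine zb_comm ?_ c
    rcases F_cases b with rfl | rfl <;> simp [zb_zero, zb_one, X.sz]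
  rw [zb_add X.S.loc.sq, zb_add X.ss]
  calc zb z a * zb s b * (zb z c * zb s d) = zb z a * (zb s b * zb z c) * zb s d := by group
    _ = zb z a * (zb z c * zb s b) * zb s d := by rw [h]
    _ = zb z a * zb z c * (zb s b * zb s d) := by group

theorem zb_inv (c d : F) : (zb z c * zb s d)⁻¹ = zb z c * zb s d :=
  inv_eq_of_mul_eq_one_right (X.E_inv (X.zb_mem c d))

theorem cm_mem {a b : G} (ha : a ∈ hA Q s) (hb : b ∈ hB z Q g) : cm a b ∈ Q ⊓ Q₁ Q g := by
  have h := inv_mem (X.orth.comm_mem ha hb)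
  rw [commutatorElement_def, show (a * b * a⁻¹ * b⁻¹)⁻¹ = cm a b by simp [cm, mul_assoc]] at h
  exact h

theorem cm_spec {a b : G} {v : V} (ha : a ∈ hA Q s) (hb : b ∈ hB z Q g) (hv : Vec π ρ s b v) :
    cm a b = zb z (phi s a b) * zb s (bil (π a) v) := by
  have hbz := (X.B_comm hb).1
  have hae := (X.mem_A.1 ha).2
  have hp : π (cm a b) = sm (bil (π a) v) (π s) := by
    rw [show cm a b = b * a * b⁻¹ * a⁻¹ from rfl,
      X.S.pi_mul _ (X.S.conj_mem hbz ha.1) _ (Q.inv_mem ha.1), X.S.conj b hbz a ha.1,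
      X.S.pi_inv ha.1, hv.2, sg_perp hae]
    rw [add_comm (π a), add_assoc, add_self, add_zero]
  unfold phi
  rcases X.mem_inter.1 (X.cm_mem ha hb) with e | e | e | e
  · rw [if_pos (Or.inl e), e, zb_zero, one_mul]
    rw [e, X.S.pi_one, ← sm_zero (π s)] at hp
    rw [← X.sm_inj hp, zb_zero]
  · rw [if_neg (by rintro (h | h) <;> rw [e] at h
                   · exact X.S.loc.ne_one h
                   · exact X.sne h.symm), zb_one, e]
    rw [e, X.S.pi_z, ← sm_zero (π s)] at hp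
    rw [← X.sm_inj hp, zb_zero, mul_one]
  · rw [if_pos (Or.inr e), e, zb_zero, one_mul]
    have hp' : sm (1 : F) (π s) = sm (bil (π a) v) (π s) := by rw [sm_one, ← hp, e]
    rw [← X.sm_inj hp', zb_one]
  · rw [if_neg (by rintro (h | h) <;> rw [e] at h
                   · exact X.sne (by rw [← inv_eq_of_mul_eq_one_right h]
                                     exact (inv_eq_of_mul_eq_one_right X.ss).symm)
                   · exact X.S.loc.ne_one (mul_eq_left.1 h)), zb_one, e]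
    have hp' : sm (1 : F) (π s) = sm (bil (π a) v) (π s) := by
      rw [sm_one, ← hp, e, X.S.pi_mul _ X.sQ _ X.S.loc.mem, X.S.pi_z, add_zero]
    rw [← X.sm_inj hp', zb_one, X.sz]

theorem phi_eq {a b : G} {v : V} (ha : a ∈ hA Q s) (hb : b ∈ hB z Q g) (hv : Vec π ρ s b v)
    {c d : F} (h : cm a b = zb z c * zb s d) : phi s a b = c ∧ bil (π a) v = d :=
  X.zb_inj ((X.cm_spec ha hb hv).symm.trans h)

theorem phi_add_left {a a' b : G} (ha : a ∈ hA Q s) (ha' : a' ∈ hA Q s) (hb : b ∈ hB z Q g) :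
    phi s (a * a') b = phi s a b + phi s a' b := by
  obtain ⟨v, hv⟩ := X.B_vec hb
  refine (X.phi_eq (mul_mem ha ha') hb hv (d := bil (π a) v + bil (π a') v) ?_).1
  rw [← X.zb_mul', ← X.cm_spec ha hb hv, ← X.cm_spec ha' hb hv]
  have hc := X.E_central_A ha (X.cm_mem ha' hb)
  calc cm (a * a') b = b * a * b⁻¹ * cm a' b * a⁻¹ := by simp [cm, mul_assoc]
    _ = cm a b * (a * cm a' b) * a⁻¹ := by simp [cm, mul_assoc]
    _ = cm a b * (cm a' b * a) * a⁻¹ := by rw [hc]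
    _ = cm a b * cm a' b := by group

theorem phi_add_right {a b b' : G} (ha : a ∈ hA Q s) (hb : b ∈ hB z Q g) (hb' : b' ∈ hB z Q g) :
    phi s a (b * b') = phi s a b + phi s a b' := by
  obtain ⟨v, hv⟩ := X.B_vec hb
  obtain ⟨v', hv'⟩ := X.B_vec hb'
  refine (X.phi_eq ha (mul_mem hb hb') (X.vec_mul hb hb' hv hv')
    (d := bil (π a) v + bil (π a) v') ?_).1
  rw [← X.zb_mul', ← X.cm_spec ha hb hv, ← X.cm_spec ha hb' hv']
  have hc := X.E_central_B hb (X.cm_mem ha hb')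
  have hc' := X.E_comm (c := cm a b) (d := cm a b') (X.S.Qz (X.cm_mem ha hb).1)
    (mem_centralizer_one.1 (X.orth.inf_le (X.cm_mem ha hb)).1.2) (X.cm_mem ha hb')
  calc cm a (b * b') = b * cm a b' * a * b⁻¹ * a⁻¹ := by simp [cm, mul_assoc]
    _ = cm a b' * (b * a * b⁻¹ * a⁻¹) := by rw [hc]; group
    _ = cm a b * cm a b' := by rw [hc']

theorem phi_E_left {d b : G} (hd : d ∈ Q ⊓ Q₁ Q g) (hb : b ∈ hB z Q g) : phi s d b = 0 := by
  obtain ⟨v, hv⟩ := X.B_vec hb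
  refine (X.phi_eq (X.orth.inf_le hd).1 hb hv (d := 0) ?_).1
  show b * d * b⁻¹ * d⁻¹ = _
  rw [zb_zero, zb_zero, X.E_central_B hb hd]; group

theorem phi_E_right {a d : G} (ha : a ∈ hA Q s) (hd : d ∈ Q ⊓ Q₁ Q g) : phi s a d = 0 := by
  refine (X.phi_eq ha (X.orth.inf_le hd).2 (X.vec_E hd) (d := 0) ?_).1
  show d * a * d⁻¹ * a⁻¹ = _
  rw [zb_zero, zb_zero, ← X.E_central_A ha hd]; group

theorem phi_congr {a a' b b' : G} {v v' : V} (ha : a ∈ hA Q s) (ha' : a' ∈ hA Q s)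
    (hb : b ∈ hB z Q g) (hb' : b' ∈ hB z Q g) (h1 : Eqv (π s) (π a) (π a'))
    (hv : Vec π ρ s b v) (hv' : Vec π ρ s b' v') (h2 : Eqv (π s) v v') :
    phi s a b = phi s a' b' := by
  have e1 := X.A_diff ha ha' h1
  have e2 := X.B_diff hb hb' hv hv' h2
  rw [show a' = a * (a⁻¹ * a') by group, show b' = b * (b⁻¹ * b') by group,
    X.phi_add_left ha (X.orth.inf_le e1).1 (mul_mem hb (X.orth.inf_le e2).2),
    X.phi_add_right ha hb (X.orth.inf_le e2).2, X.phi_E_right ha e2,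
    X.phi_E_left e1 (mul_mem hb (X.orth.inf_le e2).2), add_zero, add_zero]

theorem phi_conj {c a b : G} (hcz : c * z = z * c) (hcs : c * s = s * c) (ha : a ∈ hA Q s)
    (hb : b ∈ hB z Q g) : phi s (c * a * c⁻¹) (c * b * c⁻¹) = phi s a b := by
  obtain ⟨v, hv⟩ := X.B_vec hb
  obtain ⟨hcb, hcv⟩ := X.conj_B hcz hcs hb hv
  refine (X.phi_eq (X.conj_A hcz hcs ha).1 hcb hcv (d := bil (π a) v) ?_).1
  rw [← X.cm_spec ha hb hv]
  have h := X.E_comm hcz hcs (X.cm_mem ha hb)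
  calc cm (c * a * c⁻¹) (c * b * c⁻¹) = c * cm a b * c⁻¹ := by simp [cm, mul_assoc]
    _ = cm a b := by rw [h, mul_inv_cancel_right]

/-- An element exchanging `z` and `s`. -/
theorem exists_swap : ∃ h : G, h * z * h⁻¹ = s ∧ h * s * h⁻¹ = z := by
  obtain ⟨q₁, hq₁, hq₁z, hq₁s⟩ := X.pair.exists_left
  obtain ⟨y₁, hy₁, hy₁s, hy₁z⟩ := X.pair.exists_right
  rw [X.sconj] at hq₁s hy₁s hy₁z
  have cz : ∀ u v w : G, u * (v * w) * u⁻¹ = u * v * u⁻¹ * (u * w * u⁻¹) := fun u v w => by group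
  refine ⟨q₁ * y₁ * q₁, ?_, ?_⟩
  · calc q₁ * y₁ * q₁ * z * (q₁ * y₁ * q₁)⁻¹ = q₁ * (y₁ * (q₁ * z * q₁⁻¹) * y₁⁻¹) * q₁⁻¹ := by
          simp [mul_assoc]
      _ = q₁ * (z * s) * q₁⁻¹ := by rw [hq₁z, hy₁z]
      _ = s := by rw [cz q₁ z s, hq₁z, hq₁s, ← mul_assoc, X.S.loc.sq, one_mul]
  · calc q₁ * y₁ * q₁ * s * (q₁ * y₁ * q₁)⁻¹ = q₁ * (y₁ * (q₁ * s * q₁⁻¹) * y₁⁻¹) * q₁⁻¹ := by
          simp [mul_assoc]
      _ = q₁ * (z * s * s) * q₁⁻¹ := by rw [hq₁s, cz y₁ z s, hy₁z, hy₁s]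
      _ = z := by rw [mul_assoc z s s, X.ss, mul_one, hq₁z]

theorem swap_A {h a : G} (hz : h * z * h⁻¹ = s) (hs : h * s * h⁻¹ = z) (ha : a ∈ hA Q s) :
    h * a * h⁻¹ ∈ hB z Q g := by
  have hQ : Q.map (MulAut.conj h).toMonoidHom = Q₁ Q g :=
    X.S.loc.map_conj_eq (hz.trans X.sconj.symm)
  refine ⟨hQ ▸ conj_mem_conjMap ha.1, mem_centralizer_one.2 ?_⟩
  rw [← hs]
  calc h * a * h⁻¹ * (h * s * h⁻¹) = h * (a * s) * h⁻¹ := by group
    _ = h * (s * a) * h⁻¹ := by rw [mem_centralizer_one.1 ha.2]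
    _ = h * s * h⁻¹ * (h * a * h⁻¹) := by group

theorem swap_B {h b : G} (hz : h * z * h⁻¹ = s) (hs : h * s * h⁻¹ = z) (hb : b ∈ hB z Q g) :
    h * b * h⁻¹ ∈ hA Q s := by
  have hQ' : Q.map (MulAut.conj (h * g)).toMonoidHom = Q.map (MulAut.conj (1 : G)).toMonoidHom :=
    X.S.loc.map_conj_eq (by
      rw [show h * g * z * (h * g)⁻¹ = h * (g * z * g⁻¹) * h⁻¹ by group, X.sconj, hs]; group)
  refine ⟨?_, mem_centralizer_one.2 ?_⟩
  · have hm : h * b * h⁻¹ ∈ Q.map (MulAut.conj (h * g)).toMonoidHom := by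
      rw [mem_conjMap, show (h * g)⁻¹ * (h * b * h⁻¹) * (h * g) = g⁻¹ * b * g by group]
      exact mem_conjMap.1 hb.1
    rw [hQ', mem_conjMap] at hm
    simpa using hm
  · rw [← hz]
    calc h * b * h⁻¹ * (h * z * h⁻¹) = h * (b * z) * h⁻¹ := by group
      _ = h * (z * b) * h⁻¹ := by rw [(X.B_comm hb).1]
      _ = h * z * h⁻¹ * (h * b * h⁻¹) := by group

theorem swap_E {h d : G} (hz : h * z * h⁻¹ = s) (hs : h * s * h⁻¹ = z) (hd : d ∈ Q ⊓ Q₁ Q g) :
    h * d * h⁻¹ ∈ Q ⊓ Q₁ Q g :=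
  ⟨(X.swap_B hz hs (X.orth.inf_le hd).2).1, (X.swap_A hz hs (X.orth.inf_le hd).1).1⟩

theorem phi_nondeg {a : G} (ha : a ∈ hA Q s) (h : ¬ Eqv (π s) (π a) 0) :
    ∃ b ∈ hB z Q g, phi s a b = 1 := by
  obtain ⟨k, hkz, hks⟩ := X.exists_swap
  have hiz : k⁻¹ * z * k⁻¹⁻¹ = s := by rw [← hks]; group
  have his : k⁻¹ * s * k⁻¹⁻¹ = z := by rw [← hkz]; group
  have hb0 := X.swap_A hkz hks ha
  obtain ⟨w, hw⟩ := X.B_vec hb0
  have hw0 : ¬ Eqv (π s) w 0 := fun e => h (by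
    have h1 := X.swap_E hiz his (X.mem_E_of_vec hb0 hw e)
    rw [show k⁻¹ * (k * a * k⁻¹) * k⁻¹⁻¹ = a by group] at h1
    exact X.E_pi h1)
  obtain ⟨x, hx1, hx2⟩ : ∃ x, bil x (π s) = 0 ∧ bil x w = 1 := by
    by_contra hc
    push Not at hc
    refine hw0 ?_
    rcases perp_line X.ne0 fun x hx => (F_cases _).resolve_right (hc x hx) with e | e
    · exact Or.inl e
    · exact Or.inr (by rw [e, zero_add])
  obtain ⟨a', ha', rfl⟩ := X.exists_A hx1
  have h1 := X.cm_spec ha' hb0 hw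
  rw [hx2, zb_one] at h1
  refine ⟨k⁻¹ * a' * k, by simpa using X.swap_A hiz his ha', ?_⟩
  have hb := X.swap_A hiz his ha'
  rw [inv_inv] at hb
  obtain ⟨u, hu⟩ := X.B_vec hb
  refine (X.phi_eq ha hb hu (d := phi s a' (k * a * k⁻¹)) ?_).1
  have hk1 : k⁻¹ * z * k = s := by rw [← hiz]; group
  have hk2 : k⁻¹ * s * k = z := by rw [← his]; group
  have h2 : k⁻¹ * (zb z (phi s a' (k * a * k⁻¹)) * s) * k =
      zb z 1 * zb s (phi s a' (k * a * k⁻¹)) := by
    rcases F_cases (phi s a' (k * a * k⁻¹)) with e | e <;> rw [e] <;>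
      simp only [zb_zero, zb_one, one_mul, mul_one]
    · exact hk2
    · calc k⁻¹ * (z * s) * k = (k⁻¹ * z * k) * (k⁻¹ * s * k) := by group
        _ = z * s := by rw [hk1, hk2, X.sz]
  rw [← h1] at h2
  calc cm a (k⁻¹ * a' * k) = (k⁻¹ * cm a' (k * a * k⁻¹) * k)⁻¹ := by simp [cm, mul_assoc]
    _ = _ := by rw [h2, X.zb_inv]

theorem pairing_ns {a b : G} {v : V} (ha : a ∈ hA Q s) (hb : b ∈ hB z Q g) (hv : Vec π ρ s b v)
    (hq : q (π a) = 1) : phi s a b = bil (π a) v := by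
  have hae := (X.mem_A.1 ha).2
  -- the pairing vanishes on orthogonal vectors
  have key : ∀ (b : G) (v : V), b ∈ hB z Q g → Vec π ρ s b v → bil (π a) v = 0 → phi s a b = 0 := by
    intro b v hb hv hav
    obtain ⟨c, hc, hce, hcv, w, hwe, hwa, hwc⟩ := pair_data X.qe X.ne0 hq hae hv.1 hav
    obtain ⟨k, hkz, hks, hk⟩ := X.lift_fix (isOm_tr_tr hq hc) (by
      show tr (π a) (tr c (π s)) = π s
      rw [tr_fix (x := π s) (by rw [bil_comm, hce]), tr_fix (x := π s) (by rw [bil_comm, hae])])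
    obtain ⟨aw, haw, hawπ⟩ := X.exists_A hwe
    obtain ⟨hca, hcaπ⟩ := X.conj_A hkz hks haw
    obtain ⟨hcb, hcbv⟩ := X.conj_B hkz hks hb hv
    have e1 : π (k * aw * k⁻¹) = π (aw * a) := by
      rw [hcaπ, hk, hawπ]
      show tr (π a) (tr c w) = _
      rw [tr_fix hwc, tr_move hwa, X.S.pi_mul _ haw.1 _ ha.1, hawπ]
    have e2 : ρ k v = v := by
      rw [hk]
      show tr (π a) (tr c v) = v
      rw [tr_fix (x := v) (by rw [bil_comm, hcv]), tr_fix (x := v) (by rw [bil_comm, hav])]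
    have h1 := X.phi_congr hca (mul_mem haw ha) hcb hb (e1 ▸ Eqv.refl _ _) hcbv hv
      (e2.symm ▸ Eqv.refl _ _)
    rw [X.phi_conj hkz hks haw hb, X.phi_add_left haw ha hb] at h1
    exact left_eq_add.1 h1
  have hne : ¬ Eqv (π s) (π a) 0 := fun e => by
    have := e.q_eq X.qe (bil_zero_left _)
    rw [hq, q_zero] at this
    exact one_ne_zero this
  obtain ⟨b₁, hb₁, hp1⟩ := X.phi_nondeg ha hne
  obtain ⟨v₁, hv₁⟩ := X.B_vec hb₁
  have hb1v : bil (π a) v₁ = 1 :=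
    (F_cases _).resolve_left fun e => by rw [key b₁ v₁ hb₁ hv₁ e] at hp1; exact zero_ne_one hp1
  rcases F_cases (bil (π a) v) with e | e
  · rw [e, key b v hb hv e]
  · have h1 := key _ _ (mul_mem hb hb₁) (X.vec_mul hb hb₁ hv hv₁)
      (by rw [bil_add_right, e, hb1v]; rfl)
    rw [X.phi_add_right ha hb hb₁, hp1] at h1
    rw [e, F_eq_of_add _ _ h1]

theorem pairing {a b : G} {v : V} (ha : a ∈ hA Q s) (hb : b ∈ hB z Q g) (hv : Vec π ρ s b v) :
    phi s a b = bil (π a) v := by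
  have hae := (X.mem_A.1 ha).2
  rcases F_cases (q (π a)) with h | h
  · obtain ⟨c, -, hc, hce, hca⟩ := exists_ns_perp (π s) (π a) X.qe h hae
    obtain ⟨a', ha', rfl⟩ := X.exists_A hce
    have h2 : q (π (a * a')) = 1 := by
      rw [X.S.pi_mul _ ha.1 _ ha'.1, q_add, h, hc, bil_comm, hca, zero_add, add_zero]
    have h3 := X.pairing_ns (mul_mem ha ha') hb hv h2
    rw [X.phi_add_left ha ha' hb, X.pairing_ns ha' hb hv hc, X.S.pi_mul _ ha.1 _ ha'.1,
      bil_add_left] at h3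
    exact add_right_cancel h3
  · exact X.pairing_ns ha hb hv h

/-- Conjugation of the left half by the right half. -/
theorem conj_rule {a b : G} {v : V} (ha : a ∈ hA Q s) (hb : b ∈ hB z Q g) (hv : Vec π ρ s b v) :
    b * a * b⁻¹ = zb z (bil (π a) v) * zb s (bil (π a) v) * a := by
  have h := X.cm_spec ha hb hv
  rw [X.pairing ha hb hv] at h
  rw [← h]; simp [cm, mul_assoc]

/-- Conjugation of the right half by the left half. -/
theorem conj_B_by_A {a b : G} {v : V} (ha : a ∈ hA Q s) (hb : b ∈ hB z Q g) (hv : Vec π ρ s b v) :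
    a * b * a⁻¹ = b * (zb z (bil (π a) v) * zb s (bil (π a) v)) := by
  have h := X.conj_rule ha hb hv
  set e := zb z (bil (π a) v) * zb s (bil (π a) v)
  have he : e ∈ Q ⊓ Q₁ Q g := X.zb_mem _ _
  have h1 : b * a = e * a * b := by rw [← h]; group
  have h2 : a * b = e * b * a := by
    calc a * b = e * e * a * b := by rw [X.E_inv he, one_mul]
      _ = e * (b * a) := by rw [h1]; group
      _ = e * b * a := by group
  rw [h2, mul_inv_cancel_right, X.E_central_B hb he]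

/-- Conjugation of the right half by an element of `Q` outside the centraliser of `s`. -/
theorem third {y b : G} {v : V} (hy : y ∈ Q) (hyb : bil (π y) (π s) = 1) (hb : b ∈ hB z Q g)
    (hv : Vec π ρ s b v) :
    ∃ d ∈ hA Q s, y * b * y⁻¹ = b * d ∧ Eqv (π s) (π d) v := by
  have hbz := (X.B_comm hb).1
  have hi := X.S.comm_inv hbz
  have hm : b⁻¹ * y * b * y⁻¹ ∈ Q :=
    mul_mem (by simpa using X.S.conj_mem hi hy) (Q.inv_mem hy)
  have hp : π (b⁻¹ * y * b * y⁻¹) = sg (π s) v (π y) + π y := by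
    rw [show b⁻¹ * y * b * y⁻¹ = b⁻¹ * y * b⁻¹⁻¹ * y⁻¹ by group,
      X.S.pi_mul _ (X.S.conj_mem hi hy) _ (Q.inv_mem hy), X.S.conj _ hi y hy, X.S.pi_inv hy,
      (X.vec_inv hb hv).2]
  have hd : Eqv (π s) (π (b⁻¹ * y * b * y⁻¹)) v := by
    rw [hp, sg, hyb, sm_one, Eqv.iff_add]
    have : π y + sm (bil (π y) v) (π s) + (v + sm (q v) (π s)) + π y + v =
        sm (bil (π y) v + q v) (π s) := by
      rw [sm_add]
      calc _ = (π y + π y) + (v + v) + (sm (bil (π y) v) (π s) + sm (q v) (π s)) := by abel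
        _ = _ := by rw [add_self, add_self, zero_add, zero_add]
    rw [this]
    rcases F_cases (bil (π y) v + q v) with e | e <;> rw [e]
    · exact Or.inl (sm_zero _)
    · exact Or.inr (sm_one _)
  exact ⟨b⁻¹ * y * b * y⁻¹, X.mem_A.2 ⟨hm, hd.perp hv.1⟩, by group, hd⟩

/-- The square on the right half. -/
theorem B_sq {b : G} {v : V} (hb : b ∈ hB z Q g) (hv : Vec π ρ s b v) : b * b = zb s (q v) := by
  obtain ⟨y, hy, hyb⟩ := X.exists_y
  obtain ⟨d, hd, hyd, hdv⟩ := X.third hy hyb hb hv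
  have hys := X.y_spec hy hyb
  have hqd : q (π d) = q v := hdv.q_eq X.qe hv.1
  have hbeta : bil (π d) v = 0 := by
    rw [bil_comm, hdv.bil_eq hv.1, bil_self]
  have hc := X.conj_rule hd hb hv
  rw [hbeta, zb_zero, zb_zero, one_mul, one_mul] at hc
  have hbd : b * d = d * b := mul_inv_eq_iff_eq_mul.1 hc
  have hbb : b * b = 1 ∨ b * b = s := X.loc'.sq_cases hb.1
  have h1 : y * (b * b) * y⁻¹ = b * b * zb z (q v) := by
    calc y * (b * b) * y⁻¹ = y * b * y⁻¹ * (y * b * y⁻¹) := by group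
      _ = b * d * (b * d) := by rw [hyd]
      _ = b * (d * b) * d := by group
      _ = b * b * (d * d) := by rw [← hbd]; group
      _ = b * b * zb z (q v) := by rw [X.S.sq d hd.1, hqd]
  rcases hbb with e | e <;> rw [e] at h1 ⊢
  · rcases F_cases (q v) with e' | e' <;> rw [e'] at h1 ⊢
    · rw [zb_zero]
    · rw [zb_one, mul_one, mul_inv_cancel, one_mul] at h1
      exact absurd h1.symm X.S.loc.ne_one
  · rcases F_cases (q v) with e' | e' <;> rw [e'] at h1 ⊢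
    · rw [zb_zero, mul_one, hys] at h1
      exact absurd (mul_eq_left.1 h1) X.S.loc.ne_one
    · rw [zb_one]

/-- Commutation in the right half. -/
theorem B_rule {b b' : G} {v v' : V} (hb : b ∈ hB z Q g) (hb' : b' ∈ hB z Q g)
    (hv : Vec π ρ s b v) (hv' : Vec π ρ s b' v') : b' * b = b * b' * zb s (bil v v') := by
  have h := X.B_sq (mul_mem hb hb') (X.vec_mul hb hb' hv hv')
  rw [q_add, zb_add X.ss, zb_add X.ss, ← X.B_sq hb hv, ← X.B_sq hb' hv'] at h
  have c1 := zb_comm (X.B_comm hb').2 (bil v v')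
  calc b' * b = b⁻¹ * (b * b' * (b * b')) * b'⁻¹ := by group
    _ = b⁻¹ * (b * b * (b' * b') * zb s (bil v v')) * b'⁻¹ := by rw [h]
    _ = b * (b' * (b' * zb s (bil v v'))) * b'⁻¹ := by group
    _ = b * b' * zb s (bil v v') := by rw [c1]; group

/-- The square of a product of the two halves. -/
theorem sq_ab {a b : G} {v : V} (ha : a ∈ hA Q s) (hb : b ∈ hB z Q g) (hv : Vec π ρ s b v) :
    a * b * (a * b) = zb z (q (π a) + bil (π a) v) * zb s (bil (π a) v + q v) := by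
  have h := X.conj_rule ha hb hv
  have hc := X.E_central_A ha (X.zb_mem (bil (π a) v) (bil (π a) v))
  calc a * b * (a * b) = a * (b * a * b⁻¹) * (b * b) := by group
    _ = zb z (bil (π a) v) * zb s (bil (π a) v) * (a * a) * (b * b) := by
        rw [h, ← mul_assoc a, hc]; group
    _ = zb z (bil (π a) v) * zb s (bil (π a) v) * (zb z (q (π a)) * zb s 0) *
        (zb z 0 * zb s (q v)) := by
        rw [X.S.sq a ha.1, X.B_sq hb hv, zb_zero s, zb_zero z, one_mul, mul_one]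
    _ = _ := by rw [X.zb_mul', X.zb_mul']; congr 2 <;> ring

end Fr

end Cfsg.Agent.CoT
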