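import Cfsg.Agent.Lib.CoT.Pairing

/-!
The commutator of two right halves at orthogonal base points.
-/

set_option autoImplicit false
set_option linter.style.haveILetI false
set_option linter.unusedSectionVars false
set_option maxRecDepth 20000
set_option synthInstance.maxSize 4000
set_option synthInstance.maxHeartbeats 400000

namespace Cfsg.Agent.CoT

open Subgroup LargeExtra

local notation "F" => ZMod 2

theorem span01 : ∀ u : V, (∀ x, bil x e0 = 0 → bil x e1 = 0 → bil x u = 0) →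
    u = 0 ∨ u = e0 ∨ u = e1 ∨ u = e0 + e1 := by
  decide +kernel

theorem cycle_facts :
    q (e3 + f3) = 1 ∧ q (e3 + f3 + e2) = 1 ∧ q (e2 + f2) = 1 ∧ q (e2 + (e3 + f3)) = 1 ∧
    tr (e2 + (e3 + f3)) (tr (e2 + f2) e0) = e0 ∧ tr (e2 + (e3 + f3)) (tr (e2 + f2) e1) = e1 ∧
    tr (e2 + (e3 + f3)) (tr (e2 + f2) (e3 + f3)) = e3 + f3 ∧
    tr (e2 + (e3 + f3)) (tr (e2 + f2) e2) = e2 + f2 + (e3 + f3) ∧
    tr (e2 + (e3 + f3)) (tr (e2 + f2) f2) = e2 := by
  decide +kernel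

theorem perp_facts : bil f1 e0 = 0 ∧ bil f1 e1 = 1 ∧
    bil (e3 + f3) e0 = 0 ∧ bil (e3 + f3) e1 = 0 ∧ bil e2 e0 = 0 ∧ bil e2 e1 = 0 ∧
    bil f2 e0 = 0 ∧ bil f2 e1 = 0 ∧ bil (e3 + f3) e2 = 0 ∧ bil (e3 + f3) f2 = 0 ∧
    bil e1 e0 = 0 ∧ bil e3 e0 = 0 ∧ bil e3 e1 = 0 ∧ bil e3 e2 = 0 ∧ bil f3 e0 = 0 ∧
    bil f3 e1 = 0 ∧ bil f3 e2 = 0 := by
  decide +kernel

theorem sg_two {n : V} (hn : q n = 1) (h0 : bil n e0 = 0) (h1 : bil n e1 = 0) (x : V) :
    sg e0 n (sg e1 n x) = sg (e0 + e1) (n + e0) x := by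
  have e01 : q e0 = 0 ∧ q e1 = 0 ∧ bil e1 e0 = 0 := by decide +kernel
  have k1 : bil (sg e1 n x) n = bil x n := by
    simp only [sg, bil_add_left, bil_sm_left, bil_comm e1 n, h1, bil_self, mul_zero, add_zero]
  have k2 : bil (sg e1 n x) e0 = bil x e0 := by
    simp only [sg, bil_add_left, bil_sm_left, e01.2.2, h0, mul_zero, add_zero]
  have hq : q (n + e0) = 1 := by rw [q_add, hn, e01.1, h0, add_zero, add_zero]
  rw [sg, k1, k2]
  simp only [sg, hn, hq, bil_add_right, sm_one, sm_add, sm_add_right]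
  have h := add_self (sm (bil x e1) e0)
  calc _ = x + sm (bil x n) e0 + sm (bil x n) e1 + sm (bil x e1) n + sm (bil x e1) e1 +
        sm (bil x e0) n + sm (bil x e0) e0 := by abel
    _ = x + sm (bil x n) e0 + sm (bil x n) e1 + sm (bil x e1) n + sm (bil x e1) e1 +
        sm (bil x e0) n + sm (bil x e0) e0 + (sm (bil x e1) e0 + sm (bil x e1) e0) +
        (sm (bil x e0) e0 + sm (bil x e0) e0) + (sm (bil x e0) e1 + sm (bil x e0) e1) := by
          simp only [add_self, add_zero]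
    _ = _ := by abel

theorem sg_symm01 : ∀ x : V, sg e0 e1 x = sg e1 e0 x := by decide +kernel

theorem split3 : ∀ v : V, bil v e0 = 0 → bil v e1 = 0 → bil v e2 = 0 →
    ∃ a b c d d' : F, v = sm a e0 + sm b e1 + sm c e2 + sm d e3 + sm d' f3 := by
  decide +kernel

variable {G : Type*} [Group G] [Finite G] {z : G} {Q : Subgroup G} {π : G → V} {ρ : G → V → V}
  {s g s' g' : G}

/-- Two frames at the first two basis vectors. -/
structure Two (z : G) (Q : Subgroup G) (π : G → V) (ρ : G → V → V) (s g s' g' : G) : Prop where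
  X : Fr z Q π ρ s g
  X' : Fr z Q π ρ s' g'
  se : π s = e0
  se' : π s' = e1

/-- The value of the commutator of two lifts. -/
def MU (z : G) (Q : Subgroup G) (π : G → V) (ρ : G → V → V) (s g s' g' : G) (v v' : V) (c : F) :
    Prop :=
  ∀ b ∈ hB z Q g, Vec π ρ s b v → ∀ b' ∈ hB z Q g', Vec π ρ s' b' v' →
    b' * b * b'⁻¹ = b * zb z c

theorem Two.exists_two (X : Fr z Q π ρ s g) :
    ∃ s g s' g', Two z Q π ρ s g s' g' := by
  obtain ⟨q0, -, -, n0, q1, -⟩ := base_facts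
  obtain ⟨a, ga, Xa, ea⟩ := X.exists_vec q0 n0
  obtain ⟨b, gb, Xb, eb⟩ := X.exists_vec q1 (by decide +kernel)
  exact ⟨a, ga, b, gb, Xa, Xb, ea, eb⟩

namespace Two

variable (T : Two z Q π ρ s g s' g')
include T

theorem A_left {x : G} : x ∈ hA Q s ↔ x ∈ Q ∧ bil (π x) e0 = 0 := by rw [T.X.mem_A, T.se]

theorem A_right {x : G} : x ∈ hA Q s' ↔ x ∈ Q ∧ bil (π x) e1 = 0 := by rw [T.X'.mem_A, T.se']

theorem s'_mem : s' ∈ hA Q s := T.A_left.2 ⟨T.X'.sQ, by rw [T.se']; exact perp_facts.2.2.2.2.2.2.2.2.2.2.1⟩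

theorem s_mem : s ∈ hA Q s' := T.A_right.2 ⟨T.X.sQ, by
  rw [T.se, bil_comm]; exact perp_facts.2.2.2.2.2.2.2.2.2.2.1⟩

theorem B_comm' {b : G} {v : V} (hb : b ∈ hB z Q g) (hv : Vec π ρ s b v) (h : bil v e1 = 0) :
    b * s' = s' * b := by
  have h1 := T.X.conj_rule T.s'_mem hb hv
  rw [T.se', bil_comm, h, zb_zero, zb_zero, one_mul, one_mul] at h1
  exact mul_inv_eq_iff_eq_mul.1 h1

theorem B'_comm {b' : G} {v' : V} (hb' : b' ∈ hB z Q g') (hv' : Vec π ρ s' b' v')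
    (h : bil v' e0 = 0) : b' * s = s * b' := by
  have h1 := T.X'.conj_rule T.s_mem hb' hv'
  rw [T.se, bil_comm, h, zb_zero, zb_zero, one_mul, one_mul] at h1
  exact mul_inv_eq_iff_eq_mul.1 h1

theorem ne_eqv : ¬ Eqv e1 e0 0 := by decide +kernel

theorem inter_E {d : G} (h : d ∈ Q ⊓ Q₁ Q g) (h' : d ∈ Q ⊓ Q₁ Q g') : d = 1 ∨ d = z := by
  have h0 := T.X'.E_pi h'
  rw [T.se'] at h0
  rcases T.X.mem_inter.1 h with e | e | e | e
  · exact Or.inl e
  · exact Or.inr e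
  · rw [e, T.se] at h0; exact absurd h0 T.ne_eqv
  · rw [e, T.X.S.pi_mul _ T.X.sQ _ T.X.S.loc.mem, T.X.S.pi_z, add_zero, T.se] at h0
    exact absurd h0 T.ne_eqv

theorem exists_mu {v v' : V} (h0 : bil v e0 = 0) (h1 : bil v e1 = 0) (h0' : bil v' e0 = 0)
    (h1' : bil v' e1 = 0) (hvv : bil v v' = 0) : ∃ c, MU z Q π ρ s g s' g' v v' c := by
  obtain ⟨b, hb, hv⟩ := T.X.exists_B (v := v) (by rw [T.se, h0])
  obtain ⟨b', hb', hv'⟩ := T.X'.exists_B (v := v') (by rw [T.se', h1'])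
  have hbz := (T.X'.B_comm hb').1
  have hbs := T.B'_comm hb' hv' h0'
  obtain ⟨hc, hcv⟩ := T.X.conj_B hbz hbs hb hv
  have hρ : ρ b' v = v := by
    rw [hv'.2, sg_perp (by rw [T.se', h1]), hvv, sm_zero, add_zero]
  rw [hρ] at hcv
  have hE := T.X.B_diff hb hc hv hcv (Eqv.refl _ _)
  have hiz := (T.X.B_comm hb).1
  have his := T.B_comm' hb hv h1
  have hiz' := T.X.S.comm_inv hiz
  have his' : b⁻¹ * s' = s' * b⁻¹ := ((show Commute b s' from his).inv_left).eq
  obtain ⟨hc', hcv'⟩ := T.X'.conj_B hiz' his' hb' hv'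
  rw [inv_inv] at hc' hcv'
  have hρ' : ρ b⁻¹ v' = v' := by
    rw [(T.X.vec_inv hb hv).2, sg_perp (by rw [T.se, h0']), bil_comm, hvv, sm_zero, add_zero]
  rw [hρ'] at hcv'
  have hE' := T.X'.B_diff hb' hc' hv' hcv' (Eqv.refl _ _)
  have hE'' : b⁻¹ * b' * b * b'⁻¹ ∈ Q ⊓ Q₁ Q g' := by
    have hd : b'⁻¹ * (b⁻¹ * b' * b) = b' * (b'⁻¹ * (b⁻¹ * b' * b)) * b'⁻¹ := by
      rw [T.X'.E_central_B hb' hE']; group
    have : b⁻¹ * b' * b * b'⁻¹ = b'⁻¹ * (b⁻¹ * b' * b) := by rw [hd]; group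
    rw [this]; exact hE'
  have hk : b⁻¹ * b' * b * b'⁻¹ = b⁻¹ * (b' * b * b'⁻¹) := by group
  obtain ⟨c, hcc⟩ : ∃ c, b' * b * b'⁻¹ = b * zb z c := by
    rcases T.inter_E (hk ▸ hE) hE'' with e | e <;> rw [hk] at e
    · exact ⟨0, by rw [zb_zero, mul_one, ← mul_inv_cancel_left b (b' * b * b'⁻¹), e, mul_one]⟩
    · exact ⟨1, by rw [zb_one, ← mul_inv_cancel_left b (b' * b * b'⁻¹), e]⟩
  refine ⟨c, fun β hβ hvβ β' hβ' hvβ' => ?_⟩
  have hd := T.X.B_diff hb hβ hv hvβ (Eqv.refl _ _)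
  have hd' := T.X'.B_diff hb' hβ' hv' hvβ' (Eqv.refl _ _)
  have hbd : b' * (b⁻¹ * β) = b⁻¹ * β * b' := T.X.E_comm hbz hbs hd
  have hdb : b * (b'⁻¹ * β') = b'⁻¹ * β' * b := T.X'.E_comm hiz his hd'
  have hβz := (T.X'.B_comm hβ').1
  have hβs := T.B'_comm hβ' hvβ' h0'
  have hβd : β' * (b⁻¹ * β) = b⁻¹ * β * β' := T.X.E_comm hβz hβs hd
  calc β' * β * β'⁻¹ = β' * b * β'⁻¹ * (β' * (b⁻¹ * β) * β'⁻¹) := by group
    _ = b' * ((b'⁻¹ * β') * b * (b'⁻¹ * β')⁻¹) * b'⁻¹ * (b⁻¹ * β) := by rw [hβd]; group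
    _ = b * zb z c * (b⁻¹ * β) := by rw [← hdb, mul_inv_cancel_right, hcc]
    _ = b * ((b⁻¹ * β) * zb z c) := by rw [zb_comm (T.X.S.Qz hd.1) c]; group
    _ = β * zb z c := by group

theorem mu_unique {v v' : V} {c c' : F} (h0 : bil v e0 = 0) (h1' : bil v' e1 = 0)
    (h : MU z Q π ρ s g s' g' v v' c) (h' : MU z Q π ρ s g s' g' v v' c') : c = c' := by
  obtain ⟨b, hb, hv⟩ := T.X.exists_B (v := v) (by rw [T.se, h0])
  obtain ⟨b', hb', hv'⟩ := T.X'.exists_B (v := v') (by rw [T.se', h1'])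
  have h2 := mul_left_cancel ((h b hb hv b' hb' hv').symm.trans (h' b hb hv b' hb' hv'))
  rcases F_cases c with rfl | rfl <;> rcases F_cases c' with rfl | rfl <;>
    simp only [zb_zero, zb_one] at h2
  · rfl
  · exact absurd h2.symm T.X.S.loc.ne_one
  · exact absurd h2 T.X.S.loc.ne_one
  · rfl

theorem mu_add_left {v w v' : V} {c d : F} (h0 : bil v e0 = 0)
    (h : MU z Q π ρ s g s' g' v v' c) (h' : MU z Q π ρ s g s' g' w v' d) :
    MU z Q π ρ s g s' g' (v + w) v' (c + d) := by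
  intro β hβ hvβ β' hβ' hvβ'
  obtain ⟨b, hb, hv⟩ := T.X.exists_B (v := v) (by rw [T.se, h0])
  have hm : b⁻¹ * β ∈ hB z Q g := mul_mem (inv_mem hb) hβ
  have hw : Vec π ρ s (b⁻¹ * β) w := T.X.vec_congr (T.X.vec_mul (inv_mem hb) hβ (T.X.vec_inv hb hv) hvβ)
    (by rw [← add_assoc, add_self, zero_add]; exact Eqv.refl _ _)
  have hcz := zb_comm (T.X.B_comm hm).1 c
  calc β' * β * β'⁻¹ = β' * b * β'⁻¹ * (β' * (b⁻¹ * β) * β'⁻¹) := by group
    _ = b * zb z c * ((b⁻¹ * β) * zb z d) := by rw [h b hb hv β' hβ' hvβ', h' _ hm hw β' hβ' hvβ']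
    _ = b * (zb z c * (b⁻¹ * β)) * zb z d := by group
    _ = β * zb z (c + d) := by rw [← hcz, zb_add T.X.S.loc.sq]; group

theorem mu_add_right {v v' w' : V} {c d : F} (h1' : bil v' e1 = 0)
    (h : MU z Q π ρ s g s' g' v v' c) (h' : MU z Q π ρ s g s' g' v w' d) :
    MU z Q π ρ s g s' g' v (v' + w') (c + d) := by
  intro β hβ hvβ β' hβ' hvβ'
  obtain ⟨b', hb', hv'⟩ := T.X'.exists_B (v := v') (by rw [T.se', h1'])
  have hm : b'⁻¹ * β' ∈ hB z Q g' := mul_mem (inv_mem hb') hβ'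
  have hw : Vec π ρ s' (b'⁻¹ * β') w' :=
    T.X'.vec_congr (T.X'.vec_mul (inv_mem hb') hβ' (T.X'.vec_inv hb' hv') hvβ')
    (by rw [← add_assoc, add_self, zero_add]; exact Eqv.refl _ _)
  have hcz := zb_comm (T.X'.B_comm hb').1 d
  calc β' * β * β'⁻¹ = b' * ((b'⁻¹ * β') * β * (b'⁻¹ * β')⁻¹) * b'⁻¹ := by group
    _ = b' * (β * zb z d) * b'⁻¹ := by rw [h' β hβ hvβ _ hm hw]
    _ = b' * β * b'⁻¹ * (b' * zb z d * b'⁻¹) := by group
    _ = β * zb z (c + d) := by
      rw [h β hβ hvβ b' hb' hv', hcz, mul_inv_cancel_right, mul_assoc, ← zb_add T.X.S.loc.sq]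

theorem lift_both {f : V → V} (hf : IsOm f) (h0 : f e0 = e0) (h1 : f e1 = e1) :
    ∃ c, c * z = z * c ∧ c * s = s * c ∧ c * s' = s' * c ∧ ρ c = f := by
  obtain ⟨c, hcz, hcs, hρ⟩ := T.X.lift_fix hf (by rw [T.se, h0])
  rcases T.X'.fix_cases hcz (by rw [T.se', hρ, h1]) with e | e
  · exact ⟨c, hcz, hcs, e, hρ⟩
  · obtain ⟨y, hy, hye⟩ := T.X.S.pi_surj f1
    refine ⟨y * c, T.X.S.comm_mul (T.X.S.Qz hy) hcz, ?_,
      e y hy (by rw [hye, T.se']; exact perp_facts.2.1), funext fun v => ?_⟩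
    · have hys : y * s = s * y := (T.X.bil_se hy).2 (by rw [hye, T.se]; exact perp_facts.1)
      exact ((show Commute y s from hys).mul_left hcs).eq
    · rw [T.X.S.rho_mul (T.X.S.Qz hy) hcz, T.X.S.rho_Q hy, hρ]

theorem mu_map {f : V → V} (hf : IsOm f) (h0 : f e0 = e0) (h1 : f e1 = e1) {v v' : V} {c : F}
    (h : MU z Q π ρ s g s' g' v v' c) : MU z Q π ρ s g s' g' (f v) (f v') c := by
  obtain ⟨f', hf', hl, hr⟩ := hf.inv
  obtain ⟨k, hkz, hks, hks', hρ⟩ := T.lift_both hf' (by rw [← h0, hl, h0]) (by rw [← h1, hl, h1])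
  intro β hβ hvβ β' hβ' hvβ'
  obtain ⟨hb, hv⟩ := T.X.conj_B hkz hks hβ hvβ
  obtain ⟨hb', hv'⟩ := T.X'.conj_B hkz hks' hβ' hvβ'
  rw [hρ, hl] at hv hv'
  have h2 := h _ hb hv _ hb' hv'
  have h3 := zb_comm hkz c
  calc β' * β * β'⁻¹ = k⁻¹ * (k * β' * k⁻¹ * (k * β * k⁻¹) * (k * β' * k⁻¹)⁻¹) * k := by group
    _ = k⁻¹ * (k * β * k⁻¹ * zb z c) * k := by rw [h2]
    _ = β * (k⁻¹ * (zb z c * k)) := by group
    _ = β * zb z c := by rw [← h3]; group

theorem commute_perp {d : G} {n : V} (hd : d ∈ Q) (h : ∀ a ∈ Q, bil (π a) e0 = 0 →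
    bil (π a) e1 = 0 → bil (π a) (π d + n) = 0) :
    π d + n = 0 ∨ π d + n = e0 ∨ π d + n = e1 ∨ π d + n = e0 + e1 :=
  span01 _ fun x hx0 hx1 => by
    obtain ⟨a, ha, rfl⟩ := T.X.S.pi_surj x
    exact h a ha hx0 hx1

theorem mu_self {n : V} (hn : q n = 1) (h0 : bil n e0 = 0) (h1 : bil n e1 = 0) :
    MU z Q π ρ s g s' g' n n 1 := by
  obtain ⟨c, hc⟩ := T.exists_mu h0 h1 h0 h1 (bil_self n)
  suffices c = 1 from this ▸ hc
  obtain ⟨b, hb, hv⟩ := T.X.exists_B (v := n) (by rw [T.se, h0])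
  obtain ⟨b', hb', hv'⟩ := T.X'.exists_B (v := n) (by rw [T.se', h1])
  have hbz := (T.X.B_comm hb).1
  have hbz' := (T.X'.B_comm hb').1
  have hbs' := T.B_comm' hb hv h1
  have hb's := T.B'_comm hb' hv' h0
  have hss : s * s' = s' * s := (mem_centralizer_one.1 T.s'_mem.2).symm
  have h10 : bil e1 e0 = 0 := perp_facts.2.2.2.2.2.2.2.2.2.2.1
  have e'' : π (s * s') = e0 + e1 := by rw [T.X.S.pi_mul _ T.X.sQ _ T.X'.sQ, T.se, T.se']
  have hne : e0 + e1 ≠ (0 : V) := by decide +kernel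
  obtain ⟨g'', X''⟩ := T.X.exists_at (x := s * s') (mul_mem T.X.sQ T.X'.sQ)
    (by calc s * s' * (s * s') = s * (s' * s) * s' := by group
          _ = (s * s) * (s' * s') := by rw [← hss]; group
          _ = 1 := by rw [T.X.ss, T.X'.ss, mul_one])
    (fun e => hne (by rw [← e'', e, T.X.S.pi_one])) (fun e => hne (by rw [← e'', e, T.X.S.pi_z]))
  have hn0 : bil (n + e0) (π (s * s')) = 0 := by
    rw [e'']; simp only [bil_add_left, bil_add_right, h0, h1, bil_self, bil_comm e0 e1, h10, add_zero]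
  obtain ⟨β, hβ, hvβ⟩ := X''.exists_B hn0
  have hzb : b * b' * z = z * (b * b') := T.X.S.comm_mul hbz hbz'
  have hsb : b * b' * (s * s') = s * s' * (b * b') :=
    (((show Commute b s from (T.X.B_comm hb).2).mul_left (show Commute b' s from hb's)).mul_right
      ((show Commute b s' from hbs').mul_left (show Commute b' s' from (T.X'.B_comm hb').2))).eq
  set a := b * b' * β⁻¹ with ha
  have haQ : a ∈ Q := (T.X.S.ker a (T.X.S.comm_mul hzb (T.X.S.comm_inv (X''.B_comm hβ).1))).1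
    fun x => by
      rw [T.X.S.rho_mul hzb (T.X.S.comm_inv (X''.B_comm hβ).1), T.X.S.rho_mul hbz hbz', hv.2,
        hv'.2, (X''.vec_inv hβ hvβ).2, T.se, T.se', e'', sg_two hn h0 h1, sg_sg
          (by rw [← e'']; exact X''.qe) (by rw [← e'', hn0]) (by rw [← e'', hn0]), add_self, sg_zero]
  have haA : a ∈ hA Q (s * s') := ⟨haQ, mem_centralizer_one.2
    ((show Commute (b * b') (s * s') from hsb).mul_left
      (show Commute β (s * s') from (X''.B_comm hβ).2).inv_left).eq⟩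
  have hab : b * b' = a * β := by rw [ha]; group
  have h2 := X''.sq_ab haA hβ hvβ
  have hq'' : q (n + e0) = 1 := by rw [q_add, hn, base_facts.1, h0, add_zero, add_zero]
  rw [← hab, hq''] at h2
  have h3 : b * b' * (b * b') = zb z c * zb (s * s') 1 := by
    calc b * b' * (b * b') = b * (b' * b * b'⁻¹) * (b' * b') := by group
      _ = b * b * zb z c * (b' * b') := by rw [hc b hb hv b' hb' hv']; group
      _ = zb s 1 * zb z c * zb s' 1 := by rw [T.X.B_sq hb hv, hn, T.X'.B_sq hb' hv', hn]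
      _ = _ := by rw [zb_one, zb_one, zb_one, zb_comm T.X.sz c, mul_assoc]
  obtain ⟨hc1, hc2⟩ := X''.zb_inj (h3.symm.trans h2)
  have hbeta : bil (π a) (n + e0) = 0 := left_eq_add.1 ((add_comm _ _).trans hc2.symm).symm
  rw [hbeta, add_zero] at hc1
  rw [hc1]
  have hperp : ∀ x ∈ Q, bil (π x) e0 = 0 → bil (π x) e1 = 0 → bil (π x) (π a + n) = 0 := by
    intro x hx x0 x1
    have hxA : x ∈ hA Q s := T.A_left.2 ⟨hx, x0⟩
    have hxA' : x ∈ hA Q s' := T.A_right.2 ⟨hx, x1⟩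
    have hxA'' : x ∈ hA Q (s * s') := X''.mem_A.2 ⟨hx, by rw [e'', bil_add_right, x0, x1, add_zero]⟩
    have l : b * b' * x * (b * b')⁻¹ =
        zb z 0 * zb (s * s') (bil (π x) n) * x := by
      calc b * b' * x * (b * b')⁻¹ = b * (b' * x * b'⁻¹) * b⁻¹ := by group
        _ = b * (zb z (bil (π x) n) * zb s' (bil (π x) n) * x) * b⁻¹ := by
            rw [T.X'.conj_rule hxA' hb' hv']
        _ = b * zb z (bil (π x) n) * b⁻¹ * (b * zb s' (bil (π x) n) * b⁻¹) * (b * x * b⁻¹) := by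
            group
        _ = zb z (bil (π x) n) * zb s' (bil (π x) n) * (zb z (bil (π x) n) * zb s (bil (π x) n) * x) := by
            rw [zb_comm hbz, zb_comm hbs', mul_inv_cancel_right, mul_inv_cancel_right,
              T.X.conj_rule hxA hb hv]
        _ = zb z 0 * zb (s * s') (bil (π x) n) * x := by
            rcases F_cases (bil (π x) n) with e | e <;> rw [e] <;>
              simp only [zb_zero, zb_one, one_mul, mul_one]
            calc z * s' * (z * s * x) = z * (s' * z) * s * x := by group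
              _ = (z * z) * (s' * s) * x := by rw [T.X'.sz]; group
              _ = s * s' * x := by rw [T.X.S.loc.sq, one_mul, hss]
    have hxn : bil (π x) (n + e0) = bil (π x) n := by rw [bil_add_right, x0, add_zero]
    have r : a * β * x * (a * β)⁻¹ =
        zb z (bil (π x) n + bil (π a) (π x)) * zb (s * s') (bil (π x) n) * x := by
      calc a * β * x * (a * β)⁻¹ = a * (β * x * β⁻¹) * a⁻¹ := by group
        _ = a * (zb z (bil (π x) n) * zb (s * s') (bil (π x) n) * x) * a⁻¹ := by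
            rw [X''.conj_rule hxA'' hβ hvβ, hxn]
        _ = a * zb z (bil (π x) n) * a⁻¹ * (a * zb (s * s') (bil (π x) n) * a⁻¹) * (a * x * a⁻¹) := by
            group
        _ = zb z (bil (π x) n) * zb (s * s') (bil (π x) n) * (x * zb z (bil (π a) (π x))) := by
            rw [zb_comm (T.X.S.Qz haQ), zb_comm (mem_centralizer_one.1 haA.2), mul_inv_cancel_right,
              mul_inv_cancel_right, T.X.S.conj_Q haQ hx]
        _ = zb z (bil (π x) n) * (zb (s * s') (bil (π x) n) * zb z (bil (π a) (π x))) * x := by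
            rw [zb_comm (T.X.S.Qz hx)]; group
        _ = _ := by
            rw [zb_comm (show zb (s * s') (bil (π x) n) * z = z * zb (s * s') (bil (π x) n) from
              T.X.S.Qz (by rcases F_cases (bil (π x) n) with e | e <;> rw [e]
                           · rw [zb_zero]; exact one_mem _
                           · rw [zb_one]; exact X''.sQ)), zb_add T.X.S.loc.sq]
            group
    rw [← hab] at r
    obtain ⟨e, -⟩ := X''.zb_inj (mul_right_cancel (l.symm.trans r))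
    rw [bil_add_right, bil_comm (π x) (π a), ← F_eq_of_add _ _ e.symm, F_add_self]
  have hq01 : q e0 = 0 ∧ q e1 = 0 ∧ q (e0 + e1) = 0 := by decide +kernel
  rw [show π a = π a + n + n from (add_cancel _ _).symm, q_add, hn]
  rcases T.commute_perp haQ hperp with e | e | e | e <;> rw [e]
  · rw [q_zero, bil_zero_left, zero_add, add_zero]
  · rw [hq01.1, bil_comm, h0, zero_add, add_zero]
  · rw [hq01.2.1, bil_comm, h1, zero_add, add_zero]
  · rw [hq01.2.2, bil_comm, bil_add_right, h0, h1, zero_add, add_zero, add_zero]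

theorem mu_e0 : MU z Q π ρ s g s' g' e0 e2 0 := by
  intro β hβ hvβ β' hβ' hvβ'
  have hE := T.X.mem_E_of_vec hβ hvβ (by rw [T.se]; exact Or.inr (zero_add _).symm)
  rw [zb_zero, mul_one, T.X.E_comm (T.X'.B_comm hβ').1
    (T.B'_comm hβ' hvβ' perp_facts.2.2.2.2.1) hE, mul_inv_cancel_right]

theorem mu_e1 : MU z Q π ρ s g s' g' e1 e2 0 := by
  obtain ⟨-, -, -, -, e20, e21, -, -, -, -, e10, -⟩ := perp_facts
  intro β hβ hvβ β' hβ' hvβ'
  have hβz := (T.X.B_comm hβ).1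
  have hβs' := T.B_comm' hβ hvβ (bil_self e1)
  obtain ⟨b, hb, hv⟩ := T.X'.exists_B (v := e0) (by rw [T.se', bil_comm, e10])
  have hbz := (T.X'.B_comm hb).1
  set a := β * b⁻¹ with ha
  have haQ : a ∈ Q := (T.X.S.ker a (T.X.S.comm_mul hβz (T.X.S.comm_inv hbz))).1 fun x => by
    rw [T.X.S.rho_mul hβz (T.X.S.comm_inv hbz), hvβ.2, (T.X'.vec_inv hb hv).2, T.se, T.se',
      sg_symm01, sg_sg (by decide +kernel) (by rw [bil_comm, e10]) (by rw [bil_comm, e10]), add_self,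
      sg_zero]
  have haA : a ∈ hA Q s' := ⟨haQ, mem_centralizer_one.2 ((show Commute β s' from hβs').mul_left
    (show Commute b s' from (T.X'.B_comm hb).2).inv_left).eq⟩
  have hperp : ∀ x ∈ Q, bil (π x) e0 = 0 → bil (π x) e1 = 0 → bil (π x) (π a + 0) = 0 := by
    intro x hx x0 x1
    have l := T.X.conj_rule (T.A_left.2 ⟨hx, x0⟩) hβ hvβ
    have r := T.X'.conj_rule (T.A_right.2 ⟨hx, x1⟩) hb hv
    rw [x1, zb_zero, zb_zero, one_mul, one_mul] at l
    rw [x0, zb_zero, zb_zero, one_mul, one_mul] at r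
    have h : a * x * a⁻¹ = x := by
      calc a * x * a⁻¹ = β * (b⁻¹ * x * b) * β⁻¹ := by rw [ha]; group
        _ = β * x * β⁻¹ := by
          conv_lhs => rw [← r]
          group
        _ = x := l
    rw [add_zero, bil_comm]
    exact (T.X.S.comm_iff haQ hx).1 (mul_inv_eq_iff_eq_mul.1 h)
  have ha2 : bil (π a) e2 = 0 := by
    have := T.commute_perp haQ hperp
    rw [add_zero] at this
    rcases this with e | e | e | e <;> rw [e]
    · exact bil_zero_left _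
    · rw [bil_comm, e20]
    · rw [bil_comm, e21]
    · rw [bil_add_left, bil_comm, e20, bil_comm, e21, add_zero]
  have c1 := T.X'.conj_rule haA hβ' hvβ'
  rw [ha2, zb_zero, zb_zero, one_mul, one_mul] at c1
  have c2 := T.X'.B_rule hb hβ' hv hvβ'
  rw [bil_comm, e20, zb_zero, mul_one] at c2
  rw [zb_zero, mul_one, show β = a * b by rw [ha]; group]
  calc β' * (a * b) * β'⁻¹ = β' * a * β'⁻¹ * (β' * b) * β'⁻¹ := by group
    _ = a * (b * β') * β'⁻¹ := by rw [c1, c2]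
    _ = a * b := by group

/-- The cocycle on the centraliser of three singular vectors. -/
theorem cocycle : ∃ m, (m = e3 ∨ m = f3) ∧ ∀ v, bil v e0 = 0 → bil v e1 = 0 → bil v e2 = 0 →
    MU z Q π ρ s g s' g' v e2 (bil v m) := by
  obtain ⟨-, -, n0, n1, e20, e21, f20, f21, ne2, nf2, e10, e30, e31, e32, f30, f31, f32⟩ := perp_facts
  obtain ⟨qn, qN, qa, qb, g0, g1, gn, ge, gf⟩ := cycle_facts
  have hg : IsOm fun x => tr (e2 + (e3 + f3)) (tr (e2 + f2) x) := isOm_tr_tr qb qa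
  set n := e3 + f3 with hn
  have nn := T.mu_self qn n0 n1
  -- `μ(n, e2) = 1`
  have hne : MU z Q π ρ s g s' g' n e2 1 := by
    obtain ⟨c, hc⟩ := T.exists_mu n0 n1 e20 e21 ne2
    obtain ⟨d, hd⟩ := T.exists_mu n0 n1 f20 f21 nf2
    have h1 := T.mu_add_right (by rw [bil_add_left, e21, f21, add_zero])
      (T.mu_add_right e21 hc hd) nn
    have h2 := T.mu_map hg g0 g1 hc
    rw [gn, ge] at h2
    have h3 := T.mu_map hg g0 g1 hd
    rw [gn, gf] at h3
    have i1 := T.mu_unique n0 (by rw [bil_add_left, bil_add_left, e21, f21, n1]; rfl) h2 h1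
    have i2 := T.mu_unique n0 e21 hc h3
    have : ∀ c d : F, c = c + d + 1 → c = d → c = 1 := by decide
    exact this c d i1 i2 ▸ hc
  have hen : MU z Q π ρ s g s' g' e2 n 1 := by
    obtain ⟨c, hc⟩ := T.exists_mu e20 e21 n0 n1 (by rw [bil_comm, ne2])
    obtain ⟨d, hd⟩ := T.exists_mu f20 f21 n0 n1 (by rw [bil_comm, nf2])
    have h1 := T.mu_add_left (by rw [bil_add_left, e20, f20, add_zero])
      (T.mu_add_left e20 hc hd) nn
    have h2 := T.mu_map hg g0 g1 hc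
    rw [gn, ge] at h2
    have h3 := T.mu_map hg g0 g1 hd
    rw [gn, gf] at h3
    have i1 := T.mu_unique (by rw [bil_add_left, bil_add_left, e20, f20, n0]; rfl) n1 h2 h1
    have i2 := T.mu_unique e20 n1 hc h3
    have : ∀ c d : F, c = c + d + 1 → c = d → c = 1 := by decide
    exact this c d i1 i2 ▸ hc
  have hee : MU z Q π ρ s g s' g' e2 e2 0 := by
    obtain ⟨c, hc⟩ := T.exists_mu e20 e21 e20 e21 (bil_self e2)
    have N0 : bil (n + e2) e0 = 0 := by rw [bil_add_left, n0, e20, add_zero]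
    have N1 : bil (n + e2) e1 = 0 := by rw [bil_add_left, n1, e21, add_zero]
    have h1 := T.mu_self qN N0 N1
    have h2 := T.mu_add_right n1 (T.mu_add_left n0 nn hen) (T.mu_add_left n0 hne hc)
    have i1 := T.mu_unique N0 N1 h1 h2
    have : ∀ c : F, 1 = 1 + 1 + (1 + c) → c = 0 := by decide
    exact this c i1 ▸ hc
  obtain ⟨c, hc⟩ := T.exists_mu e30 e31 e20 e21 e32
  obtain ⟨d, hd⟩ := T.exists_mu f30 f31 e20 e21 f32
  have hcd : c + d = 1 := T.mu_unique n0 e21 (T.mu_add_left e30 hc hd) hne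
  let m := if c = 1 then f3 else e3
  have hm : bil e3 m = c ∧ bil f3 m = d ∧ bil e0 m = 0 ∧ bil e1 m = 0 ∧ bil e2 m = 0 := by
    rcases F_cases c with rfl | rfl
    · rw [zero_add] at hcd
      subst hcd
      rw [show m = e3 from if_neg zero_ne_one]
      decide +kernel
    · have : d = 0 := left_eq_add.1 hcd.symm
      subst this
      rw [show m = f3 from if_pos rfl]
      decide +kernel
  refine ⟨m, ?_, fun v v0 v1 v2 => ?_⟩
  · rcases F_cases c with rfl | rfl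
    · exact Or.inl (if_neg zero_ne_one)
    · exact Or.inr (if_pos rfl)
  have sc : ∀ (t : F) {u : V} {k : F}, MU z Q π ρ s g s' g' u e2 k →
      MU z Q π ρ s g s' g' (sm t u) e2 (t * k) := by
    intro t u k hk
    rcases F_cases t with rfl | rfl
    · rw [sm_zero, zero_mul]
      intro β hβ hvβ β' hβ' hvβ'
      rw [zb_zero, mul_one, T.X.E_comm (T.X'.B_comm hβ').1 (T.B'_comm hβ' hvβ' e20)
        (T.X.mem_E_of_vec hβ hvβ (Eqv.refl _ _)), mul_inv_cancel_right]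
    · rw [sm_one, one_mul]; exact hk
  obtain ⟨a, b, k, x, x', rfl⟩ := split3 v v0 v1 v2
  have p : ∀ (t : F) (u : V), bil u e0 = 0 → bil (sm t u) e0 = 0 := fun t u hu => by
    rw [bil_sm_left, hu, mul_zero]
  have q0 := p a e0 (bil_self e0)
  have q1 : bil (sm a e0 + sm b e1) e0 = 0 := by rw [bil_add_left, q0, p b e1 e10, add_zero]
  have q2 : bil (sm a e0 + sm b e1 + sm k e2) e0 = 0 := by
    rw [bil_add_left, q1, p k e2 e20, add_zero]
  have q3 : bil (sm a e0 + sm b e1 + sm k e2 + sm x e3) e0 = 0 := by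
    rw [bil_add_left, q2, p x e3 e30, add_zero]
  have h := T.mu_add_left q3 (T.mu_add_left q2 (T.mu_add_left q1 (T.mu_add_left q0 (sc a T.mu_e0)
    (sc b T.mu_e1)) (sc k hee)) (sc x hc)) (sc x' hd)
  simp only [bil_add_left, bil_sm_left, hm.1, hm.2.1, hm.2.2.1, hm.2.2.2.1, hm.2.2.2.2]
  exact h

end Two

end Cfsg.Agent.CoT
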