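import Cfsg.Agent.Lib.CoT.Space
import Cfsg.Agent.Lib.Orthogonal.Counts
import Cfsg.Agent.Lib.Orthogonal.OmegaIndex
import Cfsg.Agent.Lib.Orthogonal.IndexTwo

/-!
The commutator subgroup of the isometry group, as a set of maps of the eight-dimensional space.
-/

set_option autoImplicit false
set_option linter.style.haveILetI false
set_option maxRecDepth 20000
set_option synthInstance.maxSize 4000
set_option synthInstance.maxHeartbeats 400000

open scoped Matrix

namespace Cfsg.Agent.CoT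

local notation "F" => ZMod 2

/-- The index type. -/
abbrev I8 := Fin 4 ⊕ Fin 4

/-- The form. -/
abbrev q8 : (I8 → F) → F := Cfsg.quadFormPlus 4 F

/-- The isometry group. -/
abbrev O8 := ↥(Cfsg.isometryGroup F q8)

/-- The coordinates. -/
def σ : V ≃+ (I8 → F) where
  toFun v := Sum.elim ![v.1.1, v.2.1.1, v.2.2.1.1, v.2.2.2.1] ![v.1.2, v.2.1.2, v.2.2.1.2, v.2.2.2.2]
  invFun w := ((w (.inl 0), w (.inr 0)),
    ((w (.inl 1), w (.inr 1)), ((w (.inl 2), w (.inr 2)), (w (.inl 3), w (.inr 3)))))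
  left_inv v := by simp
  right_inv w := by
    ext (i | i) <;> fin_cases i <;> simp
  map_add' u v := by
    ext (i | i) <;> fin_cases i <;> simp

theorem q_σ (v : V) : q8 (σ v) = q v := by
  show ∑ i : Fin 4, σ v (.inl i) * σ v (.inr i) = _
  simp [Fin.sum_univ_four, σ, q]

/-- The matrix of an isometry. -/
abbrev mat8 (g : O8) : Matrix I8 I8 F := ((g : GL I8 F) : Matrix I8 I8 F)

/-- The map of an isometry. -/
def app (g : O8) (v : V) : V := σ.symm (mat8 g *ᵥ σ v)

theorem app_mul (g h : O8) (v : V) : app (g * h) v = app g (app h v) := by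
  show σ.symm ((mat8 g * mat8 h) *ᵥ σ v) = σ.symm (mat8 g *ᵥ σ (σ.symm (mat8 h *ᵥ σ v)))
  rw [AddEquiv.apply_symm_apply, Matrix.mulVec_mulVec]

theorem app_one (v : V) : app 1 v = v := by
  show σ.symm ((1 : Matrix I8 I8 F) *ᵥ σ v) = v
  rw [Matrix.one_mulVec, AddEquiv.symm_apply_apply]

theorem app_inj {g h : O8} (e : app g = app h) : g = h := by
  refine Subtype.ext (Units.ext (Matrix.ext_of_mulVec_single fun i => ?_))
  have := congrFun e (σ.symm (Pi.single i 1))
  simp only [app, AddEquiv.apply_symm_apply] at this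
  exact σ.symm.injective this

theorem app_add (g : O8) (u v : V) : app g (u + v) = app g u + app g v := by
  simp [app, map_add, Matrix.mulVec_add]

theorem app_q (g : O8) (v : V) : q (app g v) = q v := by
  rw [← q_σ, ← q_σ v]
  show q8 (σ (σ.symm _)) = _
  rw [AddEquiv.apply_symm_apply]
  exact g.2 (σ v) (σ v)

/-- An involutive additive isometry as a group element. -/
theorem exists_app (f : V → V) (hadd : ∀ u v, f (u + v) = f u + f v) (hq : ∀ v, q (f v) = q v)
    (hinv : ∀ v, f (f v) = v) : ∃ g : O8, app g = f := by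
  let L : (I8 → F) →ₗ[F] (I8 → F) :=
    AddMonoidHom.toZModLinearMap 2 (AddMonoidHom.mk' (fun w => σ (f (σ.symm w))) fun u v => by
      rw [map_add, hadd, map_add])
  let M : Matrix I8 I8 F := LinearMap.toMatrix' L
  have hM : ∀ w, M *ᵥ w = σ (f (σ.symm w)) := fun w => by
    rw [LinearMap.toMatrix'_mulVec]; rfl
  have hMM : M * M = 1 := Matrix.ext_of_mulVec_single fun i => by
    rw [← Matrix.mulVec_mulVec, hM, hM, AddEquiv.symm_apply_apply, hinv, AddEquiv.apply_symm_apply,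
      Matrix.one_mulVec]
  refine ⟨⟨⟨M, M, hMM, hMM⟩, fun u _ => ?_⟩, funext fun v => ?_⟩
  · show q8 (M *ᵥ u) = q8 u
    rw [hM, q_σ, hq, ← q_σ, AddEquiv.apply_symm_apply]
  · show σ.symm (M *ᵥ σ v) = f v
    rw [hM, AddEquiv.symm_apply_apply, AddEquiv.symm_apply_apply]

/-- The commutator subgroup. -/
abbrev Om : Subgroup O8 := Cfsg.Omega F q8

theorem card_O8 : Nat.card O8 = 348364800 := by
  rw [Orth.card_isometryGroup (Orth.qPlus F 4) (Orth.coe_qPlus 4), Orth.card_oGroup_qPlus 3]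
  simp [Finset.prod_range_succ]

theorem card_Om : Nat.card Om = 174182400 := by
  have hi : Om.index = 2 := by
    show (Cfsg.Omega F (Cfsg.quadFormPlus 4 F)).index = 2
    rw [← Orth.coe_qPlus 4, Orth.omega_index _ (Orth.qPlus_nondeg 4) (by simp) (Or.inr (by simp)),
      Orth.card_spinVal.2 (by decide)]
  have h := Om.card_mul_index
  rw [hi, card_O8] at h
  omega

/-- Membership in the image of the commutator subgroup. -/
def IsOm (f : V → V) : Prop := ∃ g : O8, g ∈ Om ∧ app g = f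

theorem IsOm.comp {f f' : V → V} (h : IsOm f) (h' : IsOm f') : IsOm (fun x => f (f' x)) := by
  obtain ⟨g, hg, rfl⟩ := h
  obtain ⟨g', hg', rfl⟩ := h'
  exact ⟨g * g', mul_mem hg hg', funext fun x => app_mul g g' x⟩

theorem isOm_id : IsOm (fun x => x) := ⟨1, one_mem _, funext app_one⟩

theorem IsOm.congr {f f' : V → V} (h : IsOm f) (e : ∀ x, f x = f' x) : IsOm f' :=
  (funext e : f = f') ▸ h

theorem IsOm.add {f : V → V} (h : IsOm f) (u v : V) : f (u + v) = f u + f v := by
  obtain ⟨g, -, rfl⟩ := h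
  exact app_add g u v

theorem IsOm.q_eq {f : V → V} (h : IsOm f) (v : V) : q (f v) = q v := by
  obtain ⟨g, -, rfl⟩ := h
  exact app_q g v

theorem IsOm.zero {f : V → V} (h : IsOm f) : f 0 = 0 := by
  have := h.add 0 0
  rw [add_zero] at this
  exact left_eq_add.1 this

theorem IsOm.bil_eq {f : V → V} (h : IsOm f) (u v : V) : bil (f u) (f v) = bil u v := by
  have h7 := h.q_eq (u + v)
  rw [h.add, q_add, h.q_eq, h.q_eq, q_add] at h7
  exact add_left_cancel h7

theorem IsOm.inv {f : V → V} (h : IsOm f) :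
    ∃ f', IsOm f' ∧ (∀ x, f' (f x) = x) ∧ ∀ x, f (f' x) = x := by
  obtain ⟨g, hg, rfl⟩ := h
  exact ⟨app g⁻¹, ⟨g⁻¹, inv_mem hg, rfl⟩, fun x => by rw [← app_mul, inv_mul_cancel, app_one],
    fun x => by rw [← app_mul, mul_inv_cancel, app_one]⟩

theorem exists_tr {a : V} (ha : q a = 1) : ∃ g : O8, app g = tr a :=
  exists_app _ (tr_add a) (fun v => tr_q v ha) (fun v => tr_tr v)

theorem parity_aux {f : (I8 → F) → F} (hf : ⇑(Orth.qPlus F 4) = f) :
    ∃ χ : Cfsg.isometryGroup F f →* Multiplicative F,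
    (∀ g, g ∈ Cfsg.Omega F f ↔ χ g = 1) ∧ ∀ (g : Cfsg.isometryGroup F f) (v : I8 → F), f v = 1 →
      (∀ x, ((g : GL I8 F) : Matrix I8 I8 F) *ᵥ x = x - QuadraticMap.polar f x v • v) →
      χ g = Multiplicative.ofAdd 1 := by
  subst hf
  obtain ⟨χ, hker, -, hrefl⟩ := Orth.exists_matrix_spinor (Orth.qPlus F 4) (Orth.qPlus_nondeg 4)
    (by simp) (Or.inr (by simp))
  haveI : Subsingleton (Orth.SqCls F) := by
    rw [← Finite.card_le_one_iff_subsingleton]
    exact (Orth.card_sqCls_le.2.2 (by decide)).le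
  refine ⟨(MonoidHom.fst _ _).comp χ, fun g => ?_, fun g v hv hg => ?_⟩
  · rw [← hker, MonoidHom.mem_ker, Prod.ext_iff]
    exact ⟨fun h => h.1, fun h => ⟨h, Subsingleton.elim _ _⟩⟩
  · have hv0 : Orth.qPlus F 4 v ≠ 0 := by rw [hv]; exact one_ne_zero
    have hm : ((g : GL I8 F) : Matrix I8 I8 F) = Cfsg.reflectionMatrix (⇑(Orth.qPlus F 4)) v :=
      Matrix.ext_iff_mulVec.2 fun x => by
        rw [hg, Orth.reflectionMatrix_mulVec, hv, div_one]
    show (χ g).1 = _
    rw [hrefl g v hv0 hm]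
    rfl

/-- The parity invariant. -/
theorem exists_parity : ∃ χ : O8 →* Multiplicative F,
    (∀ g, g ∈ Om ↔ χ g = 1) ∧ ∀ g a, q a = 1 → app g = tr a → χ g = Multiplicative.ofAdd 1 := by
  obtain ⟨χ, hker, hχ⟩ := parity_aux (Orth.coe_qPlus 4)
  refine ⟨χ, hker, fun g a ha hg => hχ g (σ a) ((q_σ a).trans ha) fun x => ?_⟩
  obtain ⟨u, rfl⟩ := σ.surjective x
  have h := congrFun hg u
  have h2 : mat8 g *ᵥ σ u = σ (tr a u) := by
    rw [← h, app, AddEquiv.apply_symm_apply]
  have hp : QuadraticMap.polar q8 (σ u) (σ a) = bil u a := by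
    rw [QuadraticMap.polar, ← map_add, q_σ, q_σ, q_σ, q_add]; ring
  show mat8 g *ᵥ σ u = σ u - QuadraticMap.polar q8 (σ u) (σ a) • σ a
  rw [h2, hp, tr, map_add]
  rcases F_cases (bil u a) with e | e <;> rw [e]
  · rw [sm_zero, map_zero, zero_smul, sub_zero, add_zero]
  · rw [sm_one, one_smul]
    funext i
    show σ u i + σ a i = σ u i - σ a i
    generalize σ u i = c, σ a i = d
    revert c d
    decide

theorem isOm_tr_tr {a b : V} (ha : q a = 1) (hb : q b = 1) : IsOm (fun x => tr a (tr b x)) := by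
  obtain ⟨χ, hker, hχ⟩ := exists_parity
  obtain ⟨g, hg⟩ := exists_tr ha
  obtain ⟨g', hg'⟩ := exists_tr hb
  refine ⟨g * g', (hker _).2 ?_, funext fun x => by rw [app_mul, hg, hg']⟩
  rw [map_mul, hχ g a ha hg, hχ g' b hb hg']
  decide

/-- A single transvection is not in the image. -/
theorem not_isOm_tr {a : V} (ha : q a = 1) : ¬ IsOm (tr a) := by
  rintro ⟨g, hg, hga⟩
  obtain ⟨χ, hker, hχ⟩ := exists_parity
  have h := (hker g).1 hg
  rw [hχ g a ha hga] at h
  exact absurd h (by decide)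

/-- Ten vectors with value one. -/
def nsList : List V :=
  [((0, 0), ((0, 0), ((0, 0), (1, 1)))), ((0, 0), ((0, 0), ((1, 1), (0, 1)))),
   ((0, 0), ((0, 0), ((1, 1), (1, 0)))), ((0, 0), ((0, 1), ((0, 0), (1, 1)))),
   ((0, 0), ((0, 1), ((1, 1), (0, 1)))), ((0, 0), ((0, 1), ((1, 1), (1, 0)))),
   ((0, 0), ((1, 0), ((0, 0), (1, 1)))), ((0, 0), ((1, 0), ((1, 1), (0, 1)))),
   ((0, 0), ((1, 0), ((1, 1), (1, 0)))), ((0, 0), ((1, 1), ((0, 0), (0, 0))))]

theorem exists_ns_perp : ∀ e v : V, q e = 0 → q v = 0 → bil v e = 0 →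
    ∃ a ∈ nsList, q a = 1 ∧ bil a e = 0 ∧ bil a v = 0 := by
  decide +kernel

theorem isOm_sg {e v : V} (he : q e = 0) (hv : bil v e = 0) : IsOm (sg e v) := by
  have one : ∀ w, q w = 1 → bil w e = 0 → IsOm (sg e w) := fun w hw hwe => by
    have h1 : q (w + e) = 1 := by rw [q_add, hw, he, hwe, add_zero, add_zero]
    exact (isOm_tr_tr hw h1).congr fun x => (sg_eq_tr he hwe hw x).symm
  rcases F_cases (q v) with h | h
  · obtain ⟨a, -, ha, hae, hav⟩ := exists_ns_perp e v he h hv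
    have h1 : q (v + a) = 1 := by rw [q_add, h, ha, bil_comm, hav, zero_add, add_zero]
    have h2 : bil (v + a) e = 0 := by rw [bil_add_left, hv, hae, add_zero]
    refine ((one _ h1 h2).comp (one _ ha hae)).congr fun x => ?_
    rw [sg_sg he h2 hae, add_cancel]
  · exact one v h hv

end Cfsg.Agent.CoT
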