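import Cfsg.Agent.Lib.CoT.Image

/-!
Moving vectors by products of two transvections.
-/

set_option autoImplicit false
set_option maxRecDepth 20000
set_option synthInstance.maxSize 4000
set_option synthInstance.maxHeartbeats 400000

namespace Cfsg.Agent.CoT

local notation "F" => ZMod 2

/-- First vector of the standard anisotropic pair. -/
def a0 : V := e1 + f1

/-- Second vector of the standard anisotropic pair. -/
def v0 : V := f1 + e2 + f2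

theorem IsOm.sm {f : V → V} (h : IsOm f) (c : F) (v : V) : f (CoT.sm c v) = CoT.sm c (f v) := by
  rcases F_cases c with rfl | rfl
  · rw [sm_zero, sm_zero, h.zero]
  · rw [sm_one, sm_one]

theorem IsOm.inj {f : V → V} (h : IsOm f) {u v : V} (e : f u = f v) : u = v := by
  obtain ⟨f', -, hl, -⟩ := h.inv
  rw [← hl u, e, hl]

theorem IsOm.map_sg {f : V → V} (h : IsOm f) (e v x : V) :
    f (sg e v x) = sg (f e) (f v) (f x) := by
  simp only [sg, h.add, h.sm, h.bil_eq, h.q_eq]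

theorem IsOm.map_eqv {f : V → V} (h : IsOm f) {e u v : V} (he : Eqv e u v) :
    Eqv (f e) (f u) (f v) := by
  rcases he with rfl | rfl
  · exact Or.inl rfl
  · exact Or.inr (h.add _ _)

/-- Moving `x` to `y` through `w`. -/
theorem move {x y w : V} (h1 : q w = q x) (h2 : q w = q y) (h3 : bil x w = 1) (h4 : bil y w = 1) :
    ∃ f, IsOm f ∧ f x = y ∧ ∀ p, bil p x = bil p w → bil p y = bil p w → f p = p := by
  have ha : q (y + w) = 1 := by rw [q_add, h4, h2, F_add_self, zero_add]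
  have hb : q (x + w) = 1 := by rw [q_add, h3, h1, F_add_self, zero_add]
  refine ⟨_, isOm_tr_tr ha hb, ?_, fun p hp hp' => ?_⟩
  · have e1' : tr (x + w) x = w := by
      rw [tr_move (by rw [bil_add_right, bil_self, h3, zero_add]), ← add_assoc, add_self, zero_add]
    show tr (y + w) (tr (x + w) x) = y
    rw [e1', tr_move (by rw [bil_add_right, bil_self, bil_comm, h4, add_zero]), add_left_comm,
      add_self, add_zero]
  · show tr (y + w) (tr (x + w) p) = p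
    rw [tr_fix (x := p) (by rw [bil_add_right, hp, F_add_self]),
      tr_fix (x := p) (by rw [bil_add_right, hp', F_add_self])]

theorem via0 : ∀ x : V, q x = 0 → x ≠ 0 → ∃ w, q w = 0 ∧ bil x w = 1 ∧ bil e0 w = 1 := by
  decide +kernel

theorem via1 : ∀ x : V, q x = 0 → bil x e0 = 0 → x ≠ 0 → x ≠ e0 →
    ∃ w, q w = 0 ∧ bil e0 w = 0 ∧ bil x w = 1 ∧ bil e1 w = 1 := by
  decide +kernel

theorem via2 : ∀ x : V, q x = 0 → bil x e0 = 0 → bil x e1 = 0 →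
    x ≠ 0 → x ≠ e0 → x ≠ e1 → x ≠ e0 + e1 →
    ∃ w, q w = 0 ∧ bil e0 w = 0 ∧ bil e1 w = 0 ∧ bil x w = 1 ∧ bil e2 w = 1 := by
  decide +kernel

theorem viaA : ∀ x : V, q x = 1 → bil x e0 = 0 →
    ∃ w, q w = 1 ∧ bil e0 w = 0 ∧ bil x w = 1 ∧ bil a0 w = 1 := by
  decide +kernel

/-- An intermediate vector. -/
def m0 : V := f1 + e3 + f3

theorem viaB : ∀ x : V, q x = 1 → bil x e0 = 0 → bil a0 x = 1 →
    (∃ w, q w = 1 ∧ bil e0 w = 0 ∧ bil a0 w = 1 ∧ bil x w = 1 ∧ bil v0 w = 1) ∨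
      ∃ w, q w = 1 ∧ bil e0 w = 0 ∧ bil a0 w = 1 ∧ bil x w = 1 ∧ bil m0 w = 1 := by
  decide +kernel

theorem viaM : q m0 = 1 ∧ bil m0 e0 = 0 ∧ bil a0 m0 = 1 ∧
    ∃ w, q w = 1 ∧ bil e0 w = 0 ∧ bil a0 w = 1 ∧ bil m0 w = 1 ∧ bil v0 w = 1 := by
  decide +kernel

theorem base_facts : q e0 = 0 ∧ q f0 = 0 ∧ bil f0 e0 = 1 ∧ e0 ≠ 0 ∧ q e1 = 0 ∧ bil e1 e0 = 0 ∧
    q e2 = 0 ∧ bil e2 e0 = 0 ∧ bil e2 e1 = 0 ∧ q a0 = 1 ∧ bil a0 e0 = 0 ∧ q v0 = 1 ∧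
    bil v0 e0 = 0 ∧ bil a0 v0 = 1 := by
  decide +kernel

theorem move_e0 {x : V} (h : q x = 0) (h0 : x ≠ 0) : ∃ f, IsOm f ∧ f x = e0 := by
  obtain ⟨w, hw, h3, h4⟩ := via0 x h h0
  obtain ⟨f, hf, hx, -⟩ := move (hw.trans h.symm) (hw.trans base_facts.1.symm) h3 h4
  exact ⟨f, hf, hx⟩

theorem move_e1 {x : V} (h : q x = 0) (hx0 : bil x e0 = 0) (h0 : x ≠ 0) (h1 : x ≠ e0) :
    ∃ f, IsOm f ∧ f e0 = e0 ∧ f x = e1 := by
  obtain ⟨w, hw, h2, h3, h4⟩ := via1 x h hx0 h0 h1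
  obtain ⟨-, -, -, -, q1, b1, -⟩ := base_facts
  obtain ⟨f, hf, hx, hfix⟩ := move (hw.trans h.symm) (hw.trans q1.symm) h3 h4
  exact ⟨f, hf, hfix e0 (by rw [bil_comm, hx0, h2]) (by rw [bil_comm, b1, h2]), hx⟩

theorem move_e2 {x : V} (h : q x = 0) (hx0 : bil x e0 = 0) (hx1 : bil x e1 = 0) (h0 : x ≠ 0)
    (h1 : x ≠ e0) (h1' : x ≠ e1) (h1'' : x ≠ e0 + e1) :
    ∃ f, IsOm f ∧ f e0 = e0 ∧ f e1 = e1 ∧ f x = e2 := by
  obtain ⟨w, hw, h2, h2', h3, h4⟩ := via2 x h hx0 hx1 h0 h1 h1' h1''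
  obtain ⟨-, -, -, -, q1, b1, q2, b2, b21, -⟩ := base_facts
  obtain ⟨f, hf, hx, hfix⟩ := move (hw.trans h.symm) (hw.trans q2.symm) h3 h4
  exact ⟨f, hf, hfix e0 (by rw [bil_comm, hx0, h2]) (by rw [bil_comm, b2, h2]),
    hfix e1 (by rw [bil_comm, hx1, h2']) (by rw [bil_comm, b21, h2']), hx⟩

/-- An anisotropic pair moves to the standard one. -/
theorem move_apair {a v : V} (ha : q a = 1) (ha0 : bil a e0 = 0) (hv : q v = 1) (hv0 : bil v e0 = 0)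
    (hav : bil a v = 1) : ∃ f, IsOm f ∧ f e0 = e0 ∧ f a = a0 ∧ f v = v0 := by
  obtain ⟨-, -, -, -, -, -, -, -, -, qa, ba, qv, bv, bav⟩ := base_facts
  obtain ⟨w, hw, h2, h3, h4⟩ := viaA a ha ha0
  obtain ⟨f, hf, hx, hfix⟩ := move (hw.trans ha.symm) (hw.trans qa.symm) h3 h4
  have hf0 : f e0 = e0 := hfix e0 (by rw [bil_comm, ha0, h2]) (by rw [bil_comm, ba, h2])
  have hv1 : bil (f v) e0 = 0 := by
    conv_lhs => rw [← hf0]
    rw [hf.bil_eq, hv0]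
  have hav1 : bil a0 (f v) = 1 := by rw [← hx, hf.bil_eq, hav]
  have step : ∀ x y : V, q x = 1 → bil x e0 = 0 → bil a0 x = 1 → q y = 1 → bil y e0 = 0 →
      bil a0 y = 1 →
      (∃ w, q w = 1 ∧ bil e0 w = 0 ∧ bil a0 w = 1 ∧ bil x w = 1 ∧ bil y w = 1) →
      ∃ k, IsOm k ∧ k e0 = e0 ∧ k a0 = a0 ∧ k x = y := by
    rintro x y x1 x2 x3 y1 y2 y3 ⟨w', hw', g2, g5, g3, g4⟩
    obtain ⟨k, hk, hkx, hk'⟩ := move (hw'.trans x1.symm) (hw'.trans y1.symm) g3 g4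
    exact ⟨k, hk, hk' e0 (by rw [bil_comm, x2, g2]) (by rw [bil_comm, y2, g2]),
      hk' a0 (by rw [x3, g5]) (by rw [y3, g5]), hkx⟩
  have hx1 : q (f v) = 1 := by rw [hf.q_eq, hv]
  obtain ⟨m1, m2, m3, hm⟩ := viaM
  have total : ∃ k, IsOm k ∧ k e0 = e0 ∧ k a0 = a0 ∧ k (f v) = v0 := by
    rcases viaB (f v) hx1 hv1 hav1 with h | h
    · exact step _ _ hx1 hv1 hav1 qv bv bav h
    · obtain ⟨k, hk, k0, k1, k2⟩ := step _ _ hx1 hv1 hav1 m1 m2 m3 h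
      obtain ⟨k', hk', k0', k1', k2'⟩ := step _ _ m1 m2 m3 qv bv bav hm
      refine ⟨fun u => k' (k u), hk'.comp hk, ?_, ?_, ?_⟩
      · show k' (k e0) = e0; rw [k0, k0']
      · show k' (k a0) = a0; rw [k1, k1']
      · show k' (k (f v)) = v0; rw [k2, k2']
  obtain ⟨k, hk, k0, k1, k2⟩ := total
  refine ⟨fun u => k (f u), hk.comp hf, ?_, ?_, k2⟩
  · show k (f e0) = e0
    rw [hf0, k0]
  · show k (f a) = a0
    rw [hx, k1]

/-- A totally singular pair moves to the standard one. -/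
theorem move_tpair {a v : V} (ha : q a = 0) (ha0 : bil a e0 = 0) (hv : q v = 0) (hv0 : bil v e0 = 0)
    (hav : bil a v = 0) (h1 : a ≠ 0) (h2 : a ≠ e0) (h3 : v ≠ 0) (h4 : v ≠ e0) (h5 : v ≠ a)
    (h6 : v ≠ e0 + a) : ∃ f, IsOm f ∧ f e0 = e0 ∧ f a = e1 ∧ f v = e2 := by
  obtain ⟨f, hf, hf0, hfa⟩ := move_e1 ha ha0 h1 h2
  have hne : ∀ u, f v = f u → v = u := fun u => hf.inj
  obtain ⟨f', hf', g0, g1, g2⟩ := move_e2 (x := f v) (by rw [hf.q_eq, hv])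
    (by conv_lhs => rw [← hf0]
        rw [hf.bil_eq, hv0])
    (by rw [← hfa, hf.bil_eq, bil_comm, hav])
    (fun e => h3 (hne 0 (e.trans hf.zero.symm)))
    (fun e => h4 (hne e0 (e.trans hf0.symm)))
    (fun e => h5 (hne a (e.trans hfa.symm)))
    (fun e => h6 (hne (e0 + a) (by rw [e, hf.add, hf0, hfa])))
  refine ⟨fun u => f' (f u), hf'.comp hf, ?_, ?_, g2⟩
  · show f' (f e0) = e0
    rw [hf0, g0]
  · show f' (f a) = e1
    rw [hfa, g1]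

end Cfsg.Agent.CoT
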