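import Cfsg.Agent.Lib.CoT.Moves

/-!
Involutive isometries in the commutator subgroup.
-/

set_option autoImplicit false
set_option linter.style.haveILetI false
set_option maxRecDepth 20000
set_option synthInstance.maxSize 4000
set_option synthInstance.maxHeartbeats 400000

namespace Cfsg.Agent.CoT

local notation "F" => ZMod 2

/-- The difference map. -/
def dd (f : V → V) (x : V) : V := f x + x

/-- An involutive isometry. -/
structure Isom (f : V → V) : Prop where
  add : ∀ u v, f (u + v) = f u + f v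
  qq : ∀ v, q (f v) = q v
  inv : ∀ v, f (f v) = v

namespace Isom

variable {f : V → V} (h : Isom f)
include h

theorem zero : f 0 = 0 := by
  have := h.add 0 0
  rw [add_zero] at this
  exact left_eq_add.1 this

theorem bil_eq (u v : V) : bil (f u) (f v) = bil u v := by
  have h7 := h.qq (u + v)
  rw [h.add, q_add, h.qq, h.qq, q_add] at h7
  exact add_left_cancel h7

theorem sm (c : F) (v : V) : f (CoT.sm c v) = CoT.sm c (f v) := by
  rcases F_cases c with rfl | rfl
  · rw [sm_zero, sm_zero, h.zero]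
  · rw [sm_one, sm_one]

theorem dd_add (u v : V) : dd f (u + v) = dd f u + dd f v := by
  simp only [dd, h.add]; abel

theorem dd_sm (c : F) (v : V) : dd f (CoT.sm c v) = CoT.sm c (dd f v) := by
  rw [dd, h.sm, dd, sm_add_right]

theorem dd_bil (x y : V) : bil (dd f x) y = bil x (dd f y) := by
  have h1 : bil (f x) y = bil x (f y) := by
    conv_lhs => rw [← h.inv y, h.bil_eq]
  rw [dd, dd, bil_add_left, bil_add_right, h1]

theorem dd_dd (x : V) : dd f (dd f x) = 0 := by
  simp only [dd, h.add, h.inv]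
  rw [add_comm (f x) x]
  exact add_self _

theorem fix_dd (x : V) : f (dd f x) = dd f x := eq_of_add (h.dd_dd x)

theorem dd_q (x : V) : q (dd f x) = bil x (dd f x) := by
  rw [dd, q_add, h.qq, F_add_self, zero_add, bil_add_right, bil_self, add_zero, bil_comm]

theorem f_eq (x : V) : f x = x + dd f x := by
  rw [dd, add_comm (f x) x, ← add_assoc, add_self, zero_add]

/-- An involution with totally singular difference image is in the image. -/
theorem isOm_of_ts (hts : ∀ x, q (dd f x) = 0) : IsOm f := by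
  classical
  suffices key : ∀ n, ∀ f : V → V, Isom f → (∀ x, q (dd f x) = 0) →
      (Finset.univ.filter fun x => dd f x ≠ 0).card ≤ n → IsOm f from key _ f h hts le_rfl
  intro n
  induction n with
  | zero =>
    intro f hf _ hn
    refine isOm_id.congr fun x => ?_
    have hx : dd f x = 0 := by
      by_contra hx
      have : x ∈ Finset.univ.filter fun x => dd f x ≠ 0 := by simp [hx]
      rw [Finset.card_eq_zero.1 (Nat.le_zero.1 hn)] at this
      exact Finset.notMem_empty x this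
    rw [hf.f_eq, hx, add_zero]
  | succ n ih =>
    intro f hf hts hn
    by_cases hall : ∀ x, dd f x = 0
    · exact isOm_id.congr fun x => by rw [hf.f_eq, hall, add_zero]
    push Not at hall
    obtain ⟨y, hy⟩ := hall
    obtain ⟨y', hy'⟩ := exists_bil_one hy
    set u := dd f y with hu
    set u' := dd f y' with hu'
    have qu : q u = 0 := hts y
    have qu' : q u' = 0 := hts y'
    have huu : bil u' u = 0 := by rw [hu', hf.dd_bil, hu, hf.dd_dd, bil_zero_right]
    have hyu' : bil y u' = 1 := by rw [hu', ← hf.dd_bil, ← hu, hy']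
    have hyu : bil y u = 0 := by rw [hu, ← hf.dd_q, ← hu, qu]
    have hS := isOm_sg (v := u') qu huu
    have hS2 : ∀ x, sg u u' (sg u u' x) = x := fun x => by
      rw [sg_sg qu huu huu, add_self, sg_zero]
    have hcomm : ∀ x, f (sg u u' x) = sg u u' (f x) := fun x => by
      have fu : f u = u := hf.fix_dd y
      have fu' : f u' = u' := hf.fix_dd y'
      conv_rhs => rw [← fu, ← fu']
      simp only [sg, hf.add, hf.sm, hf.bil_eq, hf.qq]
    let f' : V → V := fun x => f (sg u u' x)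
    have hf' : Isom f' := ⟨fun a b => by show f _ = _; rw [hS.add, hf.add],
      fun a => by show q (f _) = _; rw [hf.qq, hS.q_eq],
      fun a => by show f (sg u u' (f (sg u u' a))) = a; rw [← hcomm, hS2, hf.inv]⟩
    have hdd : ∀ x, dd f' x = dd f (x + CoT.sm (bil x u') y + CoT.sm (bil x u) y') := by
      intro x
      rw [hf.dd_add, hf.dd_add, hf.dd_sm, hf.dd_sm, ← hu, ← hu']
      show f (sg u u' x) + x = _
      rw [sg, qu', sm_zero, add_zero, hf.add, hf.add, hf.sm, hf.sm, hu, hu', hf.fix_dd, hf.fix_dd]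
      show _ = (f x + x) + _ + _
      abel
    have hts' : ∀ x, q (dd f' x) = 0 := fun x => by rw [hdd]; exact hts _
    have hlt : (Finset.univ.filter fun x => dd f' x ≠ 0).card <
        (Finset.univ.filter fun x => dd f x ≠ 0).card := by
      refine Finset.card_lt_card ((Finset.ssubset_iff_of_subset fun x hx => ?_).2 ⟨y, ?_, ?_⟩)
      · simp only [Finset.mem_filter, Finset.mem_univ, true_and] at hx ⊢
        intro h0
        refine hx ?_
        have k1 : bil x u' = 0 := by rw [hu', ← hf.dd_bil, h0, bil_zero_left]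
        have k2 : bil x u = 0 := by rw [hu, ← hf.dd_bil, h0, bil_zero_left]
        rw [hdd, k1, k2, sm_zero, sm_zero, add_zero, add_zero, h0]
      · simpa using hy
      · simp only [Finset.mem_filter, Finset.mem_univ, true_and, not_not]
        rw [hdd, hyu', hyu, sm_zero, sm_one, add_zero, add_self]
        exact eq_of_add (by rw [add_zero, dd, hf.zero, add_zero])
    exact ((ih f' hf' hts' (by omega)).comp hS).congr fun x => by
      show f (sg u u' (sg u u' x)) = f x
      rw [hS2]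

end Isom

theorem isom_of {f : V → V} (hf : IsOm f) (h2 : ∀ x, f (f x) = x) : Isom f :=
  ⟨hf.add, hf.q_eq, h2⟩

theorem perp_line {e u : V} (he : e ≠ 0) (h : ∀ x, bil x e = 0 → bil x u = 0) : u = 0 ∨ u = e := by
  obtain ⟨y, hy⟩ := exists_bil_one he
  have hy' : bil y e = 1 := by rw [bil_comm, hy]
  have key : ∀ x, bil x u = bil x e * bil y u := fun x => by
    rcases F_cases (bil x e) with a | a
    · rw [a, zero_mul, h x a]
    · have h1 := h (x + y) (by rw [bil_add_left, a, hy']; rfl)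
      rw [bil_add_left] at h1
      rw [a, one_mul, F_eq_of_add _ _ h1]
  rcases F_cases (bil y u) with c | c
  · exact Or.inl (eq_of_perp_eq fun x => by rw [key, c, mul_zero, bil_zero_right])
  · exact Or.inr (eq_of_perp_eq fun x => by rw [key, c, mul_one])

/-- The normal form of an involution not in a radical. -/
def NF (f : V → V) : Prop :=
  f e0 = e0 ∧ (∀ x, bil x e0 = 0 → Eqv e0 (f x) (x + sm (bil x e2) e1 + sm (bil x e1) e2)) ∧
    ∃ d, f d + d = e0 ∧ bil d e0 = 0 ∧ bil d e1 = 0 ∧ bil d e2 = 0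

theorem span_cases : ∀ w : V, q w = 0 → bil w e0 = 0 → bil w e1 = 0 → bil w e2 = 0 →
    (∃ a b c : F, w = sm a e0 + sm b e1 + sm c e2) ∨
      ∀ u : V, bil u e0 = 0 → bil u e1 = 0 → bil u e2 = 0 → bil u w = 0 →
        ∃ a b c g : F, u = sm a e0 + sm b e1 + sm c e2 + sm g w := by
  decide +kernel

theorem exists_e {f : V → V} (hf : IsOm f) (h : Isom f) (hne : ∃ x, f x ≠ x) :
    ∃ d, dd f d ≠ 0 ∧ q (dd f d) = 0 ∧ ∀ x, bil x (dd f d) = 0 → q (dd f x) = 0 := by
  by_cases hts : ∀ x, q (dd f x) = 0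
  · obtain ⟨x, hx⟩ := hne
    exact ⟨x, fun e => hx (eq_of_add e), hts x, fun y _ => hts y⟩
  push Not at hts
  obtain ⟨x₁, hx₁⟩ := hts
  let T : V →ₗ[F] V := AddMonoidHom.toZModLinearMap 2 (AddMonoidHom.mk' (dd f) h.dd_add)
  let L : T.range →ₗ[F] F := AddMonoidHom.toZModLinearMap 2
    (AddMonoidHom.mk' (fun u : T.range => q (u : V)) fun u v => by
      obtain ⟨a, ha⟩ := u.2
      obtain ⟨b, hb⟩ := v.2
      have hz : bil (u : V) (v : V) = 0 := by
        rw [← ha, ← hb]
        show bil (dd f a) (dd f b) = 0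
        rw [h.dd_bil, h.dd_dd, bil_zero_right]
      show q ((u : V) + v) = _
      rw [q_add, hz, add_zero])
  obtain ⟨g, hg⟩ := L.exists_extend
  set d := repr fun v => g v with hd
  have hspec : ∀ x, q (dd f x) = bil x (dd f d) := fun x => by
    rw [← h.dd_bil, hd, ← repr_spec (fun v => g v) (fun u v => map_add g u v)]
    exact (LinearMap.congr_fun hg ⟨dd f x, x, rfl⟩).symm
  have hne0 : dd f d ≠ 0 := fun e => hx₁ (by rw [hspec, e, bil_zero_right])
  refine ⟨d, hne0, (F_cases _).resolve_right fun hq => ?_, fun x hx => by rw [hspec, hx]⟩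
  set e := dd f d with hedef
  have fe : f e = e := h.fix_dd d
  have hce : ∀ x, bil (dd f x) e = 0 := fun x => by rw [h.dd_bil, hedef, h.dd_dd, bil_zero_right]
  have hfb : ∀ x, bil (f x) e = bil x e := fun x => by
    conv_lhs => rw [← fe]
    exact h.bil_eq x e
  have hcomm : ∀ x, f (tr e x) = tr e (f x) := fun x => by
    rw [tr, tr, h.add, h.sm, fe, hfb]
  let f' : V → V := fun x => tr e (f x)
  have hf' : Isom f' := ⟨fun a b => by show tr e _ = _; rw [h.add, tr_add],
    fun a => by show q (tr e _) = _; rw [tr_q _ hq, h.qq],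
    fun a => by show tr e (f (tr e (f a))) = a; rw [hcomm, tr_tr, h.inv]⟩
  have hts' : ∀ x, q (dd f' x) = 0 := fun x => by
    have e1' : dd f' x = dd f x + sm (bil x e) e := by
      show tr e (f x) + x = _
      rw [tr, hfb, dd]; abel
    rw [e1', q_add, hspec x, q_sm, hq, bil_sm_right, hce, mul_one, mul_zero, add_zero,
      F_add_self]
  refine not_isOm_tr hq (((hf'.isOm_of_ts hts').comp hf).congr fun x => ?_)
  show tr e (f (f x)) = tr e x
  rw [h.inv]

/-- Involutions of the image. -/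
theorem invol_cases {f : V → V} (hf : IsOm f) (h2 : ∀ x, f (f x) = x) :
    (∀ x, f x = x) ∨ (∃ e, InRad f e) ∨ ∃ k k', IsOm k ∧ IsOm k' ∧ (∀ x, k' (k x) = x) ∧
      (∀ x, k (k' x) = x) ∧ NF (fun x => k (f (k' x))) := by
  have h := isom_of hf h2
  by_cases hne : ∀ x, f x = x
  · exact Or.inl hne
  by_cases hrad : ∃ e, InRad f e
  · exact Or.inr (Or.inl hrad)
  right; right
  push Not at hne
  obtain ⟨d, he, hqe, hts⟩ := exists_e hf h hne
  set e := dd f d with hedef
  have hde : bil d e = 0 := by rw [hedef, ← h.dd_q, ← hedef, hqe]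
  have fix : f e = e := h.fix_dd d
  obtain ⟨y1, hy1, n0, n1⟩ : ∃ y, bil y e = 0 ∧ dd f y ≠ 0 ∧ dd f y ≠ e := by
    by_contra hc
    refine hrad ⟨e, hqe, he, fix, fun x hx => Eqv.iff_add.2 ?_⟩
    by_contra hn
    push Not at hn
    exact hc ⟨x, hx, hn.1, hn.2⟩
  set u1 := dd f y1 with hu1
  have hqu1 : q u1 = 0 := hts y1 hy1
  obtain ⟨y2, hy2, m0', m1, m2, m3⟩ : ∃ y, bil y e = 0 ∧ dd f y ≠ 0 ∧ dd f y ≠ e ∧ dd f y ≠ u1 ∧
      dd f y ≠ e + u1 := by
    by_contra hc
    have hall : ∀ x, bil x e = 0 → bil x u1 = 0 := fun x hx => by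
      have k1 : bil e y1 = 0 := by rw [bil_comm, hy1]
      have k2 : bil u1 y1 = 0 := by rw [bil_comm, hu1, ← h.dd_q, ← hu1, hqu1]
      rw [hu1, ← h.dd_bil]
      by_contra hb
      refine hc ⟨x, hx, fun a => hb ?_, fun a => hb ?_, fun a => hb ?_, fun a => hb ?_⟩ <;> rw [a]
      · exact bil_zero_left _
      · exact k1
      · exact k2
      · rw [bil_add_left, k1, k2, add_zero]
    exact (perp_line he hall).elim n0 n1
  set u2 := dd f y2 with hu2
  have hqu2 : q u2 = 0 := hts y2 hy2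
  have iso0 : ∀ a b, bil (dd f a) (dd f b) = 0 := fun a b => by
    rw [h.dd_bil, h.dd_dd, bil_zero_right]
  obtain ⟨k0, hk0, hk0e⟩ := move_e0 hqe he
  obtain ⟨k1, hk1, hk1e, hk1a, hk1v⟩ := move_tpair (a := k0 u1) (v := k0 u2)
    (by rw [hk0.q_eq, hqu1]) (by rw [← hk0e, hk0.bil_eq, hedef, hu1, iso0])
    (by rw [hk0.q_eq, hqu2]) (by rw [← hk0e, hk0.bil_eq, hedef, hu2, iso0])
    (by rw [hk0.bil_eq, hu1, hu2, iso0])
    (fun a => n0 (hk0.inj (a.trans hk0.zero.symm)))
    (fun a => n1 (hk0.inj (a.trans hk0e.symm)))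
    (fun a => m0' (hk0.inj (a.trans hk0.zero.symm)))
    (fun a => m1 (hk0.inj (a.trans hk0e.symm)))
    (fun a => m2 (hk0.inj a))
    (fun a => m3 (hk0.inj (by rw [a, hk0.add, hk0e])))
  let k := fun x => k1 (k0 x)
  have hk : IsOm k := hk1.comp hk0
  have ke : k e = e0 := by show k1 (k0 e) = e0; rw [hk0e, hk1e]
  obtain ⟨k', hk', hl, hr⟩ := hk.inv
  let f' := fun x => k (f (k' x))
  have hf' : Isom f' := isom_of (hk.comp (hf.comp hk')) fun x => by
    show k (f (k' (k (f (k' x))))) = x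
    rw [hl, h2, hr]
  have hD : ∀ x, dd f' x = k (dd f (k' x)) := fun x => by
    show k (f (k' x)) + x = k (f (k' x) + k' x)
    rw [hk.add, hr]
  have hDk : ∀ x, dd f' (k x) = k (dd f x) := fun x => by rw [hD, hl]
  have hd' : dd f' (k d) = e0 := by rw [hDk, ← hedef, ke]
  have hts' : ∀ x, bil x e0 = 0 → q (dd f' x) = 0 := fun x hx => by
    rw [hD, hk.q_eq]
    refine hts _ ?_
    rw [← hx, ← ke]
    conv_rhs => rw [← hr x, hk.bil_eq]
  have hy1' : dd f' (k y1) = e1 := by rw [hDk, ← hu1]; exact hk1a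
  have hy2' : dd f' (k y2) = e2 := by rw [hDk, ← hu2]; exact hk1v
  have p1 : bil (k y1) e0 = 0 := by rw [← ke, hk.bil_eq, hy1]
  have p2 : bil (k y2) e0 = 0 := by rw [← ke, hk.bil_eq, hy2]
  have pd0 : bil (k d) e0 = 0 := by rw [← ke, hk.bil_eq, hde]
  have pd : ∀ y, bil y e0 = 0 → bil (k d) (dd f' y) = 0 := fun y hy => by
    rw [← hf'.dd_bil, hd', bil_comm, hy]
  have pd1 : bil (k d) e1 = 0 := by rw [← hy1']; exact pd _ p1
  have pd2 : bil (k d) e2 = 0 := by rw [← hy2']; exact pd _ p2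
  obtain ⟨-, -, bf0, -, qe1, -, qe2, -⟩ := base_facts
  have span : ∀ x, bil x e0 = 0 → ∃ a b c : F, dd f' x = sm a e0 + sm b e1 + sm c e2 := by
    intro x hx
    have iso : ∀ a b, bil (dd f' a) (dd f' b) = 0 := fun a b => by
      rw [hf'.dd_bil, hf'.dd_dd, bil_zero_right]
    refine (span_cases _ (hts' x hx) (by rw [← hd', iso]) (by rw [← hy1', iso])
      (by rw [← hy2', iso])).resolve_right fun hbad => ?_
    obtain ⟨a, b, c, g, hu⟩ := hbad (dd f' f0) (by rw [← hd', iso]) (by rw [← hy1', iso])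
      (by rw [← hy2', iso]) (iso _ _)
    have h1 : bil (dd f' f0) (k d) = 1 := by rw [hf'.dd_bil, hd', bf0]
    rw [hu, bil_add_left, bil_add_left, bil_add_left, bil_sm_left, bil_sm_left, bil_sm_left,
      bil_sm_left, bil_comm e0, pd0, bil_comm e1, pd1, bil_comm e2, pd2,
      bil_comm (dd f' x), pd x hx] at h1
    simp at h1
  have q1 : bil e1 (k y1) = 0 := by
    conv_lhs => rw [← hy1']
    rw [bil_comm, ← hf'.dd_q, hy1', qe1]
  have q2 : bil e2 (k y2) = 0 := by
    conv_lhs => rw [← hy2']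
    rw [bil_comm, ← hf'.dd_q, hy2', qe2]
  have q12 : bil e1 (k y2) = bil e2 (k y1) := by
    rw [← hy1', ← hy2', hf'.dd_bil, bil_comm]
  have coef : ∀ x, bil x e0 = 0 → ∃ a : F, dd f' x = sm a e0 + sm (bil x e2 * bil e2 (k y1)) e1 +
      sm (bil x e1 * bil e2 (k y1)) e2 ∧ bil x e1 = bil x e1 * bil e2 (k y1) := by
    intro x hx
    obtain ⟨a, b, c, hu⟩ := span x hx
    have c1 : bil x e1 = c * bil e2 (k y1) := by
      conv_lhs => rw [← hy1', ← hf'.dd_bil, hu]
      rw [bil_add_left, bil_add_left, bil_sm_left, bil_sm_left, bil_sm_left, bil_comm e0, p1, q1]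
      ring
    have c2 : bil x e2 = b * bil e2 (k y1) := by
      conv_lhs => rw [← hy2', ← hf'.dd_bil, hu]
      rw [bil_add_left, bil_add_left, bil_sm_left, bil_sm_left, bil_sm_left, bil_comm e0, p2, q2,
        q12]
      ring
    rcases F_cases (bil e2 (k y1)) with κ | κ
    · exfalso
      have hf1 : bil f1 e0 = 0 ∧ bil f1 e1 = 1 := by decide +kernel
      obtain ⟨a', b', c', hu'⟩ := span f1 hf1.1
      have : bil f1 e1 = 0 := by
        conv_lhs => rw [← hy1', ← hf'.dd_bil, hu']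
        rw [bil_add_left, bil_add_left, bil_sm_left, bil_sm_left, bil_sm_left, bil_comm e0, p1, q1,
          κ]
        ring
      rw [hf1.2] at this
      exact one_ne_zero this
    · rw [κ, mul_one] at c1 c2
      exact ⟨a, by rw [κ, mul_one, mul_one, c1, c2]; exact hu, by rw [κ, mul_one]⟩
  refine ⟨k, k', hk, hk', hl, hr, ?_, fun x hx => ?_, k d, hd', pd0, pd1, pd2⟩
  · rw [← hd']; exact hf'.fix_dd _
  · obtain ⟨a, hu, -⟩ := coef x hx
    have κ : bil e2 (k y1) = 1 := by
      have hf1 : bil f1 e0 = 0 ∧ bil f1 e1 = 1 := by decide +kernel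
      obtain ⟨_, -, hh⟩ := coef f1 hf1.1
      rw [hf1.2, one_mul] at hh
      exact hh.symm
    rw [κ, mul_one, mul_one] at hu
    show Eqv e0 (f' x) _
    rw [hf'.f_eq x, hu, Eqv.iff_add]
    have hz : x + (sm a e0 + sm (bil x e2) e1 + sm (bil x e1) e2) +
        (x + sm (bil x e2) e1 + sm (bil x e1) e2) = sm a e0 := by
      calc _ = (x + x) + (sm (bil x e2) e1 + sm (bil x e2) e1) +
            (sm (bil x e1) e2 + sm (bil x e1) e2) + sm a e0 := by abel
        _ = _ := by simp only [add_self, zero_add]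
    rw [hz]
    rcases F_cases a with rfl | rfl
    · exact Or.inl (sm_zero _)
    · exact Or.inr (sm_one _)

theorem nf_fix : ∀ c c' : F, (sm c e1 + sm c' e2 = 0 ∨ sm c e1 + sm c' e2 = e0) → c = 0 ∧ c' = 0 := by
  decide +kernel

theorem card_perp3 : Fintype.card {x : V // bil x e0 = 0 ∧ bil x e1 = 0 ∧ bil x e2 = 0} = 32 := by
  decide +kernel

theorem perp3_dual : ∀ u : V, bil e0 u = 0 → bil e1 u = 0 → bil e2 u = 0 → bil e3 u = 0 →
    bil f3 u = 0 → ∃ a b c : F, u = sm a e0 + sm b e1 + sm c e2 := by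
  decide +kernel

/-- An involution fixing thirty-two vectors lies in a radical. -/
theorem inRad_of_fix {f : V → V} (hf : IsOm f) (h2 : ∀ x, f (f x) = x) {ι : Type} [Fintype ι]
    (hι : Fintype.card ι = 32) (m : ι → V) (hm : Function.Injective m) (hfix : ∀ i, f (m i) = m i) :
    (∀ x, f x = x) ∨ ∃ e, InRad f e := by
  rcases invol_cases hf h2 with h | h | ⟨k, k', hk, hk', hl, hr, he0, hnf, d, hd, pd0, pd1, pd2⟩
  · exact Or.inl h
  · exact Or.inr h
  exfalso
  let f' := fun x => k (f (k' x))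
  have hf' : Isom f' := isom_of (hk.comp (hf.comp hk')) fun x => by
    show k (f (k' (k (f (k' x))))) = x
    rw [hl, h2, hr]
  have hd' : dd f' d = e0 := hd
  have hmem : ∀ i, bil (k (m i)) e0 = 0 ∧ bil (k (m i)) e1 = 0 ∧ bil (k (m i)) e2 = 0 := fun i => by
    have hz : dd f' (k (m i)) = 0 := by
      show k (f (k' (k (m i)))) + k (m i) = 0
      rw [hl, hfix]; exact add_self _
    have h0 : bil (k (m i)) e0 = 0 := by rw [← hd', ← hf'.dd_bil, hz, bil_zero_left]
    have h1 : Eqv e0 (f' (k (m i)))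
        (k (m i) + sm (bil (k (m i)) e2) e1 + sm (bil (k (m i)) e1) e2) := hnf _ h0
    rw [show f' (k (m i)) = k (m i) from eq_of_add hz, Eqv.iff_add,
      show k (m i) + (k (m i) + sm (bil (k (m i)) e2) e1 + sm (bil (k (m i)) e1) e2) =
        (k (m i) + k (m i)) + (sm (bil (k (m i)) e2) e1 + sm (bil (k (m i)) e1) e2) by abel,
      add_self, zero_add] at h1
    exact ⟨h0, (nf_fix _ _ h1).2, (nf_fix _ _ h1).1⟩
  let m' : ι → {x : V // bil x e0 = 0 ∧ bil x e1 = 0 ∧ bil x e2 = 0} := fun i => ⟨k (m i), hmem i⟩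
  have hbij : Function.Bijective m' := (Fintype.bijective_iff_injective_and_card m').2
    ⟨fun i j e => hm (hk.inj (congrArg Subtype.val e)), by rw [hι, card_perp3]⟩
  have hZ : ∀ x, bil x e0 = 0 → bil x e1 = 0 → bil x e2 = 0 → dd f' x = 0 := fun x a b c => by
    obtain ⟨i, hi⟩ := hbij.2 ⟨x, a, b, c⟩
    have : k (m i) = x := congrArg Subtype.val hi
    subst this
    show k (f (k' (k (m i)))) + k (m i) = 0
    rw [hl, hfix]; exact add_self _
  have hv : (bil e0 e0 = 0 ∧ bil e0 e1 = 0 ∧ bil e0 e2 = 0) ∧ (bil e1 e0 = 0 ∧ bil e1 e1 = 0 ∧ bil e1 e2 = 0) ∧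
      (bil e2 e0 = 0 ∧ bil e2 e1 = 0 ∧ bil e2 e2 = 0) ∧ (bil e3 e0 = 0 ∧ bil e3 e1 = 0 ∧ bil e3 e2 = 0) ∧
      (bil f3 e0 = 0 ∧ bil f3 e1 = 0 ∧ bil f3 e2 = 0) ∧ bil f0 e0 = 1 := by decide +kernel
  obtain ⟨z0, z1, z2, z3, z4, hf0⟩ := hv
  have hp : ∀ z, bil z e0 = 0 ∧ bil z e1 = 0 ∧ bil z e2 = 0 → bil z (dd f' f0) = 0 := fun z hz => by
    rw [← hf'.dd_bil, hZ z hz.1 hz.2.1 hz.2.2, bil_zero_left]
  obtain ⟨a, b, c, hu⟩ := perp3_dual _ (hp _ z0) (hp _ z1) (hp _ z2) (hp _ z3) (hp _ z4)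
  have h1 : bil (dd f' f0) d = 1 := by rw [hf'.dd_bil, hd', hf0]
  rw [hu, bil_add_left, bil_add_left, bil_sm_left, bil_sm_left, bil_sm_left, bil_comm e0, pd0,
    bil_comm e1, pd1, bil_comm e2, pd2] at h1
  simp at h1

/-- An element of a radical is a Siegel transformation. -/
theorem Isom.eq_sg {f : V → V} (h : Isom f) {e : V} (hr : InRad f e) :
    ∃ v, bil v e = 0 ∧ (∀ x, f x = sg e v x) ∧ ∀ y, bil y e = 1 → Eqv e (f y + y) v := by
  obtain ⟨hqe, hne, hfe, hperp⟩ := hr
  obtain ⟨y, hy⟩ := exists_bil_one hne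
  have hy' : bil y e = 1 := by rw [bil_comm, hy]
  set v := dd f y with hv
  have hve : bil v e = 0 := by
    rw [hv, h.dd_bil, show dd f e = 0 by rw [dd, hfe, add_self], bil_zero_right]
  have key : ∀ x, bil x e = 0 → f x = sg e v x := fun x hx => by
    have hc : dd f x = 0 ∨ dd f x = e := Eqv.iff_add.1 (hperp x hx)
    have hb : bil x v = bil (dd f x) y := by rw [hv, h.dd_bil]
    rw [sg_perp hx, h.f_eq x, hb]
    rcases hc with c | c <;> rw [c]
    · rw [bil_zero_left, sm_zero]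
    · rw [hy, sm_one]
  have hyv : sg e v y = f y := by
    rw [sg, hy', sm_one, h.f_eq y, ← hv, show bil y v = q v by rw [hv, ← h.dd_q]]
    calc y + CoT.sm (q v) e + (v + CoT.sm (q v) e) = y + v + (CoT.sm (q v) e + CoT.sm (q v) e) := by abel
      _ = y + v := by rw [add_self, add_zero]
  have hall : ∀ x, f x = sg e v x := fun x => by
    rcases F_cases (bil x e) with c | c
    · exact key x c
    · have hx : x = x + y + y := (add_cancel x y).symm
      rw [hx, h.add, sg_add, key (x + y) (by rw [bil_add_left, c, hy']; rfl), hyv]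
  refine ⟨v, hve, hall, fun z hz => ?_⟩
  have h1 : dd f (z + y) = 0 ∨ dd f (z + y) = e :=
    Eqv.iff_add.1 (hperp _ (by rw [bil_add_left, hz, hy']; rfl))
  rw [h.dd_add] at h1
  exact Eqv.iff_add.2 h1

end Cfsg.Agent.CoT
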