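import Cfsg.Agent.Lib.CoT.Parity
import Cfsg.Agent.Lib.LargeExtra.Radical

/-!
The setting of a group of Conway type, with coordinates.
-/

set_option autoImplicit false
set_option linter.style.haveILetI false
set_option linter.unusedSectionVars false
set_option maxRecDepth 20000
set_option synthInstance.maxSize 4000
set_option synthInstance.maxHeartbeats 400000

namespace Cfsg.Agent.CoT

open Subgroup LargeExtra

local notation "F" => ZMod 2

variable {G : Type*} [Group G]

/-- A power of an involution with exponent modulo two. -/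
def zb (z : G) (c : F) : G := if c = 0 then 1 else z

theorem zb_zero (z : G) : zb z 0 = 1 := if_pos rfl

theorem zb_one (z : G) : zb z 1 = z := if_neg (by decide)

theorem zb_add {z : G} (hz : z * z = 1) (c d : F) : zb z (c + d) = zb z c * zb z d := by
  have h11 : (1 : F) + 1 = 0 := by decide
  rcases F_cases c with rfl | rfl <;> rcases F_cases d with rfl | rfl <;>
    simp [zb_zero, zb_one, h11, hz]

theorem zb_comm {z x : G} (h : x * z = z * x) (c : F) : x * zb z c = zb z c * x := by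
  rcases F_cases c with rfl | rfl <;> simp [zb_zero, zb_one, h]

/-- The hypotheses with coordinates on `Q/⟨z⟩` and the action of the centraliser. -/
structure Su (z : G) (Q : Subgroup G) (π : G → V) (ρ : G → V → V) : Prop where
  loc : XSLocal Q z
  card : Nat.card Q = 512
  pi_mul : ∀ x ∈ Q, ∀ y ∈ Q, π (x * y) = π x + π y
  pi_eq : ∀ x ∈ Q, π x = 0 ↔ x = 1 ∨ x = z
  pi_surj : ∀ v : V, ∃ x ∈ Q, π x = v
  sq : ∀ x ∈ Q, x * x = zb z (q (π x))
  conj : ∀ h, h * z = z * h → ∀ x ∈ Q, π (h * x * h⁻¹) = ρ h (π x)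
  ker : ∀ h, h * z = z * h → ((∀ v, ρ h v = v) ↔ h ∈ Q)
  om : ∀ h, h * z = z * h → IsOm (ρ h)
  lift : ∀ f, IsOm f → ∃ h, h * z = z * h ∧ ρ h = f

namespace Su

variable [Finite G] {z : G} {Q : Subgroup G} {π : G → V} {ρ : G → V → V} (S : Su z Q π ρ)
include S

theorem pi_one : π 1 = 0 := (S.pi_eq 1 Q.one_mem).2 (Or.inl rfl)

theorem pi_z : π z = 0 := (S.pi_eq z S.loc.mem).2 (Or.inr rfl)

theorem pi_inv {x : G} (hx : x ∈ Q) : π x⁻¹ = π x := by
  have h := S.pi_mul x hx x⁻¹ (Q.inv_mem hx)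
  rw [mul_inv_cancel, S.pi_one] at h
  calc π x⁻¹ = π x + (π x + π x⁻¹) := by rw [← add_assoc, add_self, zero_add]
    _ = π x := by rw [← h, add_zero]

theorem eq_of_pi {x y : G} (hx : x ∈ Q) (hy : y ∈ Q) (h : π x = π y) : x = y ∨ x = y * z := by
  have h1 : π (y⁻¹ * x) = 0 := by
    rw [S.pi_mul _ (Q.inv_mem hy) _ hx, S.pi_inv hy, h, add_self]
  rcases (S.pi_eq _ (Q.mul_mem (Q.inv_mem hy) hx)).1 h1 with e | e
  · exact Or.inl (inv_mul_eq_one.1 e).symm
  · exact Or.inr (by rw [← e, mul_inv_cancel_left])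

theorem Qz {x : G} (hx : x ∈ Q) : x * z = z * x := S.loc.comm hx

theorem conj_mem {h x : G} (hh : h * z = z * h) (hx : x ∈ Q) : h * x * h⁻¹ ∈ Q :=
  LargeExtra.conj_mem (S.loc.norm (mem_centralizer_one.2 hh)) hx

theorem rule {x y : G} (hx : x ∈ Q) (hy : y ∈ Q) : x * y = y * x * zb z (bil (π x) (π y)) := by
  have h := S.sq (x * y) (Q.mul_mem hx hy)
  rw [S.pi_mul x hx y hy, q_add, zb_add S.loc.sq, zb_add S.loc.sq, ← S.sq x hx, ← S.sq y hy] at h
  have hc := zb_comm (S.Qz hx) (bil (π x) (π y))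
  have hc' := zb_comm (S.Qz hy) (bil (π x) (π y))
  have h1 : y * x * y = x * y * zb z (bil (π x) (π y)) * y := by
    calc y * x * y = x⁻¹ * (x * y * (x * y)) := by group
      _ = x * (y * (y * zb z (bil (π x) (π y)))) := by rw [h]; group
      _ = x * y * zb z (bil (π x) (π y)) * y := by rw [hc']; group
  have h2 := mul_right_cancel h1
  rw [h2, mul_assoc (x * y), ← zb_add S.loc.sq,
    show ∀ c : F, c + c = 0 by decide, zb_zero, mul_one]

theorem comm_iff {x y : G} (hx : x ∈ Q) (hy : y ∈ Q) : x * y = y * x ↔ bil (π x) (π y) = 0 := by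
  constructor
  · intro h
    rcases F_cases (bil (π x) (π y)) with e | e
    · exact e
    · exfalso
      have h2 := S.rule hx hy
      rw [e, zb_one, ← h] at h2
      exact S.loc.ne_mul_z _ h2
  · intro e
    rw [S.rule hx hy, e, zb_zero, mul_one]

theorem rho_mul {a b : G} (ha : a * z = z * a) (hb : b * z = z * b) (v : V) :
    ρ (a * b) v = ρ a (ρ b v) := by
  obtain ⟨x, hx, rfl⟩ := S.pi_surj v
  have hab : a * b * z = z * (a * b) := by rw [mul_assoc, hb, ← mul_assoc, ha, mul_assoc]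
  rw [← S.conj _ hab x hx, ← S.conj b hb x hx, ← S.conj a ha _ (S.conj_mem hb hx)]
  congr 1
  group

theorem rho_one (v : V) : ρ 1 v = v := (S.ker 1 (by simp)).2 Q.one_mem v

theorem rho_add {h : G} (hh : h * z = z * h) (u v : V) : ρ h (u + v) = ρ h u + ρ h v := by
  obtain ⟨x, hx, rfl⟩ := S.pi_surj u
  obtain ⟨y, hy, rfl⟩ := S.pi_surj v
  rw [← S.pi_mul x hx y hy, ← S.conj h hh _ (Q.mul_mem hx hy), ← S.conj h hh x hx,
    ← S.conj h hh y hy, ← S.pi_mul _ (S.conj_mem hh hx) _ (S.conj_mem hh hy)]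
  congr 1
  group

theorem rho_q {h : G} (hh : h * z = z * h) (v : V) : q (ρ h v) = q v := by
  obtain ⟨x, hx, rfl⟩ := S.pi_surj v
  rw [← S.conj h hh x hx]
  have h1 := S.sq _ (S.conj_mem hh hx)
  rw [show h * x * h⁻¹ * (h * x * h⁻¹) = h * (x * x) * h⁻¹ by group, S.sq x hx,
    zb_comm hh, mul_inv_cancel_right] at h1
  rcases F_cases (q (π x)) with e | e <;> rcases F_cases (q (π (h * x * h⁻¹))) with e' | e' <;>
    rw [e, e'] at h1 ⊢ <;> simp only [zb_zero, zb_one] at h1
  · exact absurd h1.symm S.loc.ne_one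
  · exact absurd h1 S.loc.ne_one

theorem rho_bil {h : G} (hh : h * z = z * h) (u v : V) : bil (ρ h u) (ρ h v) = bil u v := by
  have h7 := S.rho_q hh (u + v)
  rw [S.rho_add hh, q_add, S.rho_q hh, S.rho_q hh, q_add] at h7
  exact add_left_cancel h7

theorem rho_inj {h : G} (hh : h * z = z * h) {u v : V} (e : ρ h u = ρ h v) : u = v := by
  have hi : h⁻¹ * z = z * h⁻¹ := ((show Commute h z from hh).inv_left).eq
  have h2 := congrArg (ρ h⁻¹) e
  rwa [← S.rho_mul hi hh, ← S.rho_mul hi hh, inv_mul_cancel, S.rho_one, S.rho_one] at h2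

theorem rho_zero {h : G} (hh : h * z = z * h) : ρ h 0 = 0 := by
  have := S.rho_add hh 0 0
  rw [add_zero] at this
  exact left_eq_add.1 this

/-- A non-central element of `Q` has centraliser of order 256 in `Q`. -/
theorem card_cent {t : G} (ht : t ∈ Q) (h1 : π t ≠ 0) :
    Nat.card ↥(Q ⊓ centralizer ({t} : Set G)) = 256 := by
  let f : Q →* Multiplicative F := MonoidHom.mk' (fun x => Multiplicative.ofAdd (bil (π x) (π t)))
    fun x y => by
      show Multiplicative.ofAdd (bil (π ((x : G) * y)) (π t)) = _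
      rw [S.pi_mul x x.2 y y.2, bil_add_left]
      rfl
  have hsurj : Function.Surjective f := fun c => by
    rcases F_cases (Multiplicative.toAdd c) with e | e
    · exact ⟨1, by
        show Multiplicative.ofAdd (bil (π 1) (π t)) = c
        rw [S.pi_one, bil_zero_left, ← e]; rfl⟩
    · obtain ⟨v, hv⟩ := exists_bil_one h1
      obtain ⟨x, hx, rfl⟩ := S.pi_surj v
      exact ⟨⟨x, hx⟩, by
        show Multiplicative.ofAdd (bil (π x) (π t)) = c
        rw [bil_comm, hv, ← e]; rfl⟩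
  have hk : f.ker.map Q.subtype = Q ⊓ centralizer ({t} : Set G) := by
    ext x
    constructor
    · rintro ⟨y, hy, rfl⟩
      exact ⟨y.2, mem_centralizer_one.2 ((S.comm_iff y.2 ht).2 hy)⟩
    · rintro ⟨hx, hxt⟩
      exact ⟨⟨x, hx⟩, (S.comm_iff hx ht).1 (mem_centralizer_one.1 hxt), rfl⟩
  have h2 := f.ker.card_mul_index
  rw [index_ker, MonoidHom.range_eq_top.2 hsurj, card_top, S.card] at h2
  rw [← hk, card_map_of_injective Q.subtype_injective]
  rw [show Nat.card (Multiplicative F) = 2 by simp [Nat.card_eq_fintype_card]] at h2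
  omega

theorem zpi {h : G} (hh : h * z = z * h) : h * z * h⁻¹ = z := mul_inv_eq_iff_eq_mul.2 hh

theorem comm_inv {h : G} (hh : h * z = z * h) : h⁻¹ * z = z * h⁻¹ :=
  ((show Commute h z from hh).inv_left).eq

theorem comm_mul {a b : G} (ha : a * z = z * a) (hb : b * z = z * b) : a * b * z = z * (a * b) :=
  ((show Commute a z from ha).mul_left hb).eq

theorem rho_Q {x : G} (hx : x ∈ Q) (v : V) : ρ x v = v := (S.ker x (S.Qz hx)).2 hx v

theorem rho_invol {t : G} (ht : t * z = z * t) (h2 : t * t ∈ Q) (v : V) : ρ t (ρ t v) = v := by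
  rw [← S.rho_mul ht ht, S.rho_Q h2]

theorem conj_Q {y x : G} (hy : y ∈ Q) (hx : x ∈ Q) :
    y * x * y⁻¹ = x * zb z (bil (π y) (π x)) := by
  rw [S.rule hy hx, mul_assoc, ← zb_comm (S.Qz (Q.inv_mem hy)), ← mul_assoc,
    mul_inv_cancel_right]

theorem sing_of {x : G} (hx : x ∈ Q) (h : x * x = 1) : q (π x) = 0 := by
  rcases F_cases (q (π x)) with e | e
  · exact e
  · exfalso
    have h' := S.sq x hx
    rw [h, e, zb_one] at h'
    exact S.loc.ne_one h'.symm

theorem card_conj (k : G) : 32 ≤ Nat.card ↥(Q.map (MulAut.conj k).toMonoidHom) := by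
  rw [card_map_of_injective (MulAut.conj k).injective, S.card]; norm_num

end Su

end Cfsg.Agent.CoT
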