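import Mathlib.Data.ZMod.Basic
import Mathlib.Algebra.Group.Prod
import Mathlib.Tactic

/-!
The eight-dimensional hyperbolic space over the field with two elements: vectors and elementary maps.
-/

set_option autoImplicit false
set_option maxRecDepth 20000
set_option synthInstance.maxSize 4000
set_option synthInstance.maxHeartbeats 400000

namespace Cfsg.Agent.CoT

local notation "F" => ZMod 2

/-- The six-dimensional space. -/
abbrev W := (F × F) × ((F × F) × (F × F))

/-- The space `⟨e₀, f₀⟩ ⊥ W`. -/
abbrev V := (F × F) × W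

/-- The quadratic form. -/
def q (v : V) : F :=
  v.1.1 * v.1.2 + v.2.1.1 * v.2.1.2 + v.2.2.1.1 * v.2.2.1.2 + v.2.2.2.1 * v.2.2.2.2

/-- Its polar form. -/
def bil (u v : V) : F :=
  u.1.1 * v.1.2 + u.1.2 * v.1.1 + (u.2.1.1 * v.2.1.2 + u.2.1.2 * v.2.1.1) +
    (u.2.2.1.1 * v.2.2.1.2 + u.2.2.1.2 * v.2.2.1.1) +
    (u.2.2.2.1 * v.2.2.2.2 + u.2.2.2.2 * v.2.2.2.1)

/-- Scalar multiple. -/
def sm (c : F) (v : V) : V := if c = 0 then 0 else v

/-- A vector of the standard basis. -/
def e0 : V := ((1, 0), ((0, 0), ((0, 0), (0, 0))))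
/-- A vector of the standard basis. -/
def f0 : V := ((0, 1), ((0, 0), ((0, 0), (0, 0))))
/-- A vector of the standard basis. -/
def e1 : V := ((0, 0), ((1, 0), ((0, 0), (0, 0))))
/-- A vector of the standard basis. -/
def f1 : V := ((0, 0), ((0, 1), ((0, 0), (0, 0))))
/-- A vector of the standard basis. -/
def e2 : V := ((0, 0), ((0, 0), ((1, 0), (0, 0))))
/-- A vector of the standard basis. -/
def f2 : V := ((0, 0), ((0, 0), ((0, 1), (0, 0))))
/-- A vector of the standard basis. -/
def e3 : V := ((0, 0), ((0, 0), ((0, 0), (1, 0))))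
/-- A vector of the standard basis. -/
def f3 : V := ((0, 0), ((0, 0), ((0, 0), (0, 1))))

/-- Inclusion of `W`. -/
def inW (w : W) : V := ((0, 0), w)

/-- The transvection at a vector. -/
def tr (a x : V) : V := x + sm (bil x a) a

/-- The Siegel transformation. -/
def sg (e v x : V) : V := x + sm (bil x v) e + sm (bil x e) (v + sm (q v) e)

/-- Equality modulo a vector. -/
def Eqv (e u v : V) : Prop := u = v ∨ u = v + e

instance (e u v : V) : Decidable (Eqv e u v) := by unfold Eqv; infer_instance

/-- The criterion for lying in the radical of the stabiliser of the vector `e`. -/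
def InRad (f : V → V) (e : V) : Prop :=
  q e = 0 ∧ e ≠ 0 ∧ f e = e ∧ ∀ x, bil x e = 0 → Eqv e (f x) x

theorem F_cases : ∀ c : F, c = 0 ∨ c = 1 := by decide

theorem F_add_self : ∀ c : F, c + c = 0 := by decide

theorem F_mul_self : ∀ c : F, c * c = c := by decide

theorem F_eq_of_add : ∀ c d : F, c + d = 0 → c = d := by decide

theorem q_add (u v : V) : q (u + v) = q u + q v + bil u v := by
  simp only [q, bil, Prod.fst_add, Prod.snd_add]; ring

theorem q_zero : q 0 = 0 := by simp [q]

theorem bil_comm (u v : V) : bil u v = bil v u := by simp only [bil]; ring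

theorem bil_add_left (u v w : V) : bil (u + v) w = bil u w + bil v w := by
  simp only [bil, Prod.fst_add, Prod.snd_add]; ring

theorem bil_add_right (u v w : V) : bil u (v + w) = bil u v + bil u w := by
  simp only [bil, Prod.fst_add, Prod.snd_add]; ring

theorem bil_self (u : V) : bil u u = 0 := by
  simp only [bil]
  generalize u.1.1 = a, u.1.2 = b, u.2.1.1 = c, u.2.1.2 = d, u.2.2.1.1 = a', u.2.2.1.2 = b',
    u.2.2.2.1 = c', u.2.2.2.2 = d'
  rw [mul_comm b a, mul_comm d c, mul_comm b' a', mul_comm d' c']
  simp only [F_add_self, add_zero]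

theorem add_self (u : V) : u + u = 0 := by
  simp [Prod.ext_iff, F_add_self]

theorem w_add_self (u : W) : u + u = 0 := by simp [Prod.ext_iff, F_add_self]

theorem add_cancel (u v : V) : u + v + v = u := by rw [add_assoc, add_self, add_zero]

theorem eq_of_add {u v : V} (h : u + v = 0) : u = v := by
  calc u = u + v + v := (add_cancel u v).symm
    _ = v := by rw [h, zero_add]

theorem bil_zero_left (u : V) : bil 0 u = 0 := by simp [bil]

theorem bil_zero_right (u : V) : bil u 0 = 0 := by simp [bil]

theorem sm_zero (v : V) : sm 0 v = 0 := if_pos rfl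

theorem sm_one (v : V) : sm 1 v = v := if_neg one_ne_zero

theorem sm_smul (c : F) (v : V) : sm c v = c • v := by
  rcases F_cases c with rfl | rfl
  · rw [sm_zero, zero_smul]
  · rw [sm_one, one_smul]

theorem sm_add (c d : F) (v : V) : sm (c + d) v = sm c v + sm d v := by
  rw [sm_smul, sm_smul, sm_smul, add_smul]

theorem sm_add_right (c : F) (u v : V) : sm c (u + v) = sm c u + sm c v := by
  rw [sm_smul, sm_smul, sm_smul, smul_add]

theorem sm_sm (c d : F) (v : V) : sm c (sm d v) = sm (c * d) v := by
  rw [sm_smul, sm_smul, sm_smul, mul_smul]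

theorem bil_sm_left (c : F) (u v : V) : bil (sm c u) v = c * bil u v := by
  rcases F_cases c with rfl | rfl
  · rw [sm_zero, bil_zero_left, zero_mul]
  · rw [sm_one, one_mul]

theorem bil_sm_right (c : F) (u v : V) : bil u (sm c v) = c * bil u v := by
  rw [bil_comm, bil_sm_left, bil_comm]

theorem q_sm (c : F) (v : V) : q (sm c v) = c * q v := by
  rcases F_cases c with rfl | rfl
  · rw [sm_zero, q_zero, zero_mul]
  · rw [sm_one, one_mul]

theorem tr_add (a x y : V) : tr a (x + y) = tr a x + tr a y := by
  simp only [tr, bil_add_left, sm_add]; abel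

theorem tr_fix {a x : V} (h : bil x a = 0) : tr a x = x := by rw [tr, h, sm_zero, add_zero]

theorem tr_move {a x : V} (h : bil x a = 1) : tr a x = x + a := by rw [tr, h, sm_one]

theorem tr_tr {a : V} (x : V) : tr a (tr a x) = x := by
  show x + sm (bil x a) a + sm (bil (x + sm (bil x a) a) a) a = x
  rw [bil_add_left, bil_sm_left, bil_self, mul_zero, add_zero, add_cancel]

theorem tr_q {a : V} (x : V) (ha : q a = 1) : q (tr a x) = q x := by
  rw [tr, q_add, q_sm, bil_sm_right, ha, mul_one, F_mul_self, add_assoc, F_add_self, add_zero]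

theorem sg_add (e v x y : V) : sg e v (x + y) = sg e v x + sg e v y := by
  simp only [sg, bil_add_left, sm_add]; abel

theorem sg_perp {e v x : V} (h : bil x e = 0) : sg e v x = x + sm (bil x v) e := by
  rw [sg, h, sm_zero, add_zero]

theorem sg_self {e v : V} (hv : bil v e = 0) : sg e v e = e := by
  rw [sg_perp (bil_self e), bil_comm, hv, sm_zero, add_zero]

theorem sg_zero (e x : V) : sg e 0 x = x := by
  simp [sg, q_zero, bil_zero_right, sm_zero, sm]

theorem sg_sg {e v w : V} (he : q e = 0) (hv : bil v e = 0) (hw : bil w e = 0) (x : V) :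
    sg e v (sg e w x) = sg e (v + w) x := by
  have h1 : bil (sg e w x) e = bil x e := by
    simp only [sg, bil_add_left, bil_sm_left, bil_self, hw, mul_zero, add_zero]
  have h2 : bil (sg e w x) v = bil x v + bil x e * bil w v := by
    simp only [sg, bil_add_left, bil_sm_left, bil_comm e v, hv, mul_zero, add_zero]
  have h3 : q (v + w) = q v + q w + bil v w := q_add v w
  show sg e w x + sm (bil (sg e w x) v) e + sm (bil (sg e w x) e) (v + sm (q v) e) = _
  rw [h1, h2, bil_comm w v]
  show x + sm (bil x w) e + sm (bil x e) (w + sm (q w) e) + _ + _ = _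
  simp only [sg, h3, bil_add_right, sm_add, sm_add_right, sm_sm, mul_add]
  abel

theorem sg_eq_tr {e v : V} (he : q e = 0) (hv : bil v e = 0) (hq : q v = 1) (x : V) :
    sg e v x = tr v (tr (v + e) x) := by
  have h1 : bil (tr (v + e) x) v = bil x v := by
    rw [tr, bil_add_left, bil_sm_left, bil_add_left, bil_self, bil_comm e v, hv, add_zero, mul_zero,
      add_zero]
  show _ = tr (v + e) x + sm (bil (tr (v + e) x) v) v
  rw [h1, sg, hq, sm_one, tr, bil_add_right]
  simp only [sm_add, sm_add_right]
  have := add_self (sm (bil x v) v)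
  calc x + sm (bil x v) e + (sm (bil x e) v + sm (bil x e) e)
      = x + sm (bil x v) e + (sm (bil x e) v + sm (bil x e) e) + (sm (bil x v) v + sm (bil x v) v) := by
        rw [this, add_zero]
    _ = _ := by abel

theorem Eqv.refl (e u : V) : Eqv e u u := Or.inl rfl

theorem Eqv.symm {e u v : V} (h : Eqv e u v) : Eqv e v u := by
  rcases h with rfl | rfl
  · exact Or.inl rfl
  · exact Or.inr (add_cancel v e).symm

theorem Eqv.trans {e u v w : V} (h : Eqv e u v) (h' : Eqv e v w) : Eqv e u w := by
  rcases h with rfl | rfl <;> rcases h' with rfl | rfl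
  · exact Or.inl rfl
  · exact Or.inr rfl
  · exact Or.inr rfl
  · exact Or.inl (add_cancel w e)

theorem Eqv.bil_eq {e u v x : V} (h : Eqv e u v) (hx : bil x e = 0) : bil x u = bil x v := by
  rcases h with rfl | rfl
  · rfl
  · rw [bil_add_right, hx, add_zero]

theorem Eqv.q_eq {e u v : V} (h : Eqv e u v) (he : q e = 0) (hv : bil v e = 0) : q u = q v := by
  rcases h with rfl | rfl
  · rfl
  · rw [q_add, he, hv, add_zero, add_zero]

theorem Eqv.perp {e u v : V} (h : Eqv e u v) (hv : bil v e = 0) : bil u e = 0 := by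
  rcases h with rfl | rfl
  · exact hv
  · rw [bil_add_left, hv, bil_self, add_zero]

theorem Eqv.add {e u v u' v' : V} (h : Eqv e u v) (h' : Eqv e u' v') : Eqv e (u + u') (v + v') := by
  rcases h with rfl | rfl <;> rcases h' with rfl | rfl
  · exact Or.inl rfl
  · exact Or.inr (by abel)
  · exact Or.inr (by abel)
  · exact Or.inl (by rw [show v + e + (v' + e) = v + v' + (e + e) by abel, add_self, add_zero])

theorem Eqv.iff_add {e u v : V} : Eqv e u v ↔ u + v = 0 ∨ u + v = e := by
  constructor
  · rintro (rfl | rfl)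
    · exact Or.inl (add_self u)
    · exact Or.inr (by rw [show v + e + v = v + v + e by abel, add_self, zero_add])
  · rintro (h | h)
    · exact Or.inl (eq_of_add h)
    · exact Or.inr (by rw [← h, show v + (u + v) = u + (v + v) by abel, add_self, add_zero])

theorem sg_congr {e v v' : V} (he : q e = 0) (hv' : bil v' e = 0) (h : Eqv e v v') (x : V) :
    sg e v x = sg e v' x := by
  rcases h with rfl | rfl
  · rfl
  · rw [sg, sg, q_add, he, hv', add_zero, add_zero, bil_add_right]
    simp only [sm_add, sm_add_right]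
    have := add_self (sm (bil x e) e)
    calc x + (sm (bil x v') e + sm (bil x e) e) + (sm (bil x e) v' + sm (bil x e) e +
          sm (bil x e) (sm (q v') e))
        = x + sm (bil x v') e + (sm (bil x e) v' + sm (bil x e) (sm (q v') e)) +
          (sm (bil x e) e + sm (bil x e) e) := by abel
      _ = _ := by rw [this, add_zero]

theorem bil_nondeg {u : V} (h : ∀ v, bil u v = 0) : u = 0 := by
  have h1 := h e0; have h2 := h f0; have h3 := h e1; have h4 := h f1
  have h5 := h e2; have h6 := h f2; have h7 := h e3; have h8 := h f3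
  simp [bil, e0, f0, e1, f1, e2, f2, e3, f3] at h1 h2 h3 h4 h5 h6 h7 h8
  simp [Prod.ext_iff, h1, h2, h3, h4, h5, h6, h7, h8]

theorem exists_bil_one {u : V} (h : u ≠ 0) : ∃ v, bil u v = 1 := by
  by_contra hc
  push Not at hc
  exact h (bil_nondeg fun v => (F_cases _).resolve_right (hc v))

/-- The vector representing a linear functional. -/
def repr (l : V → F) : V :=
  ((l f0, l e0), ((l f1, l e1), ((l f2, l e2), (l f3, l e3))))

theorem repr_spec (l : V → F) (hl : ∀ u v, l (u + v) = l u + l v) (x : V) :
    l x = bil x (repr l) := by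
  have h0 : l 0 = 0 := by
    have := hl 0 0
    rw [add_zero] at this
    exact left_eq_add.1 this
  have hs : ∀ (c : F) (u : V), l (sm c u) = c * l u := fun c u => by
    rcases F_cases c with rfl | rfl
    · rw [sm_zero, h0, zero_mul]
    · rw [sm_one, one_mul]
  have hx : x = sm x.1.1 e0 + sm x.1.2 f0 + sm x.2.1.1 e1 + sm x.2.1.2 f1 + sm x.2.2.1.1 e2 +
      sm x.2.2.1.2 f2 + sm x.2.2.2.1 e3 + sm x.2.2.2.2 f3 := by
    simp [sm_smul, e0, f0, e1, f1, e2, f2, e3, f3, Prod.ext_iff]
  conv_lhs => rw [hx]
  simp only [hl, hs, bil, repr]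
  ring

theorem eq_of_perp_eq {u v : V} (h : ∀ x, bil x u = bil x v) : u = v :=
  eq_of_add (bil_nondeg fun x => by rw [bil_comm, bil_add_right, h, F_add_self])

theorem sg_inj {e v v' : V} (he : e ≠ 0) (hv : bil v e = 0) (hv' : bil v' e = 0)
    (h : ∀ x, sg e v x = sg e v' x) : Eqv e v v' := by
  have h1 : ∀ x, bil x e = 0 → bil x (v + v') = 0 := fun x hx => by
    have h2 := h x
    rw [sg_perp hx, sg_perp hx] at h2
    rw [bil_add_right]
    rcases F_cases (bil x v) with a | a <;> rcases F_cases (bil x v') with b | b <;> rw [a, b] at h2 ⊢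
    · rfl
    · rw [sm_zero, sm_one] at h2; exact absurd (add_left_cancel h2).symm he
    · rw [sm_zero, sm_one] at h2; exact absurd (add_left_cancel h2) he
    · rfl
  obtain ⟨y, hy⟩ := exists_bil_one he
  rw [Eqv.iff_add]
  rcases F_cases (bil y (v + v')) with hc | hc
  · left
    refine bil_nondeg fun x => ?_
    rw [bil_comm]
    rcases F_cases (bil x e) with a | a
    · exact h1 x a
    · have := h1 (x + y) (by rw [bil_add_left, a, bil_comm, hy]; rfl)
      rwa [bil_add_left, hc, add_zero] at this
  · right
    refine eq_of_perp_eq fun x => ?_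
    rcases F_cases (bil x e) with a | a
    · rw [a, h1 x a]
    · have := h1 (x + y) (by rw [bil_add_left, a, bil_comm, hy]; rfl)
      rw [bil_add_left, hc] at this
      rw [a]; exact F_eq_of_add _ _ this

end Cfsg.Agent.CoT
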